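import Mathlib
import Cfsg.Prelude.Def_LocalStructure

set_option autoImplicit false

namespace Cfsg.Agent.Lib.Helper48.LLemma

open Subgroup
open scoped Pointwise

variable {H : Type*} [Group H]

/-! ### conjugation basics -/

theorem conj_smul_le_iff {g : H} {A B : Subgroup H} :
    MulAut.conj g • A ≤ B ↔ A ≤ MulAut.conj g⁻¹ • B := by
  rw [map_inv]
  exact Subgroup.pointwise_smul_subset_iff

theorem le_conj_smul_iff {g : H} {A B : Subgroup H} :
    A ≤ MulAut.conj g • B ↔ MulAut.conj g⁻¹ • A ≤ B := by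
  rw [map_inv]
  exact Subgroup.subset_pointwise_smul_iff

theorem conj_smul_mono {g : H} {A B : Subgroup H} (h : A ≤ B) :
    MulAut.conj g • A ≤ MulAut.conj g • B :=
  pointwise_smul_le_pointwise_smul_iff.mpr h

theorem conj_mul_smul (a b : H) (A : Subgroup H) :
    MulAut.conj (a * b) • A = MulAut.conj a • MulAut.conj b • A := by
  rw [map_mul, mul_smul]

theorem conj_smul_of_mem_normalizer {g : H} {A : Subgroup H}
    (hg : g ∈ normalizer (A : Set H)) : MulAut.conj g • A = A :=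
  mem_normalizer_iff_map_conj_eq.mp hg

theorem mem_normalizer_of_conj_smul {g : H} {A : Subgroup H}
    (hg : MulAut.conj g • A = A) : g ∈ normalizer (A : Set H) :=
  mem_normalizer_iff_map_conj_eq.mpr hg

theorem conj_smul_of_normal {A : Subgroup H} (hA : A.Normal) (g : H) : MulAut.conj g • A = A :=
  conj_smul_of_mem_normalizer (by rw [normalizer_eq_top_iff.mpr hA]; trivial)

theorem conj_smul_le_of_mem {A L : Subgroup H} (hA : A ≤ L) {x : H} (hx : x ∈ L) :
    MulAut.conj x • A ≤ L := by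
  calc MulAut.conj x • A ≤ MulAut.conj x • L := conj_smul_mono hA
    _ = L := conj_smul_of_mem_normalizer (le_normalizer hx)

theorem mem_normalizer_of_forall_le {A : Subgroup H} {x : H}
    (h1 : MulAut.conj x • A ≤ A) (h2 : MulAut.conj x⁻¹ • A ≤ A) :
    x ∈ normalizer (A : Set H) := by
  apply mem_normalizer_of_conj_smul
  exact le_antisymm h1 (le_conj_smul_iff.mpr h2)

theorem isPGroup_conj {p : ℕ} {A : Subgroup H} (hA : IsPGroup p A) (g : H) :
    IsPGroup p (MulAut.conj g • A : Subgroup H) :=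
  hA.map (MulAut.conj g).toMonoidHom

theorem conj_smul_eq_map (g : H) (A : Subgroup H) :
    MulAut.conj g • A = A.map (MulAut.conj g).toMonoidHom := rfl

/-! ### the `p`-core -/

theorem pCore_le_sylow (p : ℕ) (P : Sylow p H) : Cfsg.pCore p H ≤ (P : Subgroup H) := by
  apply sSup_le
  rintro N ⟨hN, hp⟩
  have h1 : IsPGroup p ((P : Subgroup H) ⊔ N : Subgroup H) :=
    P.isPGroup'.to_sup_of_normal_right hp
  have h2 := P.is_maximal' h1 le_sup_left
  calc N ≤ (P : Subgroup H) ⊔ N := le_sup_right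
    _ = P := h2

theorem pCore_isPGroup (p : ℕ) [Fact p.Prime] [Finite H] : IsPGroup p (Cfsg.pCore p H) := by
  obtain ⟨P⟩ := (inferInstance : Nonempty (Sylow p H))
  exact P.isPGroup'.to_le (pCore_le_sylow p P)

theorem le_pCore {p : ℕ} {N : Subgroup H} (hN : N.Normal) (hp : IsPGroup p N) :
    N ≤ Cfsg.pCore p H :=
  le_sSup ⟨hN, hp⟩

theorem pCore_conj (p : ℕ) (g : H) : MulAut.conj g • Cfsg.pCore p H ≤ Cfsg.pCore p H := by
  rw [conj_smul_le_iff]
  apply sSup_le
  rintro N ⟨hN, hp⟩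
  rw [← conj_smul_le_iff, conj_smul_of_normal hN]
  exact le_pCore hN hp

theorem pCore_normal (p : ℕ) : (Cfsg.pCore p H).Normal := by
  rw [← normalizer_eq_top_iff]
  rw [eq_top_iff]
  intro x _
  exact mem_normalizer_of_forall_le (pCore_conj p x) (pCore_conj p x⁻¹)

theorem pCoreOf_le (p : ℕ) (L : Subgroup H) : Cfsg.pCoreOf p L ≤ L := by
  unfold Cfsg.pCoreOf
  exact map_subtype_le _

theorem pCoreOf_isPGroup (p : ℕ) [Fact p.Prime] (L : Subgroup H) [Finite L] :
    IsPGroup p (Cfsg.pCoreOf p L) := by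
  unfold Cfsg.pCoreOf
  exact (pCore_isPGroup p).map L.subtype

theorem pCoreOf_conj (p : ℕ) (L : Subgroup H) {x : H} (hx : x ∈ L) :
    MulAut.conj x • Cfsg.pCoreOf p L ≤ Cfsg.pCoreOf p L := by
  unfold Cfsg.pCoreOf
  rintro y hy
  rw [mem_pointwise_smul_iff_inv_smul_mem] at hy
  obtain ⟨z, hz, hzy⟩ := hy
  have hn := pCore_normal (H := L) p
  refine ⟨⟨x, hx⟩ * z * ⟨x, hx⟩⁻¹, hn.conj_mem z hz _, ?_⟩
  simp only [coe_subtype, coe_mul, InvMemClass.coe_inv] at hzy ⊢
  rw [hzy]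
  simp [MulAut.smul_def, mul_assoc]

theorem le_normalizer_pCoreOf (p : ℕ) (L : Subgroup H) :
    L ≤ normalizer (Cfsg.pCoreOf p L : Set H) := by
  intro x hx
  exact mem_normalizer_of_forall_le (pCoreOf_conj p L hx) (pCoreOf_conj p L (inv_mem hx))

theorem le_pCoreOf {p : ℕ} {N L : Subgroup H} (hNL : N ≤ L) (hp : IsPGroup p N)
    (hL : L ≤ normalizer (N : Set H)) : N ≤ Cfsg.pCoreOf p L := by
  have h1 : (N.subgroupOf L).Normal := (normal_subgroupOf_iff_le_normalizer hNL).mpr hL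
  have h2 : IsPGroup p (N.subgroupOf L) := hp.comap_subtype
  have h3 : N.subgroupOf L ≤ Cfsg.pCore p L := le_pCore h1 h2
  intro x hx
  exact ⟨⟨x, hNL hx⟩, h3 (mem_subgroupOf.mpr hx), rfl⟩

/-! ### normalizer growth in `p`-groups -/

theorem eq_of_normalizer_growth {p : ℕ} [Fact p.Prime] [Finite H] {Q A' : Subgroup H}
    (hQ : IsPGroup p Q) (hA : A' ≤ Q)
    (h : ∀ x ∈ Q, x ∈ normalizer (A' : Set H) → x ∈ A') : A' = Q := by
  by_contra hne
  haveI : Group.IsNilpotent Q := hQ.isNilpotent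
  have h1 : A'.subgroupOf Q < ⊤ := by
    rw [lt_top_iff_ne_top]
    intro h2
    rw [subgroupOf_eq_top] at h2
    exact hne (le_antisymm hA h2)
  have h2 := normalizerCondition_of_isNilpotent (G := Q) (A'.subgroupOf Q) h1
  obtain ⟨x, hx1, hx2⟩ := SetLike.exists_of_lt h2
  apply hx2
  rw [mem_subgroupOf]
  apply h x x.2
  rw [mem_normalizer_iff] at hx1 ⊢
  intro y
  constructor
  · intro hy
    have := (hx1 ⟨y, hA hy⟩).mp (mem_subgroupOf.mpr hy)
    simpa [mem_subgroupOf] using this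
  · intro hy
    have hyQ : y ∈ Q := by
      have h3 : (x : H) * y * (x : H)⁻¹ ∈ Q := hA hy
      have := Q.mul_mem (Q.mul_mem (Q.inv_mem x.2) h3) x.2
      simpa [mul_assoc] using this
    have := (hx1 ⟨y, hyQ⟩).mpr (by simpa [mem_subgroupOf] using hy)
    simpa [mem_subgroupOf] using this

/-! ### points: the conjugates of `M` -/

/-- the conjugates of `M`. -/
def IsPt (M K : Subgroup H) : Prop := ∃ g : H, K = MulAut.conj g • M

theorem IsPt.conj {M K : Subgroup H} (h : IsPt M K) (x : H) : IsPt M (MulAut.conj x • K) := by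
  obtain ⟨g, rfl⟩ := h
  exact ⟨x * g, (conj_mul_smul x g M).symm⟩

theorem conj_inv_smul_conj_smul (g : H) (A : Subgroup H) :
    MulAut.conj g⁻¹ • MulAut.conj g • A = A := by
  rw [map_inv, inv_smul_smul]

theorem conj_smul_conj_inv_smul (g : H) (A : Subgroup H) :
    MulAut.conj g • MulAut.conj g⁻¹ • A = A := by
  rw [map_inv, smul_inv_smul]

theorem isCoatom_conj {M : Subgroup H} (hM : IsCoatom M) (g : H) :
    IsCoatom (MulAut.conj g • M) := by
  constructor
  · intro h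
    apply hM.1
    rw [eq_top_iff] at h ⊢
    have := conj_smul_mono (g := g⁻¹) h
    rw [conj_inv_smul_conj_smul] at this
    refine le_trans ?_ this
    rw [← conj_smul_le_iff]
    exact le_top
  · intro B hB
    have h1 : M < MulAut.conj g⁻¹ • B := by
      refine lt_of_le_of_ne (conj_smul_le_iff.mp hB.le) ?_
      intro h2
      apply hB.ne
      rw [h2, conj_smul_conj_inv_smul]
    have h2 := hM.2 _ h1
    rw [eq_top_iff] at h2 ⊢
    have := conj_smul_mono (g := g) h2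
    rw [conj_smul_conj_inv_smul] at this
    exact le_trans (le_conj_smul_iff.mpr le_top) this

/-- the standing hypotheses: `T` is a Sylow subgroup generating `H` with its conjugates and
lying in the unique maximal subgroup `M`. -/
structure Setup (p : ℕ) (T : Sylow p H) (M : Subgroup H) : Prop where
  ncl : normalClosure ((T : Subgroup H) : Set H) = ⊤
  coatom : IsCoatom M
  le : (T : Subgroup H) ≤ M
  uniq : ∀ C : Subgroup H, IsCoatom C → (T : Subgroup H) ≤ C → C = M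

section points

variable {p : ℕ} [Fact p.Prime] [Finite H] {T : Sylow p H} {M : Subgroup H}

theorem sylow_eq_conj (T S : Sylow p H) :
    ∃ g : H, (S : Subgroup H) = MulAut.conj g • (T : Subgroup H) := by
  obtain ⟨g, hg⟩ := MulAction.exists_smul_eq H T S
  exact ⟨g, by rw [← hg]; rfl⟩

theorem Setup.pt_coatom (hs : Setup p T M) {K : Subgroup H} (hK : IsPt M K) : IsCoatom K := by
  obtain ⟨g, rfl⟩ := hK
  exact isCoatom_conj hs.coatom g

theorem Setup.coatom_eq (hs : Setup p T M) {g : H} {C : Subgroup H} (hC : IsCoatom C)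
    (h : MulAut.conj g • (T : Subgroup H) ≤ C) : C = MulAut.conj g • M := by
  have h1 : IsCoatom (MulAut.conj g⁻¹ • C) := isCoatom_conj hC g⁻¹
  have h2 : (T : Subgroup H) ≤ MulAut.conj g⁻¹ • C := conj_smul_le_iff.mp h
  have h3 := hs.uniq _ h1 h2
  rw [← h3, conj_smul_conj_inv_smul]

theorem Setup.exists_pt_of_sylow (hs : Setup p T M) (S : Sylow p H) :
    ∃ K, IsPt M K ∧ (S : Subgroup H) ≤ K := by
  obtain ⟨g, hg⟩ := sylow_eq_conj T S
  exact ⟨MulAut.conj g • M, ⟨g, rfl⟩, by rw [hg]; exact conj_smul_mono hs.le⟩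

theorem Setup.exists_pt_of_pgroup (hs : Setup p T M) {Q : Subgroup H} (hQ : IsPGroup p Q) :
    ∃ K, IsPt M K ∧ Q ≤ K := by
  obtain ⟨S, hS⟩ := hQ.exists_le_sylow
  obtain ⟨K, hK, hSK⟩ := hs.exists_pt_of_sylow S
  exact ⟨K, hK, hS.trans hSK⟩

theorem Setup.pt_unique (hs : Setup p T M) (S : Sylow p H) {K K' : Subgroup H}
    (hK : IsPt M K) (hK' : IsPt M K') (h : (S : Subgroup H) ≤ K) (h' : (S : Subgroup H) ≤ K') :
    K = K' := by
  obtain ⟨g, hg⟩ := sylow_eq_conj T S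
  rw [hg] at h h'
  rw [hs.coatom_eq (hs.pt_coatom hK) h, hs.coatom_eq (hs.pt_coatom hK') h']

theorem Setup.le_pt_of_sylow (hs : Setup p T M) (S : Sylow p H) {X K : Subgroup H}
    (hX : X ≠ ⊤) (hSX : (S : Subgroup H) ≤ X) (hK : IsPt M K) (hSK : (S : Subgroup H) ≤ K) :
    X ≤ K := by
  obtain ⟨C, hC, hXC⟩ := (eq_top_or_exists_le_coatom X).resolve_left hX
  obtain ⟨g, hg⟩ := sylow_eq_conj T S
  have h1 : C = MulAut.conj g • M := hs.coatom_eq hC (by rw [← hg]; exact hSX.trans hXC)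
  have h2 : K = MulAut.conj g • M := hs.coatom_eq (hs.pt_coatom hK) (by rw [← hg]; exact hSK)
  rw [h2, ← h1]
  exact hXC

theorem Setup.mem_of_mem_normalizer (hs : Setup p T M) {K : Subgroup H} (hK : IsPt M K) {x : H}
    (hx : x ∈ normalizer (K : Set H)) : x ∈ K := by
  have hc := hs.pt_coatom hK
  rcases eq_or_lt_of_le (le_normalizer (H := K)) with h | h
  · rw [h]; exact hx
  · exfalso
    have h1 := hc.2 _ h
    have hn : K.Normal := normalizer_eq_top_iff.mp h1
    obtain ⟨g, rfl⟩ := hK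
    have h2 : (T : Subgroup H) ≤ MulAut.conj g • M := by
      have := conj_smul_mono (g := g) hs.le
      have h3 : MulAut.conj g⁻¹ • MulAut.conj g • (T : Subgroup H) ≤ MulAut.conj g • M := by
        calc MulAut.conj g⁻¹ • MulAut.conj g • (T : Subgroup H)
            ≤ MulAut.conj g⁻¹ • MulAut.conj g • M := conj_smul_mono this
          _ = MulAut.conj g • M := conj_smul_of_normal hn g⁻¹
      rwa [conj_inv_smul_conj_smul] at h3
    have h3 : normalClosure ((T : Subgroup H) : Set H) ≤ MulAut.conj g • M :=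
      normalClosure_le_normal h2
    rw [hs.ncl] at h3
    exact hc.1 (top_le_iff.mp h3)

theorem Setup.mem_of_conj_smul_eq (hs : Setup p T M) {K : Subgroup H} (hK : IsPt M K) {x : H}
    (hx : MulAut.conj x • K = K) : x ∈ K :=
  hs.mem_of_mem_normalizer hK (mem_normalizer_of_conj_smul hx)

theorem Setup.pCore_le_pt (hs : Setup p T M) {K : Subgroup H} (hK : IsPt M K) :
    Cfsg.pCore p H ≤ K := by
  obtain ⟨g, rfl⟩ := hK
  have h1 : Cfsg.pCore p H ≤ M := (pCore_le_sylow p T).trans hs.le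
  have := conj_smul_mono (g := g) h1
  rwa [conj_smul_of_normal (pCore_normal p)] at this

theorem Setup.exists_sylow_between (hs : Setup p T M) {Q K : Subgroup H} (hQ : IsPGroup p Q)
    (hK : IsPt M K) (hQK : Q ≤ K) : ∃ S : Sylow p H, Q ≤ (S : Subgroup H) ∧ (S : Subgroup H) ≤ K := by
  obtain ⟨g, rfl⟩ := hK
  have h0 : ((g • T : Sylow p H) : Subgroup H) ≤ MulAut.conj g • M := conj_smul_mono hs.le
  have hQ' : IsPGroup p (Q.subgroupOf (MulAut.conj g • M)) := hQ.comap_subtype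
  obtain ⟨S', hS'⟩ := hQ'.exists_le_sylow
  obtain ⟨k, hk⟩ := MulAction.exists_smul_eq (MulAut.conj g • M : Subgroup H)
    ((g • T : Sylow p H).subtype h0) S'
  rw [Sylow.smul_subtype] at hk
  refine ⟨k • (g • T : Sylow p H), ?_, Sylow.smul_le h0 k⟩
  intro q hq
  have h1 : (⟨q, hQK hq⟩ : (MulAut.conj g • M : Subgroup H)) ∈ (S' : Subgroup _) :=
    hS' (mem_subgroupOf.mpr hq)
  rw [← hk] at h1
  exact h1

end points

/-! ### the weak closure of `A` in `Q` -/

/-- the subgroup generated by the conjugates of `A` inside `Q`. -/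
def wc (A Q : Subgroup H) : Subgroup H :=
  ⨆ g : {g : H // MulAut.conj g • A ≤ Q}, MulAut.conj (g : H) • A

theorem wc_le (A Q : Subgroup H) : wc A Q ≤ Q :=
  iSup_le fun g => g.2

theorem le_wc {A Q : Subgroup H} {g : H} (h : MulAut.conj g • A ≤ Q) :
    MulAut.conj g • A ≤ wc A Q :=
  le_iSup (fun g : {g : H // MulAut.conj g • A ≤ Q} => MulAut.conj (g : H) • A) ⟨g, h⟩

theorem wc_le_of {A Q N : Subgroup H}
    (h : ∀ g : H, MulAut.conj g • A ≤ Q → MulAut.conj g • A ≤ N) : wc A Q ≤ N :=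
  iSup_le fun g => h g g.2

theorem wc_mono (A : Subgroup H) {Q Q' : Subgroup H} (h : Q ≤ Q') : wc A Q ≤ wc A Q' :=
  wc_le_of fun _ hg => le_wc (hg.trans h)

theorem wc_self (A : Subgroup H) : wc A A = A := by
  refine le_antisymm (wc_le A A) ?_
  have := le_wc (A := A) (Q := A) (g := 1) (by simp)
  simpa using this

theorem wc_wc (A Q : Subgroup H) : wc A (wc A Q) = wc A Q :=
  le_antisymm (wc_le A _) (wc_le_of fun _ hg => le_wc (le_wc hg))

theorem wc_conj_le (A : Subgroup H) {Q : Subgroup H} {x : H}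
    (hx : MulAut.conj x • Q = Q) : MulAut.conj x • wc A Q ≤ wc A Q := by
  rw [conj_smul_le_iff]
  apply wc_le_of
  intro g hg
  rw [← conj_smul_le_iff, ← conj_mul_smul]
  apply le_wc
  rw [conj_mul_smul, ← hx]
  exact conj_smul_mono hg

theorem normalizer_le_normalizer_wc (A Q : Subgroup H) :
    normalizer (Q : Set H) ≤ normalizer (wc A Q : Set H) := by
  intro x hx
  apply mem_normalizer_of_forall_le
  · exact wc_conj_le A (conj_smul_of_mem_normalizer hx)
  · exact wc_conj_le A (conj_smul_of_mem_normalizer (inv_mem hx))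

/-! ### hypothesis (E) and the L-Lemma from it -/

/-- hypothesis (E): `A` fixes a point `K`, fixes no other point of the `L`-orbit of `K`, and
`L` moves `K`. -/
def EH (p : ℕ) (M A : Subgroup H) : Prop :=
  ∃ L K : Subgroup H, A ≤ L ∧ Cfsg.pCore p H ≤ L ∧ IsPt M K ∧ A ≤ K ∧ ¬ L ≤ K ∧
    ∀ x ∈ L, A ≤ MulAut.conj x • K → x ∈ K

theorem lemmaE {p : ℕ} [Fact p.Prime] [Finite H] {M A : Subgroup H} (hA : IsPGroup p A)
    (h : EH p M A) :
    ∃ L : Subgroup H, A ⊔ Cfsg.pCore p H ≤ L ∧ ∃ L₀ : Subgroup H,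
      A ⊔ (Cfsg.pCoreOf p L) ≤ L₀ ∧ L₀ < L ∧
      (∀ X : Subgroup H, A ⊔ (Cfsg.pCoreOf p L) ≤ X → X < L → X ≤ L₀) ∧
      (∃ g : H, L₀ = L ⊓ (M.map (MulAut.conj g).toMonoidHom)) ∧
      ∀ x ∈ L, x ∉ L₀ →
        (A ⊔ (A.map (MulAut.conj x).toMonoidHom)) ⊔ (Cfsg.pCoreOf p L) = L := by
  classical
  let P : Subgroup H → Prop := fun L => A ≤ L ∧ Cfsg.pCore p H ≤ L ∧
    ∃ K, IsPt M K ∧ A ≤ K ∧ ¬ L ≤ K ∧ ∀ x ∈ L, A ≤ MulAut.conj x • K → x ∈ K
  have hex : ∃ L, L ∈ {L | P L} := by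
    obtain ⟨L, K, h1, h2, h3, h4, h5, h6⟩ := h
    exact ⟨L, h1, h2, K, h3, h4, h5, h6⟩
  obtain ⟨L, hL, hLmin⟩ :=
    Set.exists_min_image {L | P L} (fun L => Nat.card L) (Set.toFinite _) hex
  obtain ⟨hAL, hOL, K, hK, hAK, hLK, hfix⟩ := hL
  have hOL' : Cfsg.pCore p H ≤ Cfsg.pCoreOf p L := le_pCoreOf hOL (pCore_isPGroup p) (by
    rw [normalizer_eq_top_iff.mpr (pCore_normal p)]; exact le_top)
  have hQp : IsPGroup p (A ⊔ Cfsg.pCoreOf p L : Subgroup H) :=
    hA.to_sup_of_normal_right' (pCoreOf_isPGroup p L) (hAL.trans (le_normalizer_pCoreOf p L))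
  have hQL : A ⊔ Cfsg.pCoreOf p L ≤ L := sup_le hAL (pCoreOf_le p L)
  have hQK : A ⊔ Cfsg.pCoreOf p L ≤ K := by
    have h1 : (A ⊔ Cfsg.pCoreOf p L) ⊓ K = A ⊔ Cfsg.pCoreOf p L := by
      apply eq_of_normalizer_growth hQp inf_le_left
      intro x hx hxn
      refine ⟨hx, hfix x (hQL hx) ?_⟩
      have h2 : A ≤ (A ⊔ Cfsg.pCoreOf p L) ⊓ K := le_inf le_sup_left hAK
      calc A ≤ (A ⊔ Cfsg.pCoreOf p L) ⊓ K := h2
        _ = MulAut.conj x • ((A ⊔ Cfsg.pCoreOf p L) ⊓ K) :=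
            (conj_smul_of_mem_normalizer hxn).symm
        _ ≤ MulAut.conj x • K := conj_smul_mono inf_le_right
    rw [← h1]; exact inf_le_right
  have huniq : ∀ X : Subgroup H, A ⊔ (Cfsg.pCoreOf p L) ≤ X → X < L → X ≤ L ⊓ K := by
    intro X hX hXL
    by_contra hcon
    have hXK : ¬ X ≤ K := fun h' => hcon (le_inf hXL.le h')
    have hPX : P X := ⟨le_sup_left.trans hX, hOL'.trans (le_sup_right.trans hX), K, hK, hAK, hXK,
      fun x hx => hfix x (hXL.le hx)⟩
    have := hLmin X hPX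
    exact hXL.ne (eq_of_le_of_card_ge hXL.le this)
  refine ⟨L, sup_le hAL hOL, L ⊓ K, le_inf hQL hQK, inf_lt_left.mpr hLK, huniq, ?_, ?_⟩
  · obtain ⟨g, rfl⟩ := hK
    exact ⟨g, rfl⟩
  · intro x hxL hx0
    by_contra hne
    have hle : (A ⊔ (A.map (MulAut.conj x).toMonoidHom)) ⊔ (Cfsg.pCoreOf p L) ≤ L :=
      sup_le (sup_le hAL (conj_smul_le_of_mem hAL hxL)) (pCoreOf_le p L)
    have h1 := huniq _ (sup_le (le_sup_left.trans le_sup_left) le_sup_right)
      (lt_of_le_of_ne hle hne)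
    have h2 : MulAut.conj x • A ≤ K :=
      (le_sup_right.trans le_sup_left).trans (h1.trans inf_le_right)
    have h3 : x⁻¹ ∈ K := hfix x⁻¹ (inv_mem hxL) (conj_smul_le_iff.mp h2)
    exact hx0 ⟨hxL, by simpa using h3⟩

theorem EH.of_conj {p : ℕ} {M A : Subgroup H} {g : H} (h : EH p M (MulAut.conj g • A)) :
    EH p M A := by
  obtain ⟨L, K, h1, h2, h3, h4, h5, h6⟩ := h
  refine ⟨MulAut.conj g⁻¹ • L, MulAut.conj g⁻¹ • K, conj_smul_le_iff.mp h1, ?_, h3.conj _,
    conj_smul_le_iff.mp h4, ?_, ?_⟩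
  · rw [← conj_smul_le_iff]; exact (pCore_conj p g).trans h2
  · intro h
    apply h5
    have := conj_smul_mono (g := g) h
    rwa [conj_smul_conj_inv_smul, conj_smul_conj_inv_smul] at this
  · intro x hx hAx
    have hy : g * x * g⁻¹ ∈ L := by
      rw [mem_pointwise_smul_iff_inv_smul_mem] at hx
      simpa [MulAut.smul_def] using hx
    have h7 : g * x * g⁻¹ ∈ K := by
      apply h6 _ hy
      rw [conj_mul_smul, conj_mul_smul]
      exact conj_smul_mono hAx
    rw [mem_pointwise_smul_iff_inv_smul_mem]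
    simpa [MulAut.smul_def] using h7

/-- `Q` fixes at least two points. -/
def Fix2 (M Q : Subgroup H) : Prop :=
  ∃ K K', IsPt M K ∧ IsPt M K' ∧ K ≠ K' ∧ Q ≤ K ∧ Q ≤ K'

theorem Fix2.mono {M Q Q' : Subgroup H} (h : Fix2 M Q) (hle : Q' ≤ Q) : Fix2 M Q' := by
  obtain ⟨K, K', h1, h2, h3, h4, h5⟩ := h
  exact ⟨K, K', h1, h2, h3, hle.trans h4, hle.trans h5⟩

theorem exists_EH {p : ℕ} [Fact p.Prime] [Finite H] {T : Sylow p H} {M : Subgroup H}
    (hs : Setup p T M) {A : Subgroup H} (hA : IsPGroup p A) (hOA : Cfsg.pCore p H ≤ A)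
    (hAO : ¬ A ≤ Cfsg.pCore p H) : ∃ g : H, EH p M (MulAut.conj g • A) := by
  classical
  by_cases hF : Fix2 M A
  swap
  · obtain ⟨K, hK, hAK⟩ := hs.exists_pt_of_pgroup hA
    refine ⟨1, ⊤, K, le_top, le_top, hK, by simpa using hAK, ?_, ?_⟩
    · intro h; exact (hs.pt_coatom hK).1 (top_le_iff.mp h)
    · intro x _ hx
      have hx' : A ≤ MulAut.conj x • K := by simpa using hx
      by_contra hxK
      apply hF
      refine ⟨K, MulAut.conj x • K, hK, hK.conj x, ?_, hAK, hx'⟩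
      intro h; exact hxK (hs.mem_of_conj_smul_eq hK h.symm)
  · let 𝒬 : Set (Subgroup H) := {Q | IsPGroup p Q ∧ Fix2 M Q ∧ ∃ g : H, MulAut.conj g • A ≤ Q}
    have hA𝒬 : A ∈ 𝒬 := ⟨hA, hF, 1, by simp⟩
    obtain ⟨Qs, hQs, hQmax⟩ :=
      Set.exists_max_image 𝒬 (fun Q => Nat.card (wc A Q)) (Set.toFinite _) ⟨A, hA𝒬⟩
    obtain ⟨hQp, hQF, g₀, hg₀⟩ := hQs
    have hWp : IsPGroup p (wc A Qs) := hQp.to_le (wc_le A Qs)
    have hWF : Fix2 M (wc A Qs) := hQF.mono (wc_le A Qs)
    have hg₀W : MulAut.conj g₀ • A ≤ wc A Qs := le_wc hg₀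
    have hWW : wc A (wc A Qs) = wc A Qs := wc_wc A Qs
    generalize wc A Qs = W at hWp hWF hg₀W hWW hQmax
    have hMax : ∀ Q : Subgroup H, IsPGroup p Q → Fix2 M Q → W ≤ Q → wc A Q = W := by
      intro Q h1 h2 h3
      have h4 : W ≤ wc A Q := by rw [← hWW]; exact wc_mono A h3
      have h5 : Q ∈ 𝒬 := ⟨h1, h2, g₀, hg₀W.trans h3⟩
      exact (eq_of_le_of_card_ge h4 (hQmax Q h5)).symm
    have hOW : Cfsg.pCore p H ≤ W := by
      refine le_trans ?_ hg₀W
      have := conj_smul_mono (g := g₀) hOA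
      rwa [conj_smul_of_normal (pCore_normal p)] at this
    have hNW : normalizer (W : Set H) ≠ ⊤ := by
      intro h
      apply hAO
      have h1 : W ≤ Cfsg.pCore p H := le_pCore (normalizer_eq_top_iff.mp h) hWp
      have h2 := conj_smul_le_iff.mp (hg₀W.trans h1)
      exact h2.trans (pCore_conj p g₀⁻¹)
    have hC1 : ∃ g : H, MulAut.conj g • A ≤ normalizer (W : Set H) ∧ ¬ MulAut.conj g • A ≤ W := by
      by_contra hcon
      push Not at hcon
      have hSN : ∀ S : Sylow p H, W ≤ (S : Subgroup H) →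
          (S : Subgroup H) ≤ normalizer (W : Set H) := by
        intro S hWS
        have h1 : wc A ((S : Subgroup H) ⊓ normalizer (W : Set H)) = W := by
          apply le_antisymm
          · exact wc_le_of fun g hg => hcon g (hg.trans inf_le_right)
          · calc W = wc A W := hWW.symm
              _ ≤ _ := wc_mono A (le_inf hWS le_normalizer)
        have h2 : (S : Subgroup H) ⊓ normalizer (W : Set H) = S := by
          apply eq_of_normalizer_growth S.isPGroup' inf_le_left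
          intro x hx hxn
          refine ⟨hx, ?_⟩
          have := normalizer_le_normalizer_wc A _ hxn
          rwa [h1] at this
        rw [← h2]; exact inf_le_right
      obtain ⟨K₁, K₂, hK₁, hK₂, hne, hW1, hW2⟩ := hWF
      obtain ⟨S₁, hWS₁, hS₁K⟩ := hs.exists_sylow_between hWp hK₁ hW1
      obtain ⟨S₂, hWS₂, hS₂K⟩ := hs.exists_sylow_between hWp hK₂ hW2
      have h1 : normalizer (W : Set H) ≤ K₂ :=
        hs.le_pt_of_sylow S₂ hNW (hSN S₂ hWS₂) hK₂ hS₂K
      exact hne (hs.pt_unique S₁ hK₁ hK₂ hS₁K ((hSN S₁ hWS₁).trans h1))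
    obtain ⟨g, hgN, hgW⟩ := hC1
    have hBp : IsPGroup p (MulAut.conj g • A : Subgroup H) := isPGroup_conj hA g
    have hBWp : IsPGroup p (MulAut.conj g • A ⊔ W : Subgroup H) :=
      hBp.to_sup_of_normal_right' hWp hgN
    obtain ⟨KB, hKB, hBWK⟩ := hs.exists_pt_of_pgroup hBWp
    have hU : ∀ K' : Subgroup H, IsPt M K' → MulAut.conj g • A ⊔ W ≤ K' → K' = KB := by
      intro K' hK' hle
      by_contra hne
      apply hgW
      have h1 : Fix2 M (MulAut.conj g • A ⊔ W) := ⟨K', KB, hK', hKB, hne, hle, hBWK⟩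
      have h2 := hMax _ hBWp h1 le_sup_right
      rw [← h2]
      exact le_wc le_sup_left
    have hC3 : ¬ normalizer (W : Set H) ≤ KB := by
      intro hle
      obtain ⟨K', hK', hne, hWK'⟩ : ∃ K', IsPt M K' ∧ K' ≠ KB ∧ W ≤ K' := by
        obtain ⟨K₁, K₂, hK₁, hK₂, hne, hW1, hW2⟩ := hWF
        by_cases h : K₁ = KB
        · exact ⟨K₂, hK₂, fun h' => hne (h.trans h'.symm), hW2⟩
        · exact ⟨K₁, hK₁, h, hW1⟩
      obtain ⟨S', hWS', hS'K⟩ := hs.exists_sylow_between hWp hK' hWK'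
      have hQ1p : IsPGroup p ((S' : Subgroup H) ⊓ normalizer (W : Set H) : Subgroup H) :=
        S'.isPGroup'.to_le inf_le_left
      have hQ1F : Fix2 M ((S' : Subgroup H) ⊓ normalizer (W : Set H)) :=
        ⟨K', KB, hK', hKB, hne, inf_le_left.trans hS'K, inf_le_right.trans hle⟩
      have h1 := hMax _ hQ1p hQ1F (le_inf hWS' le_normalizer)
      have h2 : (S' : Subgroup H) ⊓ normalizer (W : Set H) = S' := by
        apply eq_of_normalizer_growth S'.isPGroup' inf_le_left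
        intro x hx hxn
        refine ⟨hx, ?_⟩
        have := normalizer_le_normalizer_wc A _ hxn
        rwa [h1] at this
      have h3 : (S' : Subgroup H) ≤ KB := by rw [← h2]; exact inf_le_right.trans hle
      exact hne (hs.pt_unique S' hK' hKB hS'K h3)
    refine ⟨g, normalizer (W : Set H), KB, hgN, hOW.trans le_normalizer, hKB,
      le_sup_left.trans hBWK, hC3, ?_⟩
    intro x hx hBx
    apply hs.mem_of_conj_smul_eq hKB
    apply hU _ (hKB.conj x)
    refine sup_le hBx ?_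
    calc W = MulAut.conj x • W := (conj_smul_of_mem_normalizer hx).symm
      _ ≤ MulAut.conj x • KB := conj_smul_mono (le_sup_right.trans hBWK)

/-- **The L-Lemma.** -/
theorem l_lemma {p : ℕ} [Fact p.Prime] [Finite H] (T : Sylow p H)
    (hmin : Cfsg.IsMinimalOver (T : Subgroup H)) (M : Subgroup H)
    (hM : IsCoatom M ∧ (T : Subgroup H) ≤ M) (A : Subgroup H) (hAT : A ≤ (T : Subgroup H))
    (hA : ¬ A ≤ Cfsg.pCore p H) :
    ∃ L : Subgroup H, A ⊔ Cfsg.pCore p H ≤ L ∧ ∃ L₀ : Subgroup H,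
      A ⊔ (Cfsg.pCoreOf p L) ≤ L₀ ∧ L₀ < L ∧
      (∀ X : Subgroup H, A ⊔ (Cfsg.pCoreOf p L) ≤ X → X < L → X ≤ L₀) ∧
      (∃ g : H, L₀ = L ⊓ (M.map (MulAut.conj g).toMonoidHom)) ∧
      ∀ x ∈ L, x ∉ L₀ →
        (A ⊔ (A.map (MulAut.conj x).toMonoidHom)) ⊔ (Cfsg.pCoreOf p L) = L := by
  have hs : Setup p T M := by
    obtain ⟨h1, M', hM', huniq⟩ := hmin
    have hMM : M = M' := huniq M hM
    refine ⟨h1, hM.1, hM.2, ?_⟩
    intro C hC hTC
    rw [hMM]; exact huniq C ⟨hC, hTC⟩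
  have hAp : IsPGroup p A := T.isPGroup'.to_le hAT
  have hA'p : IsPGroup p (A ⊔ Cfsg.pCore p H : Subgroup H) :=
    T.isPGroup'.to_le (sup_le hAT (pCore_le_sylow p T))
  obtain ⟨g, hg⟩ := exists_EH hs hA'p le_sup_right (fun h => hA (le_sup_left.trans h))
  obtain ⟨L, K, h1, h2, h3, h4, h5, h6⟩ := hg.of_conj
  apply lemmaE hAp
  refine ⟨L, K, le_sup_left.trans h1, h2, h3, le_sup_left.trans h4, h5, ?_⟩
  intro x hx hAx
  exact h6 x hx (sup_le hAx (hs.pCore_le_pt (h3.conj x)))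

end Cfsg.Agent.Lib.Helper48.LLemma
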