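import Mathlib

set_option autoImplicit false

namespace Cfsg.Agent.Lib.Helper48

section torsion

variable {A : Type*} [CommGroup A] [Finite A]

theorem card_torsion_le (p m : ℕ) :
    Nat.card (powMonoidHom (p * m) : A →* A).ker ≤
      Nat.card (powMonoidHom p : A →* A).ker * Nat.card (powMonoidHom m : A →* A).ker := by
  let ψ : (powMonoidHom (p * m) : A →* A).ker →* A :=
    (powMonoidHom p : A →* A).comp (powMonoidHom (p * m) : A →* A).ker.subtype
  have h1 := Subgroup.card_mul_index ψ.ker
  rw [Subgroup.index_ker] at h1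
  have h2 : Nat.card ψ.ker ≤ Nat.card (powMonoidHom p : A →* A).ker := by
    apply Nat.card_le_card_of_injective
      (fun x : ψ.ker => (⟨((x : (powMonoidHom (p * m) : A →* A).ker) : A), by
        have := x.2
        rw [MonoidHom.mem_ker] at this ⊢
        exact this⟩ : (powMonoidHom p : A →* A).ker))
    intro x y hxy
    have : ((x : (powMonoidHom (p * m) : A →* A).ker) : A) = ((y : (powMonoidHom (p * m) : A →* A).ker) : A) := by
      have h5 := congrArg Subtype.val hxy
      exact h5
    exact Subtype.ext (Subtype.ext this)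
  have h3 : Nat.card ψ.range ≤ Nat.card (powMonoidHom m : A →* A).ker := by
    apply Subgroup.card_le_of_le
    rintro _ ⟨x, rfl⟩
    rw [MonoidHom.mem_ker]
    have hx := x.2
    rw [MonoidHom.mem_ker] at hx
    simp only [powMonoidHom_apply] at hx
    change ((x : A) ^ p) ^ m = 1
    rw [← pow_mul]
    exact hx
  calc Nat.card (powMonoidHom (p * m) : A →* A).ker = Nat.card ψ.ker * Nat.card ψ.range := h1.symm
    _ ≤ _ := Nat.mul_le_mul h2 h3

theorem exists_prime_torsion_gt :
    ∀ n : ℕ, 0 < n → n < Nat.card (powMonoidHom n : A →* A).ker →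
      ∃ p : ℕ, p.Prime ∧ p < Nat.card (powMonoidHom p : A →* A).ker := by
  intro n
  induction n using Nat.strong_induction_on with
  | _ n ih =>
    intro hn hlt
    by_cases h1 : n = 1
    · subst h1
      exfalso
      have : (powMonoidHom 1 : A →* A).ker = ⊥ := by
        ext x; simp [MonoidHom.mem_ker]
      rw [this, Subgroup.card_bot] at hlt
      omega
    · have hp := Nat.minFac_prime h1
      obtain ⟨m, hm⟩ := Nat.minFac_dvd n
      have hle := card_torsion_le (A := A) n.minFac m
      rw [← hm] at hle
      by_contra hcon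
      push Not at hcon
      have h2 := hcon n.minFac hp
      have hm0 : 0 < m := by
        rcases Nat.eq_zero_or_pos m with h | h
        · subst h; simp at hm; omega
        · exact h
      have hmn : m < n := by
        have := hp.two_le
        nlinarith
      have h3 : Nat.card (powMonoidHom m : A →* A).ker ≤ m := by
        by_contra h
        push Not at h
        obtain ⟨q, hq, hq2⟩ := ih m hmn hm0 h
        exact absurd hq2 (not_lt.mpr (hcon q hq))
      have h4 : Nat.card (powMonoidHom n : A →* A).ker ≤ n.minFac * m :=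
        le_trans hle (Nat.mul_le_mul h2 h3)
      rw [← hm] at h4
      omega

/-- A finite non-cyclic abelian group contains two independent elements of some prime order. -/
theorem exists_rank_two (hA : ¬ IsCyclic A) :
    ∃ p : ℕ, p.Prime ∧ ∃ a b : A, a ^ p = 1 ∧ b ^ p = 1 ∧ b ≠ 1 ∧ a ∉ Subgroup.zpowers b := by
  classical
  letI : Fintype A := Fintype.ofFinite A
  have h1 : ∃ n : ℕ, 0 < n ∧ n < (Finset.univ.filter (fun a : A => a ^ n = 1)).card := by
    by_contra hcon
    push Not at hcon
    exact hA (isCyclic_of_card_pow_eq_one_le hcon)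
  obtain ⟨n, hn, hlt⟩ := h1
  have hcard : ∀ k : ℕ, Nat.card (powMonoidHom k : A →* A).ker =
      (Finset.univ.filter (fun a : A => a ^ k = 1)).card := by
    intro k
    rw [Nat.card_eq_fintype_card, ← Fintype.card_subtype]
    exact Fintype.card_congr (Equiv.subtypeEquivRight (fun x => by simp [MonoidHom.mem_ker]))
  obtain ⟨p, hp, hpc⟩ := exists_prime_torsion_gt n hn (by rw [hcard]; exact hlt)
  refine ⟨p, hp, ?_⟩
  have hK1 : (powMonoidHom p : A →* A).ker ≠ ⊥ := by
    intro h
    rw [h, Subgroup.card_bot] at hpc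
    have := hp.one_lt
    omega
  obtain ⟨b, hbK, hb1⟩ := (Subgroup.ne_bot_iff_exists_ne_one.mp hK1 : ∃ b : (powMonoidHom p : A →* A).ker, b ≠ 1) |>.elim
    (fun b hb => (⟨(b : A), b.2, fun h => hb (Subtype.ext h)⟩ :
      ∃ b : A, b ∈ (powMonoidHom p : A →* A).ker ∧ b ≠ 1))
  have hbp : b ^ p = 1 := by simpa [MonoidHom.mem_ker] using hbK
  have hbo : orderOf b = p := by
    have : Fact p.Prime := ⟨hp⟩
    exact orderOf_eq_prime hbp hb1
  have hex : ∃ a ∈ (powMonoidHom p : A →* A).ker, a ∉ Subgroup.zpowers b := by
    by_contra hall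
    push Not at hall
    have hle : (powMonoidHom p : A →* A).ker ≤ Subgroup.zpowers b := hall
    have := Subgroup.card_le_of_le hle
    rw [Nat.card_zpowers, hbo] at this
    omega
  obtain ⟨a, haK, ha⟩ := hex
  exact ⟨a, b, by simpa [MonoidHom.mem_ker] using haK, hbp, hb1, ha⟩

end torsion

end Cfsg.Agent.Lib.Helper48
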