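import Mathlib
import Cfsg.Agent.Lib.Helper48.Coprime
import Cfsg.Agent.Lib.Helper48.Generation
import Cfsg.Agent.Lib.Helper47.Frat

/-!
The stabilizer of a chain `1 ≤ D ≤ Φ` and the action on the Frattini subgroup (helper48).
-/

set_option autoImplicit false

namespace Cfsg.Agent.Lib.Helper48

open scoped commutatorElement

variable {G : Type*} [Group G]

/-- The stabilizer of the chain `1 ≤ D ≤ Φ`: the elements centralizing `D` and acting trivially on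
`Φ` modulo `D`. -/
def chainStab (D Φ : Subgroup G) : Subgroup G where
  carrier := {a | (∀ d ∈ D, a * d * a⁻¹ = d) ∧ ∀ z ∈ Φ, a * z * a⁻¹ * z⁻¹ ∈ D}
  one_mem' := ⟨fun d _ => by simp, fun z _ => by simp [D.one_mem]⟩
  mul_mem' := by
    rintro a b ⟨ha1, ha2⟩ ⟨hb1, hb2⟩
    refine ⟨fun d hd => ?_, fun z hz => ?_⟩
    · have e : a * b * d * (a * b)⁻¹ = a * (b * d * b⁻¹) * a⁻¹ := by group
      rw [e, hb1 d hd, ha1 d hd]
    · have e : a * b * z * (a * b)⁻¹ * z⁻¹ =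
          (a * (b * z * b⁻¹ * z⁻¹) * a⁻¹) * (a * z * a⁻¹ * z⁻¹) := by group
      rw [e, ha1 _ (hb2 z hz)]
      exact D.mul_mem (hb2 z hz) (ha2 z hz)
  inv_mem' := by
    rintro a ⟨ha1, ha2⟩
    have hinv : ∀ d ∈ D, a⁻¹ * d * a⁻¹⁻¹ = d := by
      intro d hd
      have h0 := ha1 d hd
      calc a⁻¹ * d * a⁻¹⁻¹ = a⁻¹ * (a * d * a⁻¹) * a := by rw [h0]; group
        _ = d := by group
    refine ⟨hinv, fun z hz => ?_⟩
    have h1 := ha2 z hz
    have e : a⁻¹ * z * a⁻¹⁻¹ * z⁻¹ = a⁻¹ * (a * z * a⁻¹ * z⁻¹)⁻¹ * a⁻¹⁻¹ := by group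
    rw [e, hinv _ (D.inv_mem h1)]
    exact D.inv_mem h1

theorem mem_chainStab {D Φ : Subgroup G} {a : G} :
    a ∈ chainStab D Φ ↔ (∀ d ∈ D, a * d * a⁻¹ = d) ∧ ∀ z ∈ Φ, a * z * a⁻¹ * z⁻¹ ∈ D :=
  Iff.rfl

/-- An element of order prime to `p` stabilizing the chain `1 ≤ D ≤ Φ`, `D` a `p`-group,
centralizes `Φ`. -/
theorem chainStab_coprime_centralizes {p : ℕ} [Fact p.Prime] (D Φ : Subgroup G)
    (hD : IsPGroup p D) (a : G) (ha : a ∈ chainStab D Φ) (hcop : Nat.Coprime (orderOf a) p) :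
    a ∈ Subgroup.centralizer (Φ : Set G) := by
  rw [Subgroup.mem_centralizer_iff]
  intro z hz
  obtain ⟨ha1, ha2⟩ := ha
  have hwD : a * z * a⁻¹ * z⁻¹ ∈ D := ha2 z hz
  have hbot : ∀ g : G, ∀ k ∈ (⊥ : Subgroup G), g * k * g⁻¹ ∈ (⊥ : Subgroup G) := by
    intro g k hk
    rw [Subgroup.mem_bot] at hk ⊢
    rw [hk]; group
  have hk : ∀ k : ℕ, a ^ k * z * (a ^ k)⁻¹ * z⁻¹ = (a * z * a⁻¹ * z⁻¹) ^ k := by
    intro k
    obtain ⟨c, hc, e⟩ := stab_chain (⊥ : Subgroup G) a z (a * z * a⁻¹ * z⁻¹) (hbot a) (hbot _) rfl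
      (by rw [ha1 _ hwD, Subgroup.mem_bot]; group) k
    rw [Subgroup.mem_bot] at hc
    rw [e, hc, one_mul]
  have h1 := hk (orderOf a)
  rw [pow_orderOf_eq_one] at h1
  have h2 : (a * z * a⁻¹ * z⁻¹) ^ orderOf a = 1 := by rw [← h1]; group
  obtain ⟨m, hm⟩ := hD ⟨_, hwD⟩
  have h3 : (a * z * a⁻¹ * z⁻¹) ^ p ^ m = 1 := by simpa using congrArg Subtype.val hm
  have h4 : orderOf (a * z * a⁻¹ * z⁻¹) ∣ Nat.gcd (orderOf a) (p ^ m) :=
    Nat.dvd_gcd (orderOf_dvd_of_pow_eq_one h2) (orderOf_dvd_of_pow_eq_one h3)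
  have h5 : Nat.gcd (orderOf a) (p ^ m) = 1 := Nat.Coprime.pow_right m hcop
  rw [h5, Nat.dvd_one, orderOf_eq_one_iff] at h4
  calc z * a = (a * z * a⁻¹ * z⁻¹)⁻¹ * (a * z) := by group
    _ = a * z := by rw [h4]; group

/-- Conjugation by an element of the normalizer preserves a characteristic subgroup. -/
theorem conj_mem_map_of_characteristic (P : Subgroup G) (K : Subgroup ↥P) [hK : K.Characteristic]
    (h : G) (hh : h ∈ Subgroup.normalizer (P : Set G)) :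
    ∀ z ∈ K.map P.subtype, h * z * h⁻¹ ∈ K.map P.subtype := by
  rintro _ ⟨z, hz, rfl⟩
  have h1 := hK.fixed (normConj P ⟨h, hh⟩)
  have h2 : z ∈ K.comap (normConj P ⟨h, hh⟩).toMonoidHom := by rw [h1]; exact hz
  exact ⟨_, Subgroup.mem_comap.mp h2, rfl⟩

/-- The chain stabilizer is normalized by everything normalizing both `D` and `Φ`. -/
theorem chainStab_conj_mem (D Φ : Subgroup G) (h : G)
    (hD : ∀ d ∈ D, h * d * h⁻¹ ∈ D) (hD' : ∀ d ∈ D, h⁻¹ * d * h ∈ D)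
    (hΦ' : ∀ z ∈ Φ, h⁻¹ * z * h ∈ Φ) :
    ∀ a ∈ chainStab D Φ, h * a * h⁻¹ ∈ chainStab D Φ := by
  rintro a ⟨ha1, ha2⟩
  refine ⟨fun d hd => ?_, fun z hz => ?_⟩
  · have e : h * a * h⁻¹ * d * (h * a * h⁻¹)⁻¹ = h * (a * (h⁻¹ * d * h) * a⁻¹) * h⁻¹ := by group
    rw [e, ha1 _ (hD' d hd)]
    group
  · have e : h * a * h⁻¹ * z * (h * a * h⁻¹)⁻¹ * z⁻¹ =
        h * (a * (h⁻¹ * z * h) * a⁻¹ * (h⁻¹ * z * h)⁻¹) * h⁻¹ := by group
    rw [e]
    exact hD _ (ha2 _ (hΦ' z hz))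

/-- If `y` normalizes the finite `p`-group `P` and `[P, y]` has exponent `p`, then `y` acts
trivially on `Φ(P)` modulo `P'`. -/
theorem comm_frattini_mem_commutator [Finite G] {p : ℕ} [Fact p.Prime] (P : Subgroup G)
    (y : G) (hy : y ∈ Subgroup.normalizer (P : Set G))
    (hexp : ∀ u ∈ P, (y * u * y⁻¹ * u⁻¹) ^ p = 1) :
    ∀ z ∈ (frattini ↥P).map P.subtype, y * z * y⁻¹ * z⁻¹ ∈ ⁅P, P⁆ := by
  rintro _ ⟨z, hz, rfl⟩
  let φ : ↥P →* Abelianization ↥P :=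
    (Abelianization.of.comp (normConj P ⟨y, hy⟩).toMonoidHom) / Abelianization.of
  have hφ : ∀ u : ↥P, φ u = Abelianization.of ((normConj P ⟨y, hy⟩) u * u⁻¹) := by
    intro u
    simp [φ, div_eq_mul_inv]
  have hker := Cfsg.Agent.Lib.Helper47.frattini_le_ker_of_elementary (p := p) φ
    (fun u v => mul_comm _ _) (by
      intro u
      rw [hφ, ← map_pow]
      have h0 : ((normConj P ⟨y, hy⟩) u * u⁻¹) ^ p = 1 := by
        apply Subtype.ext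
        have h00 := hexp u u.2
        simpa [normConj_apply] using h00
      rw [h0, map_one])
  have h1 := hker hz
  rw [MonoidHom.mem_ker, hφ] at h1
  have h2 : (normConj P ⟨y, hy⟩) z * z⁻¹ ∈ commutator ↥P := by
    rw [← Abelianization.ker_of]; exact h1
  have h3 : (((normConj P ⟨y, hy⟩) z * z⁻¹ : ↥P) : G) ∈ (commutator ↥P).map P.subtype :=
    ⟨_, h2, rfl⟩
  rw [Subgroup.map_subtype_commutator] at h3
  simpa [normConj_apply] using h3

end Cfsg.Agent.Lib.Helper48
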