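import Mathlib
import Cfsg.Prelude.Def_LocalStructure
import Cfsg.Agent.Lib.Helper48.SPE
import Cfsg.Agent.Lib.Helper48.Coprime
import Cfsg.Agent.Lib.Helper4.SylowTwo
import Cfsg.Agent.Lib.Helper22.Layer

/-!
Weakly closed subgroups (helper48).
-/

set_option autoImplicit false

namespace Cfsg.Agent.Lib.Helper48

open scoped commutatorElement

variable {G : Type*} [Group G]

/-- If conjugation by `g` maps `Q` onto `Q` then `g` normalizes `Q`. -/
theorem mem_normalizer_of_map_conj_eq {Q : Subgroup G} {g : G}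
    (h : Q.map (MulAut.conj g).toMonoidHom = Q) : g ∈ Subgroup.normalizer (Q : Set G) := by
  rw [Subgroup.mem_normalizer_iff]
  intro k
  constructor
  · intro hk
    have h1 : g * k * g⁻¹ ∈ Q.map (MulAut.conj g).toMonoidHom := ⟨k, hk, rfl⟩
    rwa [h] at h1
  · intro hk
    have h1 : g * k * g⁻¹ ∈ Q.map (MulAut.conj g).toMonoidHom := by rw [h]; exact hk
    obtain ⟨k', hk', hkk⟩ := h1
    simp only [MulEquiv.coe_toMonoidHom, MulAut.conj_apply] at hkk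
    have h2 : k' = k := mul_left_cancel (mul_right_cancel hkk)
    rw [← h2]; exact hk'

/-- A weakly closed subgroup `Q` (with respect to some Sylow `p`-subgroup) is weakly closed in
every `p`-subgroup containing it: an element conjugating `Q` into such a subgroup normalizes `Q`. -/
theorem weaklyClosed_mem_normalizer [Finite G] {p : ℕ} [Fact p.Prime] {Q : Subgroup G}
    (hwc : Cfsg.IsWeaklyClosedSubgroup p Q) (R : Subgroup G) (hR : IsPGroup p R) (hQR : Q ≤ R)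
    (g : G) (hg : ∀ q ∈ Q, g * q * g⁻¹ ∈ R) : g ∈ Subgroup.normalizer (Q : Set G) := by
  obtain ⟨T, hQT, hT⟩ := hwc
  obtain ⟨P', hP'⟩ := hR.exists_le_sylow
  obtain ⟨h, hh⟩ := MulAction.exists_smul_eq G T P'
  have hmem : ∀ x : G, x ∈ (P' : Subgroup G) ↔ h⁻¹ * x * h ∈ (T : Subgroup G) := by
    intro x
    rw [← hh]
    exact Cfsg.Agent.Lib.Helper4.mem_sylow_smul_iff
  have h1 : h⁻¹ ∈ Subgroup.normalizer (Q : Set G) := by
    apply mem_normalizer_of_map_conj_eq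
    apply hT
    rintro _ ⟨q, hq, rfl⟩
    have h0 := (hmem q).mp (hP' (hQR hq))
    simpa [MulAut.conj_apply] using h0
  have h2 : h⁻¹ * g ∈ Subgroup.normalizer (Q : Set G) := by
    apply mem_normalizer_of_map_conj_eq
    apply hT
    rintro _ ⟨q, hq, rfl⟩
    have h0 := (hmem _).mp (hP' (hg q hq))
    have e : (MulAut.conj (h⁻¹ * g)).toMonoidHom q = h⁻¹ * (g * q * g⁻¹) * h := by
      simp [MulAut.conj_apply, mul_assoc]
    rw [e]; exact h0
  have e : g = h⁻¹⁻¹ * (h⁻¹ * g) := by group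
  rw [e]
  exact Subgroup.mul_mem _ (Subgroup.inv_mem _ h1) h2

/-- Frattini argument for a weakly closed `p`-subgroup `Q ≤ N₁`: if `n` conjugates `Q` into
`N₁` then `y * n` normalizes `Q` for some `y ∈ N₁`. -/
theorem weaklyClosed_frattini [Finite G] {p : ℕ} [Fact p.Prime] {Q : Subgroup G}
    (hQp : IsPGroup p Q) (hwc : Cfsg.IsWeaklyClosedSubgroup p Q) (N₁ : Subgroup G) (hQN : Q ≤ N₁)
    (n : G) (hn : ∀ q ∈ Q, n * q * n⁻¹ ∈ N₁) :
    ∃ y ∈ N₁, y * n ∈ Subgroup.normalizer (Q : Set G) := by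
  obtain ⟨P₁, hP₁⟩ := (hQp.comap_subtype (K := N₁)).exists_le_sylow
  have hQn : IsPGroup p ((Q.map (MulAut.conj n).toMonoidHom).subgroupOf N₁) :=
    (hQp.map _).comap_subtype
  obtain ⟨P₂, hP₂⟩ := hQn.exists_le_sylow
  obtain ⟨y, hy⟩ := MulAction.exists_smul_eq N₁ P₂ P₁
  refine ⟨y, y.2, ?_⟩
  apply weaklyClosed_mem_normalizer hwc ((P₁ : Subgroup N₁).map N₁.subtype) (P₁.isPGroup'.map _)
  · intro q hq
    exact ⟨⟨q, hQN hq⟩, hP₁ (Subgroup.mem_subgroupOf.mpr hq), rfl⟩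
  · intro q hq
    have h1 : (⟨n * q * n⁻¹, hn q hq⟩ : N₁) ∈ (P₂ : Subgroup N₁) :=
      hP₂ (Subgroup.mem_subgroupOf.mpr ⟨q, hq, rfl⟩)
    have h2 := sylow_conj_mem P₂ y _ h1
    rw [hy] at h2
    refine ⟨_, h2, ?_⟩
    simp only [Subgroup.coe_subtype, Subgroup.coe_mul, Subgroup.coe_inv]
    group

/-- `N = N_N(Q) [N, Q]` for a weakly closed `p`-subgroup `Q` and `N` normal. -/
theorem weaklyClosed_normal_factor [Finite G] {p : ℕ} [Fact p.Prime] {Q : Subgroup G}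
    (hQp : IsPGroup p Q) (hwc : Cfsg.IsWeaklyClosedSubgroup p Q) (N : Subgroup G) [N.Normal] :
    ∀ n : G, n ∈ N → ∃ a ∈ N ⊓ Subgroup.normalizer (Q : Set G), ∃ b ∈ ⁅N, Q⁆, n = a * b := by
  intro n hn
  have hQnorm : Q ≤ Subgroup.normalizer ((⁅N, Q⁆ : Subgroup G) : Set G) :=
    Cfsg.Agent.Lib.Helper22.le_normalizer_commutator_right N Q
  have hcN : ⁅N, Q⁆ ≤ N := Subgroup.commutator_le_left N Q
  obtain ⟨y, hy, hyn⟩ := weaklyClosed_frattini hQp hwc (⁅N, Q⁆ ⊔ Q) le_sup_right n (by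
    intro q hq
    have e : n * q * n⁻¹ = ⁅n, q⁆ * q := by rw [commutatorElement_def]; group
    rw [e]
    exact Subgroup.mul_mem _ (Subgroup.mem_sup_left (Subgroup.commutator_mem_commutator hn hq))
      (Subgroup.mem_sup_right hq))
  have hy' : y ∈ ((⁅N, Q⁆ ⊔ Q : Subgroup G) : Set G) := hy
  rw [Subgroup.coe_mul_of_right_le_normalizer_left _ _ hQnorm] at hy'
  obtain ⟨c, hc, q', hq', rfl⟩ := hy'
  -- `c' = q'⁻¹ c⁻¹ q'`, `a = q'⁻¹ (c q' n)`
  have hc' : q'⁻¹ * c⁻¹ * q'⁻¹⁻¹ ∈ ⁅N, Q⁆ :=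
    (Subgroup.mem_normalizer_iff.mp (hQnorm (Q.inv_mem hq')) _).mp (Subgroup.inv_mem _ hc)
  have haQ : q'⁻¹ * (c * q' * n) ∈ Subgroup.normalizer (Q : Set G) :=
    Subgroup.mul_mem _ (Subgroup.inv_mem _ (Subgroup.le_normalizer hq')) hyn
  have haN : q'⁻¹ * (c * q' * n) ∈ N := by
    have e : q'⁻¹ * (c * q' * n) = (q'⁻¹ * c⁻¹ * q'⁻¹⁻¹)⁻¹ * n := by group
    rw [e]
    exact N.mul_mem (N.inv_mem (hcN hc')) hn
  have hinv : (q'⁻¹ * (c * q' * n))⁻¹ ∈ Subgroup.normalizer (Q : Set G) :=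
    Subgroup.inv_mem _ haQ
  refine ⟨q'⁻¹ * (c * q' * n), ⟨haN, haQ⟩,
    (q'⁻¹ * (c * q' * n))⁻¹ * (q'⁻¹ * c⁻¹ * q'⁻¹⁻¹) * (q'⁻¹ * (c * q' * n))⁻¹⁻¹, ?_, by group⟩
  apply conj_mem_commutator _ _ _ _ hc'
  · intro k hk
    exact ‹N.Normal›.conj_mem k hk _
  · intro k hk
    exact (Subgroup.mem_normalizer_iff.mp hinv k).mp hk

end Cfsg.Agent.Lib.Helper48
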