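import Mathlib
import Cfsg.Agent.Lib.Helper47.Large
import Cfsg.Agent.Lib.Helper47.Subn
import Cfsg.Agent.Lib.Helper48.SPE

set_option autoImplicit false

namespace Cfsg.Agent.Lib.Helper48

open Cfsg.Agent.Lib.Helper47
open scoped Pointwise

variable {G : Type*} [Group G]

/-- Conjugating twice. -/
theorem map_conj_map_conj (A : Subgroup G) (a b : G) :
    (A.map (MulAut.conj a).toMonoidHom).map (MulAut.conj b).toMonoidHom =
      A.map (MulAut.conj (b * a)).toMonoidHom := by
  rw [Subgroup.map_map]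
  congr 1
  ext x
  simp [mul_assoc]

/-- Two `p`-subgroups of `M` can be brought into a common `p`-subgroup by conjugating one of
them with an element of `M`. -/
theorem exists_conj_le_common_pgroup [Finite G] {p : ℕ} [Fact p.Prime] (M A B : Subgroup G)
    (hA : IsPGroup p A) (hB : IsPGroup p B) (hAM : A ≤ M) (hBM : B ≤ M) :
    ∃ m ∈ M, ∃ P : Subgroup G, IsPGroup p P ∧ A ≤ P ∧ B.map (MulAut.conj m).toMonoidHom ≤ P := by
  have hA' : IsPGroup p (A.subgroupOf M) := hA.comap_of_injective M.subtype M.subtype_injective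
  have hB' : IsPGroup p (B.subgroupOf M) := hB.comap_of_injective M.subtype M.subtype_injective
  obtain ⟨PA, hPA⟩ := hA'.exists_le_sylow
  obtain ⟨PB, hPB⟩ := hB'.exists_le_sylow
  obtain ⟨m, hm⟩ := MulAction.exists_smul_eq ↥M PB PA
  refine ⟨m, m.2, (PA : Subgroup M).map M.subtype, PA.isPGroup'.map _, ?_, ?_⟩
  · intro a ha
    exact ⟨⟨a, hAM ha⟩, hPA (Subgroup.mem_subgroupOf.mpr ha), rfl⟩
  · rintro _ ⟨b, hb, rfl⟩
    refine ⟨MulAut.conj m • (⟨b, hBM hb⟩ : ↥M), ?_, rfl⟩
    rw [← hm, Sylow.coe_subgroup_smul]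
    exact Subgroup.smul_mem_pointwise_smul _ _ _ (hPB (Subgroup.mem_subgroupOf.mpr hb))

/-- If the large `p`-subgroup `W` normalizes the nontrivial `p`-subgroup `Y`, then `C(Y)`
normalizes `W`. -/
theorem large_centralizer_le_normalizer [Finite G] {p : ℕ} [Fact p.Prime] {W Y : Subgroup G}
    (hL : Cfsg.IsLarge W) (hWp : IsPGroup p W) (hYp : IsPGroup p Y) (hY1 : Y ≠ ⊥)
    (hWY : W ≤ Subgroup.normalizer (Y : Set G)) :
    Subgroup.centralizer (Y : Set G) ≤ Subgroup.normalizer (W : Set G) := by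
  have hK : IsPGroup p ↥(W ⊔ Y) := IsPGroup.to_sup_of_normal_right' hWp hYp hWY
  obtain ⟨z, hzY, hzo, hzc⟩ := exists_central_orderOf_eq_prime (W ⊔ Y) Y hK le_sup_right hY1
    (sup_le hWY Subgroup.le_normalizer)
  have hU : Subgroup.zpowers z ≤ Subgroup.centralizer (W : Set G) := by
    rw [Subgroup.zpowers_le, Subgroup.mem_centralizer_iff]
    intro q hq
    exact hzc q ((le_sup_left : W ≤ W ⊔ Y) hq)
  have hUne : Subgroup.zpowers z ≠ ⊥ := by
    intro h
    rw [Subgroup.zpowers_eq_bot] at h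
    rw [h, orderOf_one] at hzo
    exact (Fact.out : p.Prime).one_lt.ne hzo
  have hN := hL.2 _ hU hUne
  intro c hc
  apply hN
  apply Subgroup.centralizer_le_normalizer
  rw [Subgroup.mem_centralizer_iff]
  rintro _ ⟨k, rfl⟩
  have hcz : Commute z c := (Subgroup.mem_centralizer_iff.mp hc) z hzY
  exact (hcz.zpow_left k).eq

/-- Two conjugates of a large `p`-subgroup `Q ≠ 1` inside a common `p`-subgroup coincide. -/
theorem large_conj_eq_of_le_pgroup [Finite G] {p : ℕ} [Fact p.Prime] {Q : Subgroup G}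
    (hL : Cfsg.IsLarge Q) (hQ1 : Q ≠ ⊥) (P : Subgroup G) (hP : IsPGroup p P) (a b : G)
    (ha : Q.map (MulAut.conj a).toMonoidHom ≤ P) (hb : Q.map (MulAut.conj b).toMonoidHom ≤ P) :
    Q.map (MulAut.conj a).toMonoidHom = Q.map (MulAut.conj b).toMonoidHom := by
  obtain ⟨T, hT⟩ := hP.exists_le_sylow
  have h1 := IsLarge_mem_normalizer_of_le_sylow (isLarge_map_conj hL b) (map_conj_ne_bot hQ1 b) T
    (hb.trans hT) (a * b⁻¹) (by
      rw [map_conj_map_conj]
      simpa using ha.trans hT)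
  have h2 := map_conj_eq_of_mem_normalizer h1
  rw [map_conj_map_conj] at h2
  simpa using h2

end Cfsg.Agent.Lib.Helper48
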