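import Mathlib
import Cfsg.Prelude.Def_LocalEven
import Cfsg.Prelude.Def_Transfer
import Cfsg.Agent.S3802
import Cfsg.Agent.S0542
import Cfsg.Agent.Lib.Helper48.SPE
import Cfsg.Agent.Lib.Helper48.Cores
import Cfsg.Agent.Lib.Helper48.Generation

set_option autoImplicit false

namespace Cfsg.Agent.Lib.Helper48

variable {G : Type*} [Group G]

/-- A subgroup containing a Sylow `q`-subgroup for every prime `q` is everything. -/
theorem eq_top_of_forall_sylow_le [Finite G] (X : Subgroup G)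
    (h : ∀ q : ℕ, ∀ _ : Fact q.Prime, ∃ Q : Sylow q G, (Q : Subgroup G) ≤ X) : X = ⊤ := by
  rw [← Subgroup.index_eq_one, Nat.eq_one_iff_not_exists_prime_dvd]
  intro q hq hdvd
  have hq' : Fact q.Prime := ⟨hq⟩
  obtain ⟨Q, hQ⟩ := h q hq'
  exact Q.not_dvd_index (hdvd.trans (Subgroup.index_dvd_of_le hQ))

theorem closure_normal_of_conj {s : Set G} (h : ∀ g x, x ∈ s → g * x * g⁻¹ ∈ s) :
    (Subgroup.closure s).Normal := by
  constructor
  intro n hn g
  induction hn using Subgroup.closure_induction with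
  | mem x hx => exact Subgroup.subset_closure (h g x hx)
  | one => simp
  | mul a b _ _ iha ihb =>
    have : g * (a * b) * g⁻¹ = (g * a * g⁻¹) * (g * b * g⁻¹) := by group
    rw [this]; exact Subgroup.mul_mem _ iha ihb
  | inv a _ iha =>
    have : g * a⁻¹ * g⁻¹ = (g * a * g⁻¹)⁻¹ := by group
    rw [this]; exact Subgroup.inv_mem _ iha

theorem mem_pResidual_of_coprime {p : ℕ} {g : G} (hg : Nat.Coprime (orderOf g) p) :
    g ∈ Cfsg.pResidual p G :=
  Subgroup.subset_closure hg

theorem pResidual_le_iff {p : ℕ} (N : Subgroup G) :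
    Cfsg.pResidual p G ≤ N ↔ ∀ g : G, Nat.Coprime (orderOf g) p → g ∈ N :=
  Subgroup.closure_le N

theorem pResidual_normal' (p : ℕ) (G : Type*) [Group G] : (Cfsg.pResidual p G).Normal := by
  apply closure_normal_of_conj
  intro g x hx
  change Nat.Coprime (orderOf (g * x * g⁻¹)) p
  rw [orderOf_conj_eq]
  exact hx

theorem pResidual_sup_sylow [Finite G] {p : ℕ} [Fact p.Prime] (S : Sylow p G) :
    Cfsg.pResidual p G ⊔ (S : Subgroup G) = ⊤ := by
  have hp : p.Prime := Fact.out
  apply eq_top_of_forall_sylow_le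
  intro q hq
  by_cases hqp : q = p
  · subst hqp
    exact ⟨S, le_sup_right⟩
  · refine ⟨default, fun x hx => Subgroup.mem_sup_left (mem_pResidual_of_coprime ?_)⟩
    obtain ⟨k, hk⟩ := (IsPGroup.iff_orderOf.mp (default : Sylow q G).isPGroup') ⟨x, hx⟩
    rw [← Subgroup.orderOf_coe] at hk
    simp only at hk
    rw [hk]
    exact Nat.Coprime.pow_left k ((Nat.coprime_primes hq.out hp).mpr hqp)

theorem isPGroup_quotient_of_sup_eq_top {p : ℕ} (N S : Subgroup G) [N.Normal]
    (hS : IsPGroup p S) (h : N ⊔ S = ⊤) : IsPGroup p (G ⧸ N) := by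
  let φ : S →* G ⧸ N := (QuotientGroup.mk' N).comp S.subtype
  have hsurj : Function.Surjective φ := by
    intro y
    induction y using QuotientGroup.induction_on with
    | H x =>
      have hx : x ∈ ((N ⊔ S : Subgroup G) : Set G) := by rw [h]; trivial
      rw [Subgroup.normal_mul] at hx
      obtain ⟨n, hn, s, hs, rfl⟩ := Set.mem_mul.mp hx
      refine ⟨⟨s, hs⟩, ?_⟩
      change (QuotientGroup.mk s : G ⧸ N) = QuotientGroup.mk (n * s)
      rw [QuotientGroup.mk_mul, (QuotientGroup.eq_one_iff n).mpr hn, one_mul]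
  exact hS.of_surjective φ hsurj

theorem pResidual_le_of_sup_eq_top [Finite G] {p : ℕ} [Fact p.Prime] (S : Sylow p G)
    (N : Subgroup G) [N.Normal] (h : N ⊔ (S : Subgroup G) = ⊤) : Cfsg.pResidual p G ≤ N := by
  rw [pResidual_le_iff]
  intro g hg
  have hQ : IsPGroup p (G ⧸ N) := isPGroup_quotient_of_sup_eq_top N (S : Subgroup G) S.isPGroup' h
  obtain ⟨k, hk⟩ := hQ (QuotientGroup.mk g)
  have h1 : orderOf (QuotientGroup.mk g : G ⧸ N) ∣ p ^ k := orderOf_dvd_of_pow_eq_one hk
  have h2 : orderOf (QuotientGroup.mk g : G ⧸ N) ∣ orderOf g := by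
    apply orderOf_dvd_of_pow_eq_one
    rw [← QuotientGroup.mk_pow, pow_orderOf_eq_one]
    rfl
  have h3 : orderOf (QuotientGroup.mk g : G ⧸ N) = 1 :=
    Nat.eq_one_of_dvd_coprimes (Nat.Coprime.pow_right k hg) h2 h1
  rw [orderOf_eq_one_iff] at h3
  exact (QuotientGroup.eq_one_iff g).mp h3

section pmin

variable [Finite G] {p : ℕ} [Fact p.Prime]

theorem pmin_le_coatom (hP : Cfsg.IsPMinimal p G) (S : Sylow p G) (M : Subgroup G)
    (hM : IsCoatom M) (hSM : (S : Subgroup G) ≤ M) (H : Subgroup G) (hSH : (S : Subgroup G) ≤ H)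
    (hH : H ≠ ⊤) : H ≤ M := by
  obtain ⟨M', hM', hHM'⟩ := (eq_top_or_exists_le_coatom H).resolve_left hH
  have := (hP S).2.unique ⟨hM', hSH.trans hHM'⟩ ⟨hM, hSM⟩
  rw [this] at hHM'
  exact hHM'

theorem pmin_normal_dichotomy (hP : Cfsg.IsPMinimal p G) (S : Sylow p G) (M : Subgroup G)
    (hM : IsCoatom M) (hSM : (S : Subgroup G) ≤ M) (N : Subgroup G) (hN : N.Normal) :
    Cfsg.pResidual p G ≤ N ∨ N ≤ M.normalCore := by
  by_cases h : N ⊔ (S : Subgroup G) = ⊤
  · left
    exact pResidual_le_of_sup_eq_top S N h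
  · right
    rw [Subgroup.normal_le_normalCore]
    exact le_sup_left.trans (pmin_le_coatom hP S M hM hSM _ le_sup_right h)

theorem pmin_not_le (hP : Cfsg.IsPMinimal p G) (S : Sylow p G) (M : Subgroup G)
    (hM : IsCoatom M) (hSM : (S : Subgroup G) ≤ M) : ¬ Cfsg.pResidual p G ≤ M := by
  intro h
  apply hM.1
  rw [eq_top_iff, ← pResidual_sup_sylow S]
  exact sup_le h hSM

theorem pmin_core_inf_sylow_le (hP : Cfsg.IsPMinimal p G) (S : Sylow p G) (M : Subgroup G)
    (hM : IsCoatom M) (hSM : (S : Subgroup G) ≤ M) :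
    (S : Subgroup G) ⊓ M.normalCore ≤ Cfsg.pCore p G := by
  have hFn : M.normalCore.Normal := Subgroup.normalCore_normal M
  obtain ⟨Q, hQ⟩ := Cfsg.Agent.S0542.result p M.normalCore hFn.isSubnormal S
  have hfr := Sylow.normalizer_sup_eq_top Q
  rw [hQ, Subgroup.subgroupOf_map_subtype] at hfr
  have hSn : (S : Subgroup G) ≤
      Subgroup.normalizer ((((S : Subgroup G) ⊓ M.normalCore : Subgroup G)) : Set G) := by
    rw [Subgroup.le_normalizer_iff]
    intro s hs x hx
    exact ⟨(S : Subgroup G).mul_mem ((S : Subgroup G).mul_mem hs hx.1) ((S : Subgroup G).inv_mem hs),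
      hFn.conj_mem x hx.2 s⟩
  have hnorm : Subgroup.normalizer ((((S : Subgroup G) ⊓ M.normalCore : Subgroup G)) : Set G) = ⊤ := by
    by_contra hne
    have h1 := pmin_le_coatom hP S M hM hSM _ hSn hne
    apply hM.1
    rw [eq_top_iff, ← hfr]
    exact sup_le h1 (Subgroup.normalCore_le M)
  have hDn : ((S : Subgroup G) ⊓ M.normalCore : Subgroup G).Normal :=
    Subgroup.normalizer_eq_top_iff.mp hnorm
  exact le_pCore' hDn (S.isPGroup'.to_inf_left)

end pmin

section pmin2

variable [Finite G] {p : ℕ} [Fact p.Prime]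

/-- A `p`-minimal group whose `O^p` has a normal Sylow `p`-subgroup has at most two prime
divisors. -/
theorem pmin_two_primes (hP : Cfsg.IsPMinimal p G) (S : Sylow p G) (M : Subgroup G)
    (hM : IsCoatom M) (hSM : (S : Subgroup G) ≤ M)
    (hT : ∀ T : Sylow p ↥(Cfsg.pResidual p G), (T : Subgroup ↥(Cfsg.pResidual p G)).Normal) :
    (Nat.card G).primeFactors.card ≤ 2 := by
  have hp : p.Prime := Fact.out
  have hYn : (Cfsg.pResidual p G).Normal := pResidual_normal' p G
  let T : Sylow p ↥(Cfsg.pResidual p G) := default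
  have hTc : (T : Subgroup ↥(Cfsg.pResidual p G)).Characteristic :=
    Sylow.characteristic_of_normal T (hT T)
  set T₀ : Subgroup G := (T : Subgroup ↥(Cfsg.pResidual p G)).map (Cfsg.pResidual p G).subtype
    with hT₀
  have hT₀n : T₀.Normal := ConjAct.normal_of_characteristic_of_normal
  have hT₀p : IsPGroup p T₀ := T.isPGroup'.map _
  have hT₀S : T₀ ≤ (S : Subgroup G) := hT₀p.le_sylow_of_normal S
  have hsurj : Function.Surjective (QuotientGroup.mk' T₀) := QuotientGroup.mk'_surjective T₀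
  set Ybar : Subgroup (G ⧸ T₀) := (Cfsg.pResidual p G).map (QuotientGroup.mk' T₀) with hYbar
  set Sbar : Subgroup (G ⧸ T₀) := (S : Subgroup G).map (QuotientGroup.mk' T₀) with hSbar
  have hYbarp : ¬ p ∣ Nat.card Ybar := by
    rw [hYbar, ← Subgroup.relIndex_ker, QuotientGroup.ker_mk']
    have h1 : T₀.relIndex (Cfsg.pResidual p G) = (T : Subgroup ↥(Cfsg.pResidual p G)).index := by
      rw [Subgroup.relIndex, hT₀, Subgroup.subgroupOf,
        Subgroup.comap_map_eq_self_of_injective (Subgroup.subtype_injective _)]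
    rw [h1]
    exact T.not_dvd_index
  have hSbarp : IsPGroup p Sbar := S.isPGroup'.map _
  have hYbarn : Ybar.Normal := hYn.map _ hsurj
  have hSY : Sbar ≤ Subgroup.normalizer (Ybar : Set (G ⧸ T₀)) := by
    rw [Subgroup.normalizer_eq_top]; exact le_top
  have key : ∃ (q : ℕ) (_ : Fact q.Prime) (Q' : Sylow q Ybar),
      Sbar ≤ Subgroup.normalizer ((((Q' : Subgroup Ybar).map Ybar.subtype : Subgroup (G ⧸ T₀))) : Set (G ⧸ T₀)) ∧
      (Q' : Subgroup Ybar).map Ybar.subtype ⊔ Sbar = ⊤ := by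
    by_contra hcon
    push Not at hcon
    have hall : ∀ q : ℕ, q.Prime → ∃ Q' : Sylow q Ybar,
        (Q' : Subgroup Ybar).map Ybar.subtype ≤ M.map (QuotientGroup.mk' T₀) := by
      intro q hq
      have hq' : Fact q.Prime := ⟨hq⟩
      obtain ⟨Q', hQ'⟩ := exists_invariant_sylow Ybar Sbar hSbarp hYbarp hSY q
      refine ⟨Q', ?_⟩
      have hne := hcon q hq' Q' hQ'
      have hH : ((Q' : Subgroup Ybar).map Ybar.subtype ⊔ Sbar).comap (QuotientGroup.mk' T₀) ≠ ⊤ := by
        intro h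
        apply hne
        have h2 := Subgroup.map_comap_eq_self_of_surjective hsurj
          ((Q' : Subgroup Ybar).map Ybar.subtype ⊔ Sbar)
        rw [h, ← MonoidHom.range_eq_map, MonoidHom.range_eq_top.mpr hsurj] at h2
        exact h2.symm
      have hSH : (S : Subgroup G) ≤
          ((Q' : Subgroup Ybar).map Ybar.subtype ⊔ Sbar).comap (QuotientGroup.mk' T₀) :=
        fun s hs => Subgroup.mem_comap.mpr (Subgroup.mem_sup_right (Subgroup.mem_map_of_mem _ hs))
      have hle := pmin_le_coatom hP S M hM hSM _ hSH hH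
      calc (Q' : Subgroup Ybar).map Ybar.subtype ≤ (Q' : Subgroup Ybar).map Ybar.subtype ⊔ Sbar :=
            le_sup_left
        _ = (((Q' : Subgroup Ybar).map Ybar.subtype ⊔ Sbar).comap (QuotientGroup.mk' T₀)).map
              (QuotientGroup.mk' T₀) := (Subgroup.map_comap_eq_self_of_surjective hsurj _).symm
        _ ≤ M.map (QuotientGroup.mk' T₀) := Subgroup.map_mono hle
    have hYM : Ybar ≤ M.map (QuotientGroup.mk' T₀) := le_of_forall_sylow_le Ybar _ hall
    have hY : Cfsg.pResidual p G ≤ M := by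
      intro y hy
      have h1 : (QuotientGroup.mk' T₀) y ∈ M.map (QuotientGroup.mk' T₀) :=
        hYM (Subgroup.mem_map_of_mem _ hy)
      obtain ⟨m, hm, hmy⟩ := h1
      have h2 : m⁻¹ * y ∈ T₀ := QuotientGroup.eq.mp hmy
      have h3 : y = m * (m⁻¹ * y) := by group
      rw [h3]
      exact M.mul_mem hm (hSM (hT₀S h2))
    exact pmin_not_le hP S M hM hSM hY
  obtain ⟨q, hq, Q', hQ'n, hQ'top⟩ := key
  set Qbar : Subgroup (G ⧸ T₀) := (Q' : Subgroup Ybar).map Ybar.subtype with hQbar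
  have hQbarn : Qbar.Normal := by
    rw [← Subgroup.normalizer_eq_top_iff, eq_top_iff, ← hQ'top]
    exact sup_le Subgroup.le_normalizer hQ'n
  have hquot : IsPGroup p ((G ⧸ T₀) ⧸ Qbar) :=
    isPGroup_quotient_of_sup_eq_top Qbar Sbar hSbarp hQ'top
  have hQbarq : IsPGroup q Qbar := Q'.isPGroup'.map _
  obtain ⟨a, ha⟩ := IsPGroup.iff_card.mp hT₀p
  obtain ⟨b, hb⟩ := IsPGroup.iff_card.mp hquot
  obtain ⟨c, hc⟩ := IsPGroup.iff_card.mp hQbarq
  have hcard : Nat.card G = p ^ b * q ^ c * p ^ a := by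
    rw [Subgroup.card_eq_card_quotient_mul_card_subgroup T₀,
      Subgroup.card_eq_card_quotient_mul_card_subgroup Qbar, ha, hb, hc]
  have hsub : (Nat.card G).primeFactors ⊆ {p, q} := by
    intro r hr
    have hrp := Nat.prime_of_mem_primeFactors hr
    have hrd := Nat.dvd_of_mem_primeFactors hr
    rw [hcard] at hrd
    rw [Finset.mem_insert, Finset.mem_singleton]
    rcases (Nat.Prime.dvd_mul hrp).mp hrd with h | h
    · rcases (Nat.Prime.dvd_mul hrp).mp h with h | h
      · left; exact (Nat.prime_dvd_prime_iff_eq hrp hp).mp (hrp.dvd_of_dvd_pow h)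
      · right; exact (Nat.prime_dvd_prime_iff_eq hrp hq.out).mp (hrp.dvd_of_dvd_pow h)
    · left; exact (Nat.prime_dvd_prime_iff_eq hrp hp).mp (hrp.dvd_of_dvd_pow h)
  exact (Finset.card_le_card hsub).trans Finset.card_le_two

end pmin2

end Cfsg.Agent.Lib.Helper48
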