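import Mathlib
import Cfsg.Agent.Lib.Helper48.PMinimal
import Cfsg.Agent.Lib.Helper22.Comp
import Cfsg.Agent.Lib.Helper22.Layer
import Cfsg.Agent.Lib.Helper22.Fstar
import Cfsg.Agent.S0009

/-!
p-minimal groups with a component (helper48).
-/

set_option autoImplicit false

namespace Cfsg.Agent.Lib.Helper48

open scoped commutatorElement

universe u

variable {G : Type u} [Group G]

/-- A perfect subgroup lies in every normal subgroup with solvable quotient. -/
theorem perfect_le_of_solvable_quotient (N : Subgroup G) [N.Normal] (hs : Group.IsSolvable (G ⧸ N))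
    (K : Subgroup G) (hK : ⁅K, K⁆ = K) : K ≤ N := by
  have h1 : ∀ n : ℕ, K.map (QuotientGroup.mk' N) ≤ derivedSeries (G ⧸ N) n := by
    intro n
    induction n with
    | zero => exact le_top
    | succ n ih =>
      rw [derivedSeries_succ]
      calc K.map (QuotientGroup.mk' N) = (⁅K, K⁆).map (QuotientGroup.mk' N) := by rw [hK]
        _ = ⁅K.map (QuotientGroup.mk' N), K.map (QuotientGroup.mk' N)⁆ :=
            Subgroup.map_commutator _ _ _
        _ ≤ _ := Subgroup.commutator_mono ih ih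
  obtain ⟨n, hn⟩ := hs.solvable
  intro k hk
  have h2 : QuotientGroup.mk' N k ∈ derivedSeries (G ⧸ N) n := h1 n ⟨k, hk, rfl⟩
  rw [hn, Subgroup.mem_bot] at h2
  exact (QuotientGroup.eq_one_iff k).mp h2

/-- A perfect subgroup lies in `O^p(G)`. -/
theorem perfect_le_pResidual [Finite G] {p : ℕ} [Fact p.Prime] (K : Subgroup G)
    (hK : ⁅K, K⁆ = K) : K ≤ Cfsg.pResidual p G := by
  haveI := pResidual_normal' p G
  have S : Sylow p G := default
  have hQ : IsPGroup p (G ⧸ Cfsg.pResidual p G) :=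
    isPGroup_quotient_of_sup_eq_top _ (S : Subgroup G) S.isPGroup' (pResidual_sup_sylow S)
  haveI hnil : Group.IsNilpotent (G ⧸ Cfsg.pResidual p G) := hQ.isNilpotent
  have hsolv : Group.IsSolvable (G ⧸ Cfsg.pResidual p G) := inferInstance
  exact perfect_le_of_solvable_quotient (Cfsg.pResidual p G) hsolv K hK

/-- If `O_p(G) = 1` then `F(G) ≤ O^p(G)`. -/
theorem fitting_le_pResidual [Finite G] {p : ℕ} [Fact p.Prime] (hOp : Cfsg.pCore p G = ⊥) :
    Cfsg.fittingSubgroup G ≤ Cfsg.pResidual p G := by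
  rw [Cfsg.Agent.S0009.result, iSup_le_iff]
  intro q
  by_cases hqp : (q : ℕ) = p
  · rw [hqp, hOp]; exact bot_le
  · intro x hx
    apply mem_pResidual_of_coprime
    haveI : Fact (q : ℕ).Prime := ⟨q.2⟩
    obtain ⟨k, hk⟩ := (pCore_isPGroup' (q : ℕ) G) ⟨x, hx⟩
    have h1 : x ^ ((q : ℕ) ^ k) = 1 := by simpa using congrArg Subtype.val hk
    have h2 : orderOf x ∣ (q : ℕ) ^ k := orderOf_dvd_of_pow_eq_one h1
    have h3 : Nat.Coprime ((q : ℕ) ^ k) p :=
      Nat.Coprime.pow_left k ((Nat.coprime_primes q.2 Fact.out).mpr hqp)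
    exact Nat.Coprime.coprime_dvd_left h2 h3

/-- In a `p`-minimal group with `O_p = 1`, a normal subgroup inside the maximal subgroup over a
Sylow `p`-subgroup is nilpotent. -/
theorem pmin_normal_le_nilpotent [Finite G] {p : ℕ} [Fact p.Prime] (hP : Cfsg.IsPMinimal p G)
    (hOp : Cfsg.pCore p G = ⊥) (S : Sylow p G) (M : Subgroup G) (hM : IsCoatom M)
    (hSM : (S : Subgroup G) ≤ M) (N : Subgroup G) [hN : N.Normal] (hNM : N ≤ M) :
    Group.IsNilpotent N := by
  have hcore : N ≤ M.normalCore := Subgroup.normal_le_normalCore.mpr hNM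
  have hSN : (S : Subgroup G) ⊓ N = ⊥ := by
    rw [eq_bot_iff, ← hOp]
    exact le_trans (inf_le_inf_left _ hcore) (pmin_core_inf_sylow_le hP S M hM hSM)
  have hpN : ¬ p ∣ Nat.card N := by
    intro hdvd
    obtain ⟨Q, hQ⟩ := Cfsg.Agent.S0542.result p N hN.isSubnormal S
    have h1 := Q.ne_bot_of_dvd_card hdvd
    apply h1
    rw [hQ, eq_bot_iff]
    intro x hx
    have h2 : (x : G) ∈ (S : Subgroup G) ⊓ N := ⟨Subgroup.mem_subgroupOf.mp hx, x.2⟩
    rw [hSN, Subgroup.mem_bot] at h2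
    rw [Subgroup.mem_bot]
    exact Subtype.ext h2
  have hall : ∀ (q : ℕ), Fact q.Prime → ∀ (T : Sylow q N), (T : Subgroup N).Normal := by
    intro q hq T
    obtain ⟨Q', hQ'⟩ := exists_invariant_sylow N (S : Subgroup G) S.isPGroup' hpN
      (by rw [Subgroup.normalizer_eq_top]; exact le_top) q
    have hfr := Sylow.normalizer_sup_eq_top Q'
    have htop : Subgroup.normalizer
        (((Q' : Subgroup N).map N.subtype : Subgroup G) : Set G) = ⊤ := by
      by_contra hne
      have h1 := pmin_le_coatom hP S M hM hSM _ hQ' hne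
      apply hM.1
      rw [eq_top_iff, ← hfr]
      exact sup_le h1 hNM
    have hQn : (Q' : Subgroup N).Normal := by
      have h2 : ((Q' : Subgroup N).map N.subtype).Normal :=
        Subgroup.normalizer_eq_top_iff.mp htop
      have h3 := h2.comap N.subtype
      rwa [Subgroup.comap_map_eq_self_of_injective N.subtype_injective] at h3
    obtain ⟨g, hg⟩ := MulAction.exists_smul_eq N Q' T
    rw [← hg, Sylow.smul_eq_of_normal]
    exact hQn
  exact ((Group.isNilpotent_of_finite_tfae (G := N)).out 3 0).mp hall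

/-- In a `p`-minimal group with `O_p = 1`, a normal subgroup containing a component
contains `O^p`. -/
theorem pmin_pResidual_le_of_component [Finite G] {p : ℕ} [Fact p.Prime]
    (hP : Cfsg.IsPMinimal p G) (hOp : Cfsg.pCore p G = ⊥) (S : Sylow p G) (M : Subgroup G)
    (hM : IsCoatom M) (hSM : (S : Subgroup G) ≤ M) (K : Subgroup G) (hK : Cfsg.IsComponent K)
    (N : Subgroup G) [hN : N.Normal] (hKN : K ≤ N) : Cfsg.pResidual p G ≤ N := by
  rcases pmin_normal_dichotomy hP S M hM hSM N hN with h | h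
  · exact h
  · exfalso
    have hNM : N ≤ M := Subgroup.normal_le_normalCore.mp h
    have hnil := pmin_normal_le_nilpotent hP hOp S M hM hSM N hNM
    exact Cfsg.Agent.Lib.Helper22.IsComponent.not_le_solvable hK inferInstance hKN

/-- The join of the `S`-conjugates of `A`. -/
def conjSup (S A : Subgroup G) : Subgroup G :=
  ⨆ s : ↥S, A.map (MulAut.conj (s : G)).toMonoidHom

theorem le_conjSup (S A : Subgroup G) : A ≤ conjSup S A := by
  intro a ha
  have h1 : a ∈ A.map (MulAut.conj ((1 : ↥S) : G)).toMonoidHom := ⟨a, ha, by simp⟩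
  exact (le_iSup (fun s : ↥S => A.map (MulAut.conj (s : G)).toMonoidHom) 1) h1

theorem conjSup_le_normalizer (S A : Subgroup G) :
    S ≤ Subgroup.normalizer (conjSup S A : Set G) := by
  apply Cfsg.Agent.Lib.Helper22.le_normalizer_of_conj_mem
  intro t ht n hn
  have h1 : conjSup S A ≤ (conjSup S A).comap (MulAut.conj t).toMonoidHom := by
    apply iSup_le
    intro s
    rintro x ⟨a, ha, rfl⟩
    rw [Subgroup.mem_comap]
    have h2 : (MulAut.conj t).toMonoidHom ((MulAut.conj (s : G)).toMonoidHom a) =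
        (MulAut.conj ((⟨t, ht⟩ * s : ↥S) : G)).toMonoidHom a := by
      simp [MulAut.conj_apply, mul_assoc]
    rw [h2]
    exact (le_iSup (fun s : ↥S => A.map (MulAut.conj (s : G)).toMonoidHom) (⟨t, ht⟩ * s))
      ⟨a, ha, rfl⟩
  have h2 := h1 hn
  rw [Subgroup.mem_comap] at h2
  simpa [MulAut.conj_apply] using h2

/-- To check `p`-minimality it suffices to look at one Sylow `p`-subgroup. -/
theorem isPMinimal_of_sylow [Finite G] {p : ℕ} [Fact p.Prime] (T₀ : Sylow p G)
    (hn : ¬ (T₀ : Subgroup G).Normal) (M₀ : Subgroup G) (hM₀ : IsCoatom M₀)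
    (hT : (T₀ : Subgroup G) ≤ M₀)
    (huniq : ∀ M' : Subgroup G, IsCoatom M' → (T₀ : Subgroup G) ≤ M' → M' = M₀) :
    Cfsg.IsPMinimal p G := by
  intro T
  obtain ⟨g, hg⟩ := MulAction.exists_smul_eq G T₀ T
  constructor
  · intro hTn
    apply hn
    haveI := hTn
    have h1 : g⁻¹ • T = T := Sylow.smul_eq_of_normal
    have h2 : g⁻¹ • T = T₀ := by rw [← hg, inv_smul_smul]
    rw [← h2, h1]
    exact hTn
  · let e : Subgroup G ≃o Subgroup G := (MulAut.conj g).mapSubgroup
    have hTe : (T : Subgroup G) = e (T₀ : Subgroup G) := by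
      rw [← hg, Sylow.coe_subgroup_smul]
      rfl
    refine ⟨e M₀, ⟨(e.isCoatom_iff M₀).mpr hM₀, ?_⟩, ?_⟩
    · rw [hTe]; exact e.monotone hT
    · rintro M' ⟨hM', hTM'⟩
      have h1 : IsCoatom (e.symm M') := by
        rw [← e.isCoatom_iff, e.apply_symm_apply]; exact hM'
      have h2 : (T₀ : Subgroup G) ≤ e.symm M' := by
        rw [hTe] at hTM'
        have := e.symm.monotone hTM'
        rwa [e.symm_apply_apply] at this
      have h3 := huniq _ h1 h2
      rw [← h3, e.apply_symm_apply]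

/-- A perfect subgroup `K` with `K ≤ A·C(K)` for `A ≤ K` equals `A`. -/
theorem perfect_le_of_le_sup_centralizer (K A : Subgroup G) (hK : ⁅K, K⁆ = K) (hAK : A ≤ K)
    (h : K ≤ A ⊔ Subgroup.centralizer (K : Set G)) : K ≤ A := by
  have hcomm : ∀ a ∈ A, ∀ c ∈ Subgroup.centralizer (K : Set G), a * c = c * a := by
    intro a ha c hc
    exact Subgroup.mem_centralizer_iff.mp hc a (hAK ha)
  have key : ⁅K, K⁆ ≤ A := by
    rw [Subgroup.commutator_le]
    intro k₁ hk₁ k₂ hk₂
    obtain ⟨a₁, ha₁, c₁, hc₁, rfl⟩ := Cfsg.Agent.Lib.Helper22.mem_sup_of_comm hcomm (h hk₁)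
    obtain ⟨a₂, ha₂, c₂, hc₂, rfl⟩ := Cfsg.Agent.Lib.Helper22.mem_sup_of_comm hcomm (h hk₂)
    have hc₂K : c₂ ∈ K := by
      have : c₂ = a₂⁻¹ * (a₂ * c₂) := by group
      rw [this]; exact K.mul_mem (K.inv_mem (hAK ha₂)) hk₂
    rw [Cfsg.Agent.Lib.Helper22.commutatorElement_mul_central a₁ a₂ c₁ c₂
      (hcomm a₂ ha₂ c₁ hc₁).symm (Subgroup.mem_centralizer_iff.mp hc₁ c₂ hc₂K).symm
      (hcomm a₁ ha₁ c₂ hc₂).symm]
    rw [commutatorElement_def]
    exact A.mul_mem (A.mul_mem (A.mul_mem ha₁ ha₂) (A.inv_mem ha₁)) (A.inv_mem ha₂)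
  rwa [hK] at key

/-- `⟨z⟩N / N` is abelian when `z` normalizes `N`. -/
theorem commutator_zpowers_sup_le (N : Subgroup G) (z : G)
    (hz : z ∈ Subgroup.normalizer (N : Set G)) :
    ⁅Subgroup.zpowers z ⊔ N, Subgroup.zpowers z ⊔ N⁆ ≤ N := by
  have hzn : Subgroup.zpowers z ≤ Subgroup.normalizer (N : Set G) := Subgroup.zpowers_le.mpr hz
  have hdecomp : ∀ w ∈ Subgroup.zpowers z ⊔ N, ∃ n : ℤ, ∃ s ∈ N, w = z ^ n * s := by
    intro w hw
    have h1 : w ∈ ((Subgroup.zpowers z ⊔ N : Subgroup G) : Set G) := hw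
    rw [Subgroup.coe_mul_of_left_le_normalizer_right _ _ hzn] at h1
    obtain ⟨x, ⟨n, rfl⟩, s, hs, rfl⟩ := h1
    exact ⟨n, s, hs, rfl⟩
  rw [Subgroup.commutator_le]
  intro w₁ hw₁ w₂ hw₂
  obtain ⟨a, s, hs, rfl⟩ := hdecomp w₁ hw₁
  obtain ⟨b, t, ht, rfl⟩ := hdecomp w₂ hw₂
  have hconj : ∀ (m : ℤ) (x : G), x ∈ N → z ^ m * x * (z ^ m)⁻¹ ∈ N := by
    intro m x hx
    exact (Subgroup.mem_normalizer_iff.mp (hzn (Subgroup.zpow_mem_zpowers z m)) x).mp hx
  have e : ⁅z ^ a * s, z ^ b * t⁆ = z ^ (a + b) * ((z ^ (-b) * s * (z ^ (-b))⁻¹) * t *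
      (z ^ (-a) * t * (z ^ (-a))⁻¹ * s)⁻¹) * (z ^ (a + b))⁻¹ := by
    rw [commutatorElement_def]; group
  rw [e]
  apply hconj
  exact N.mul_mem (N.mul_mem (hconj _ _ hs) ht) (N.inv_mem (N.mul_mem (hconj _ _ ht) hs))

/-- The join of the `S`-conjugates of a component of a `p`-minimal group with `O_p = 1` is
normal. -/
theorem pmin_conjSup_normal [Finite G] {p : ℕ} [Fact p.Prime]
    (hP : Cfsg.IsPMinimal p G) (hOp : Cfsg.pCore p G = ⊥) (S : Sylow p G) (M : Subgroup G)
    (hM : IsCoatom M) (hSM : (S : Subgroup G) ≤ M) (K : Subgroup G) (hK : Cfsg.IsComponent K) :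
    (conjSup (S : Subgroup G) K).Normal := by
  haveI hLn : (Cfsg.layer G).Normal := Cfsg.Agent.Lib.Helper22.layer_normal' G
  have h1 : Cfsg.pResidual p G ≤ Cfsg.layer G :=
    pmin_pResidual_le_of_component hP hOp S M hM hSM K hK _
      (Cfsg.Agent.Lib.Helper22.component_le_layer hK)
  have h2 : Cfsg.layer G ⊔ (S : Subgroup G) = ⊤ := by
    rw [eq_top_iff, ← pResidual_sup_sylow S]
    exact sup_le_sup_right h1 _
  rw [← Subgroup.normalizer_eq_top_iff, eq_top_iff, ← h2]
  refine sup_le ?_ (conjSup_le_normalizer _ K)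
  apply Cfsg.Agent.Lib.Helper22.le_normalizer_of_conj_mem
  intro l hl n hn
  have h3 : conjSup (S : Subgroup G) K ≤
      (conjSup (S : Subgroup G) K).comap (MulAut.conj l).toMonoidHom := by
    apply iSup_le
    intro s x hx
    rw [Subgroup.mem_comap]
    have hcomp : Cfsg.IsComponent (K.map (MulAut.conj (s : G)).toMonoidHom) :=
      Cfsg.Agent.Lib.Helper22.isComponent_map_equiv (MulAut.conj (s : G)) hK
    have h4 := Cfsg.Agent.Lib.Helper22.layer_le_normalizer_component hcomp hl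
    have h5 := (Subgroup.mem_normalizer_iff.mp h4 x).mp hx
    exact (le_iSup (fun s : ↥(S : Subgroup G) => K.map (MulAut.conj (s : G)).toMonoidHom) s) h5
  have h6 := h3 hn
  rw [Subgroup.mem_comap] at h6
  simpa [MulAut.conj_apply] using h6

/-- A component of a `p`-minimal group with `O_p = 1` does not lie in the maximal subgroup
over a Sylow `p`-subgroup. -/
theorem pmin_component_not_le [Finite G] {p : ℕ} [Fact p.Prime]
    (hP : Cfsg.IsPMinimal p G) (hOp : Cfsg.pCore p G = ⊥) (S : Sylow p G) (M : Subgroup G)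
    (hM : IsCoatom M) (hSM : (S : Subgroup G) ≤ M) (K : Subgroup G) (hK : Cfsg.IsComponent K) :
    ¬ K ≤ M := by
  intro hKM
  haveI := pmin_conjSup_normal hP hOp S M hM hSM K hK
  have h1 : Cfsg.pResidual p G ≤ conjSup (S : Subgroup G) K :=
    pmin_pResidual_le_of_component hP hOp S M hM hSM K hK _ (le_conjSup _ K)
  apply pmin_not_le hP S M hM hSM
  refine le_trans h1 ?_
  apply iSup_le
  rintro s x ⟨k, hk, rfl⟩
  simp only [MulEquiv.coe_toMonoidHom, MulAut.conj_apply]
  exact M.mul_mem (M.mul_mem (hSM s.2) (hKM hk)) (M.inv_mem (hSM s.2))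

/-- Key step: a subgroup containing `N_S(K)` but not `K` meets `K` inside `M`. -/
theorem pmin_component_inf_le [Finite G] {p : ℕ} [Fact p.Prime]
    (hP : Cfsg.IsPMinimal p G) (S : Sylow p G) (M : Subgroup G)
    (hM : IsCoatom M) (hSM : (S : Subgroup G) ≤ M) (K : Subgroup G) (hK : Cfsg.IsComponent K)
    (Y : Subgroup G) (hSY : (S : Subgroup G) ⊓ Subgroup.normalizer (K : Set G) ≤ Y)
    (hne : ¬ K ≤ Y) : Y ⊓ K ≤ M := by
  by_contra hAM
  have htop : (Y ⊓ K) ⊔ (S : Subgroup G) = ⊤ := by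
    by_contra hne'
    exact hAM (le_trans le_sup_left (pmin_le_coatom hP S M hM hSM _ le_sup_right hne'))
  haveI hBn : (conjSup (S : Subgroup G) (Y ⊓ K)).Normal := by
    rw [← Subgroup.normalizer_eq_top_iff, eq_top_iff, ← htop]
    exact sup_le (le_trans (le_conjSup _ _) Subgroup.le_normalizer) (conjSup_le_normalizer _ _)
  have hBS : conjSup (S : Subgroup G) (Y ⊓ K) ⊔ (S : Subgroup G) = ⊤ := by
    rw [eq_top_iff, ← htop]
    exact sup_le_sup_right (le_conjSup _ _) _
  have hres : Cfsg.pResidual p G ≤ conjSup (S : Subgroup G) (Y ⊓ K) :=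
    pResidual_le_of_sup_eq_top S _ hBS
  have hKB : K ≤ conjSup (S : Subgroup G) (Y ⊓ K) :=
    le_trans (perfect_le_pResidual K (Cfsg.Agent.Lib.Helper22.IsComponent.perfect hK)) hres
  have hBle : conjSup (S : Subgroup G) (Y ⊓ K) ≤
      (Y ⊓ K) ⊔ Subgroup.centralizer (K : Set G) := by
    apply iSup_le
    intro s
    by_cases hs : (s : G) ∈ Subgroup.normalizer (K : Set G)
    · refine le_trans ?_ le_sup_left
      rintro x ⟨a, ha, rfl⟩
      have hsY : (s : G) ∈ Y := hSY ⟨s.2, hs⟩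
      simp only [MulEquiv.coe_toMonoidHom, MulAut.conj_apply]
      exact ⟨Y.mul_mem (Y.mul_mem hsY ha.1) (Y.inv_mem hsY),
        (Subgroup.mem_normalizer_iff.mp hs a).mp ha.2⟩
    · refine le_trans ?_ le_sup_right
      have hcomp : Cfsg.IsComponent (K.map (MulAut.conj (s : G)).toMonoidHom) :=
        Cfsg.Agent.Lib.Helper22.isComponent_map_equiv (MulAut.conj (s : G)) hK
      have hneK : K.map (MulAut.conj (s : G)).toMonoidHom ≠ K := by
        intro heq
        apply hs
        rw [Subgroup.mem_normalizer_iff]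
        intro k
        constructor
        · intro hk
          have h1 : (s : G) * k * (s : G)⁻¹ ∈ K.map (MulAut.conj (s : G)).toMonoidHom :=
            ⟨k, hk, rfl⟩
          rwa [heq] at h1
        · intro hk
          have h1 : (s : G) * k * (s : G)⁻¹ ∈ K.map (MulAut.conj (s : G)).toMonoidHom := by
            rw [heq]; exact hk
          obtain ⟨k', hk', hkk⟩ := h1
          simp only [MulEquiv.coe_toMonoidHom, MulAut.conj_apply] at hkk
          have h2 : k' = k := mul_left_cancel (mul_right_cancel hkk)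
          rw [← h2]; exact hk'
      have hc := Cfsg.Agent.Lib.Helper22.components_commute hcomp hK hneK
      rw [Subgroup.commutator_eq_bot_iff_le_centralizer] at hc
      exact le_trans (Subgroup.map_mono inf_le_right) hc
  have hKA : K ≤ Y ⊓ K :=
    perfect_le_of_le_sup_centralizer K (Y ⊓ K)
      (Cfsg.Agent.Lib.Helper22.IsComponent.perfect hK) inf_le_right (le_trans hKB hBle)
  exact hne (le_trans hKA inf_le_left)

end Cfsg.Agent.Lib.Helper48
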