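import Mathlib
import Cfsg.Agent.Lib.Helper47.Large
import Cfsg.Agent.Lib.Helper47.Subn
import Cfsg.Agent.Lib.Helper47.PRedSub
import Cfsg.Agent.Lib.Helper47.Comm
import Cfsg.Agent.Lib.Helper47.PIrr2
import Cfsg.Agent.Lib.Helper47.StrongFusion
import Cfsg.Agent.Lib.Helper48.LargeSub
import Cfsg.Agent.Lib.Helper48.PMinComp
import Cfsg.Agent.S2845

/-!
# Asymmetric `Y_M`: `O_p(M)` is weakly closed

`M ∈ 𝔐_G(S)`, `Q` large, `Y = Y_M` asymmetric, `R = O_p(M)`, `M† = M C_G(Y)`.
The set `mutNorm R` of all `a` such that `R` and `a R a⁻¹` normalize each other generates a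
subgroup `K`; by induction on word length every `x Y x⁻¹` (`x ∈ K`) lies in `R`, so `K`
normalizes a nontrivial `p`-subgroup and hence `K ≤ M†`.
-/

set_option autoImplicit false

namespace Cfsg.Agent.Lib.Helper48

open Cfsg.Agent.Lib.Helper47
open scoped commutatorElement

section Asym

variable {G : Type*} [Group G]

/-- The set of `a` such that `R` and `a R a⁻¹` normalize each other. -/
def mutNorm (R : Subgroup G) : Set G :=
  {a | R.map (MulAut.conj a).toMonoidHom ≤ Subgroup.normalizer (R : Set G) ∧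
       R ≤ Subgroup.normalizer ((R.map (MulAut.conj a).toMonoidHom : Subgroup G) : Set G)}

theorem inv_mem_mutNorm {R : Subgroup G} {a : G} (ha : a ∈ mutNorm R) : a⁻¹ ∈ mutNorm R := by
  obtain ⟨h1, h2⟩ := ha
  constructor
  · have := Subgroup.map_mono (f := (MulAut.conj a⁻¹).toMonoidHom) h2
    rw [← normalizer_map_conj, map_conj_inv_map_conj] at this
    exact this
  · have := Subgroup.map_mono (f := (MulAut.conj a⁻¹).toMonoidHom) h1
    rw [← normalizer_map_conj, map_conj_inv_map_conj] at this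
    exact this

theorem normalizer_subset_mutNorm (R : Subgroup G) :
    (Subgroup.normalizer (R : Set G) : Set G) ⊆ mutNorm R := by
  intro n hn
  have h : R.map (MulAut.conj n).toMonoidHom = R := map_conj_eq_of_mem_normalizer hn
  constructor
  · rw [h]; exact Subgroup.le_normalizer
  · rw [h]; exact Subgroup.le_normalizer

variable [Finite G] {p : ℕ} [Fact p.Prime]

/-- `N_G(I) ≤ M†` for every nontrivial `p`-subgroup `I` normalized by `M ∈ 𝔐_G(S)`. -/
theorem frakM_normalizer_le_dagger (S : Sylow p G) (Q : Subgroup G) (hQp : IsPGroup p ↥Q)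
    (hQ : Cfsg.IsLarge Q) (M : Subgroup G) (hSM : (S : Subgroup G) ≤ M)
    (hM : Cfsg.IsInFrakM p M) {I : Subgroup G} (hIp : IsPGroup p I) (hI1 : I ≠ ⊥)
    (hMI : M ≤ Subgroup.normalizer (I : Set G)) :
    Subgroup.normalizer (I : Set G) ≤
      M ⊔ Subgroup.centralizer ((Cfsg.largestPReducedOf p M : Subgroup G) : Set G) := by
  obtain ⟨hMc, hMdmax, hMduniq, -, -, -⟩ := hM
  have hpar : Cfsg.IsParabolic p (Subgroup.normalizer (I : Set G)) := ⟨S, hSM.trans hMI⟩
  have hne : Cfsg.pCore p ↥(Subgroup.normalizer (I : Set G)) ≠ ⊥ := by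
    intro h
    apply hI1
    have h1 := le_pCoreOf_normalizer hIp
    have h2 : Cfsg.pCoreOf p (Subgroup.normalizer (I : Set G)) = ⊥ := by
      unfold Cfsg.pCoreOf; rw [h, Subgroup.map_bot]
    rw [h2] at h1
    exact le_bot_iff.mp h1
  have hchar : Subgroup.normalizer (I : Set G) ∈ Cfsg.charPSubgroups p G :=
    ⟨hne, Cfsg.Agent.S2845.large_parabolic Q hQp hQ _ hpar hne⟩
  obtain ⟨X, hX1, hX2⟩ := Finite.exists_le_maximal
    (p := fun L : Subgroup G => L ∈ Cfsg.charPSubgroups p G) hchar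
  have hXmax : X ∈ Cfsg.maxCharPSubgroups p G :=
    ⟨hX2.1, fun L hL hXL => le_antisymm (hX2.2 hL hXL) hXL⟩
  have := hMduniq X hXmax (hMI.trans hX1)
  rw [← this]; exact hX1

/-- `O_p(M) ≠ 1` for `M ∈ 𝔐_G`. -/
theorem frakM_pCoreOf_ne_bot (M : Subgroup G) (hM : Cfsg.IsInFrakM p M) :
    Cfsg.pCoreOf p M ≠ ⊥ := by
  intro h
  apply hM.1.1
  unfold Cfsg.pCoreOf at h
  exact (Subgroup.map_eq_bot_iff_of_injective _ M.subtype_injective).mp h

/-- `M† ≤ N_G(Y_M)`. -/
theorem frakM_dagger_le_normalizer (M : Subgroup G) :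
    M ⊔ Subgroup.centralizer ((Cfsg.largestPReducedOf p M : Subgroup G) : Set G) ≤
      Subgroup.normalizer ((Cfsg.largestPReducedOf p M : Subgroup G) : Set G) :=
  sup_le (largestPReducedOf_spec p M).1 (Subgroup.centralizer_le_normalizer _)

/-- `M† ≤ N_G(C_G(Y_M))`. -/
theorem frakM_dagger_le_normalizer_centralizer (M : Subgroup G) :
    M ⊔ Subgroup.centralizer ((Cfsg.largestPReducedOf p M : Subgroup G) : Set G) ≤
      Subgroup.normalizer ((Subgroup.centralizer
        ((Cfsg.largestPReducedOf p M : Subgroup G) : Set G) : Subgroup G) : Set G) :=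
  sup_le ((largestPReducedOf_spec p M).1.trans
    (normalizer_le_normalizer_centralizer (Cfsg.largestPReducedOf p M))) Subgroup.le_normalizer

/-- `N_G(O_p(M)) ≤ M†`. -/
theorem frakM_normalizer_pCoreOf_le (S : Sylow p G) (Q : Subgroup G) (hQp : IsPGroup p ↥Q)
    (hQ : Cfsg.IsLarge Q) (M : Subgroup G) (hSM : (S : Subgroup G) ≤ M)
    (hM : Cfsg.IsInFrakM p M) :
    Subgroup.normalizer ((Cfsg.pCoreOf p M : Subgroup G) : Set G) ≤
      M ⊔ Subgroup.centralizer ((Cfsg.largestPReducedOf p M : Subgroup G) : Set G) :=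
  frakM_normalizer_le_dagger S Q hQp hQ M hSM hM (pCoreOf_isPGroup p M)
    (frakM_pCoreOf_ne_bot M hM) (le_normalizer_pCoreOf p M)

/-- `C_S(Y_M) ≤ O_p(M)`. -/
theorem frakM_sylow_inf_centralizer_le (S : Sylow p G) (M : Subgroup G)
    (hSM : (S : Subgroup G) ≤ M) (hM : Cfsg.IsInFrakM p M) :
    (S : Subgroup G) ⊓ Subgroup.centralizer ((Cfsg.largestPReducedOf p M : Subgroup G) : Set G) ≤
      Cfsg.pCoreOf p M := by
  have hpcl := hM.2.2.2.2.1
  have hMX : M ≤ Subgroup.normalizer ((M ⊓ Subgroup.centralizer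
      ((Cfsg.largestPReducedOf p M : Subgroup G) : Set G) : Subgroup G) : Set G) :=
    (le_inf Subgroup.le_normalizer ((largestPReducedOf_spec p M).1.trans
      (normalizer_le_normalizer_centralizer _))).trans Subgroup.inf_normalizer_le_normalizer_inf
  exact le_pCoreOf_of_isPClosed hpcl inf_le_left hMX (S.isPGroup'.to_le inf_le_left)
    (inf_le_inf_right _ hSM)

/-- `O_p(M)` is a Sylow `p`-subgroup of `C_G(Y_M)`, in the form: a `p`-subgroup `P ≥ O_p(M)`
meets `C_G(Y_M)` in `O_p(M)`. -/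
theorem frakM_inf_centralizer_le (S : Sylow p G) (M : Subgroup G)
    (hSM : (S : Subgroup G) ≤ M) (hM : Cfsg.IsInFrakM p M) {P : Subgroup G} (hP : IsPGroup p P)
    (hRP : Cfsg.pCoreOf p M ≤ P) :
    P ⊓ Subgroup.centralizer ((Cfsg.largestPReducedOf p M : Subgroup G) : Set G) ≤
      Cfsg.pCoreOf p M := by
  set Y := Cfsg.largestPReducedOf p M with hY
  set Md : Subgroup G := M ⊔ Subgroup.centralizer (Y : Set G) with hMd
  set P₀ : Subgroup G := P ⊓ Subgroup.centralizer (Y : Set G) with hP₀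
  have hP₀p : IsPGroup p P₀ := hP.to_le inf_le_left
  have hP₀Md : P₀ ≤ Md := inf_le_right.trans le_sup_right
  obtain ⟨m, hm, P', hP', hSP', hPm⟩ := exists_conj_le_common_pgroup Md (S : Subgroup G) P₀
    S.isPGroup' hP₀p (hSM.trans le_sup_left) hP₀Md
  have hSeq : P' = (S : Subgroup G) := S.is_maximal' hP' hSP'
  rw [hSeq] at hPm
  have hmC : (Subgroup.centralizer (Y : Set G)).map (MulAut.conj m).toMonoidHom =
      Subgroup.centralizer (Y : Set G) :=
    map_conj_eq_of_mem_normalizer (frakM_dagger_le_normalizer_centralizer M hm)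
  have h1 : P₀.map (MulAut.conj m).toMonoidHom ≤ Subgroup.centralizer (Y : Set G) := by
    have := Subgroup.map_mono (f := (MulAut.conj m).toMonoidHom)
      (inf_le_right : P₀ ≤ Subgroup.centralizer (Y : Set G))
    rwa [hmC] at this
  have h2 : P₀.map (MulAut.conj m).toMonoidHom ≤ Cfsg.pCoreOf p M :=
    (le_inf hPm h1).trans (frakM_sylow_inf_centralizer_le S M hSM hM)
  have hRP₀ : Cfsg.pCoreOf p M ≤ P₀ :=
    le_inf hRP (pCoreOf_le_centralizer_largestPReducedOf p M)
  have hcard : Nat.card ↥P₀ ≤ Nat.card ↥(Cfsg.pCoreOf p M) := by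
    have e : Nat.card ↥(P₀.map (MulAut.conj m).toMonoidHom) = Nat.card ↥P₀ :=
      Subgroup.card_map_of_injective (MulAut.conj m).injective
    rw [← e]
    exact Subgroup.card_le_of_le h2
  exact (Subgroup.eq_of_le_of_card_ge hRP₀ hcard).ge

/-- The induction step: if `g = a h` and `g⁻¹ = b k` with `a, b ∈ mutNorm R` and the conjugates
of `Y` by `h` and `k` lie in `R`, then so does the conjugate by `g`. -/
theorem asym_step (S : Sylow p G) (Q : Subgroup G) (hQp : IsPGroup p ↥Q)
    (hQ : Cfsg.IsLarge Q) (M : Subgroup G) (hSM : (S : Subgroup G) ≤ M)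
    (hM : Cfsg.IsInFrakM p M) (hasym : ¬ Cfsg.IsSymmetricIn (Cfsg.largestPReducedOf p M))
    {a b h k : G} (ha : a ∈ mutNorm (Cfsg.pCoreOf p M)) (hb : b ∈ mutNorm (Cfsg.pCoreOf p M))
    (hh : (Cfsg.largestPReducedOf p M).map (MulAut.conj h).toMonoidHom ≤ Cfsg.pCoreOf p M)
    (hk : (Cfsg.largestPReducedOf p M).map (MulAut.conj k).toMonoidHom ≤ Cfsg.pCoreOf p M)
    (hab : (a * h)⁻¹ = b * k) :
    (Cfsg.largestPReducedOf p M).map (MulAut.conj (a * h)).toMonoidHom ≤ Cfsg.pCoreOf p M := by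
  set Y := Cfsg.largestPReducedOf p M with hY
  set R := Cfsg.pCoreOf p M with hR
  have hNR := frakM_normalizer_pCoreOf_le S Q hQp hQ M hSM hM
  have hMdY := frakM_dagger_le_normalizer (p := p) M
  have hRa : Y.map (MulAut.conj (a * h)).toMonoidHom ≤ R.map (MulAut.conj a).toMonoidHom := by
    rw [← Cfsg.Agent.Lib.Helper48.map_conj_map_conj]
    exact Subgroup.map_mono hh
  have h1 : Y.map (MulAut.conj (a * h)).toMonoidHom ≤ Subgroup.normalizer (Y : Set G) :=
    hRa.trans (ha.1.trans (hNR.trans hMdY))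
  have h1' : Y.map (MulAut.conj (b * k)).toMonoidHom ≤ Subgroup.normalizer (Y : Set G) := by
    have : Y.map (MulAut.conj (b * k)).toMonoidHom ≤ R.map (MulAut.conj b).toMonoidHom := by
      rw [← Cfsg.Agent.Lib.Helper48.map_conj_map_conj]
      exact Subgroup.map_mono hk
    exact this.trans (hb.1.trans (hNR.trans hMdY))
  have h2 : Y ≤ Subgroup.normalizer
      ((Y.map (MulAut.conj (a * h)).toMonoidHom : Subgroup G) : Set G) := by
    rw [← hab] at h1'
    have := Subgroup.map_mono (f := (MulAut.conj (a * h)).toMonoidHom) h1'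
    rw [map_conj_map_conj_inv, ← normalizer_map_conj] at this
    exact this
  have c1 : ⁅Y, Y.map (MulAut.conj (a * h)).toMonoidHom⁆ ≤ Y :=
    Cfsg.Agent.Lib.Helper47.commutator_le_of_le_normalizer h1 le_rfl
  have c2 : ⁅Y, Y.map (MulAut.conj (a * h)).toMonoidHom⁆ ≤
      Y.map (MulAut.conj (a * h)).toMonoidHom := by
    rw [Subgroup.commutator_comm]
    exact Cfsg.Agent.Lib.Helper47.commutator_le_of_le_normalizer h2 le_rfl
  have hbot : ⁅Y, Y.map (MulAut.conj (a * h)).toMonoidHom⁆ = ⊥ := by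
    by_contra hne
    exact hasym ⟨a * h, hne, le_inf c1 c2⟩
  have hcent : Y.map (MulAut.conj (a * h)).toMonoidHom ≤ Subgroup.centralizer (Y : Set G) := by
    rw [Subgroup.commutator_comm] at hbot
    exact Subgroup.commutator_eq_bot_iff_le_centralizer.mp hbot
  have hPp : IsPGroup p ↥(R.map (MulAut.conj a).toMonoidHom ⊔ R) :=
    IsPGroup.to_sup_of_normal_right' ((pCoreOf_isPGroup p M).map _) (pCoreOf_isPGroup p M) ha.1
  exact (le_inf (hRa.trans le_sup_left) hcent).trans
    (frakM_inf_centralizer_le S M hSM hM hPp le_sup_right)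

/-- Word induction. -/
theorem asym_words (S : Sylow p G) (Q : Subgroup G) (hQp : IsPGroup p ↥Q)
    (hQ : Cfsg.IsLarge Q) (M : Subgroup G) (hSM : (S : Subgroup G) ≤ M)
    (hM : Cfsg.IsInFrakM p M) (hasym : ¬ Cfsg.IsSymmetricIn (Cfsg.largestPReducedOf p M)) :
    ∀ n : ℕ, ∀ l : List G, l.length ≤ n → (∀ a ∈ l, a ∈ mutNorm (Cfsg.pCoreOf p M)) →
      (Cfsg.largestPReducedOf p M).map (MulAut.conj l.prod).toMonoidHom ≤ Cfsg.pCoreOf p M ∧
      (Cfsg.largestPReducedOf p M).map (MulAut.conj l.prod⁻¹).toMonoidHom ≤ Cfsg.pCoreOf p M := by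
  have hbase : (Cfsg.largestPReducedOf p M).map (MulAut.conj (1 : G)).toMonoidHom ≤
      Cfsg.pCoreOf p M := by
    rw [map_conj_one]; exact largestPReducedOf_le_pCoreOf p M
  intro n
  induction n with
  | zero =>
    intro l hl _
    have : l = [] := List.length_eq_zero_iff.mp (Nat.le_zero.mp hl)
    subst this
    simp only [List.prod_nil, inv_one]
    exact ⟨hbase, hbase⟩
  | succ n ih =>
    intro l hl hmem
    rcases l with _ | ⟨a, l₁⟩
    · simp only [List.prod_nil, inv_one]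
      exact ⟨hbase, hbase⟩
    · have hne : (a :: l₁) ≠ [] := List.cons_ne_nil _ _
      have hdl := List.dropLast_append_getLast hne
      set l₂ := (a :: l₁).dropLast with hl₂
      set b := (a :: l₁).getLast hne with hb
      have hlen₁ : l₁.length ≤ n := by simpa using hl
      have hlen₂ : l₂.length ≤ n := by
        have : l₂.length = (a :: l₁).length - 1 := List.length_dropLast
        rw [this]; simp only [List.length_cons] at hl ⊢; omega
      have hmem₁ : ∀ x ∈ l₁, x ∈ mutNorm (Cfsg.pCoreOf p M) :=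
        fun x hx => hmem x (List.mem_cons_of_mem _ hx)
      have hmem₂ : ∀ x ∈ l₂, x ∈ mutNorm (Cfsg.pCoreOf p M) :=
        fun x hx => hmem x (List.mem_of_mem_dropLast hx)
      have ha : a ∈ mutNorm (Cfsg.pCoreOf p M) := hmem a List.mem_cons_self
      have hbm : b ∈ mutNorm (Cfsg.pCoreOf p M) := hmem b (List.getLast_mem hne)
      have e1 : (a :: l₁).prod = a * l₁.prod := List.prod_cons
      have e2 : (a :: l₁).prod = l₂.prod * b := by
        conv_lhs => rw [← hdl]
        rw [List.prod_append, List.prod_singleton]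
      have e3 : a * l₁.prod = l₂.prod * b := e1.symm.trans e2
      have hA := asym_step S Q hQp hQ M hSM hM hasym ha (inv_mem_mutNorm hbm)
        (ih l₁ hlen₁ hmem₁).1 (ih l₂ hlen₂ hmem₂).2 (by rw [e3, mul_inv_rev])
      have hB := asym_step S Q hQp hQ M hSM hM hasym (inv_mem_mutNorm hbm) ha
        (ih l₂ hlen₂ hmem₂).2 (ih l₁ hlen₁ hmem₁).1 (by rw [← mul_inv_rev, ← e3, inv_inv])
      rw [e1]
      refine ⟨hA, ?_⟩
      rw [e3, mul_inv_rev]
      exact hB

/-- Every conjugate of `Y_M` by an element of the subgroup generated by `mutNorm O_p(M)` lies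
in `O_p(M)`. -/
theorem asym_closure (S : Sylow p G) (Q : Subgroup G) (hQp : IsPGroup p ↥Q)
    (hQ : Cfsg.IsLarge Q) (M : Subgroup G) (hSM : (S : Subgroup G) ≤ M)
    (hM : Cfsg.IsInFrakM p M) (hasym : ¬ Cfsg.IsSymmetricIn (Cfsg.largestPReducedOf p M))
    {x : G} (hx : x ∈ Subgroup.closure (mutNorm (Cfsg.pCoreOf p M))) :
    (Cfsg.largestPReducedOf p M).map (MulAut.conj x).toMonoidHom ≤ Cfsg.pCoreOf p M := by
  have hx' : x ∈ (Subgroup.closure (mutNorm (Cfsg.pCoreOf p M))).toSubmonoid := hx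
  rw [Subgroup.closure_toSubmonoid] at hx'
  obtain ⟨l, hl, rfl⟩ := Submonoid.exists_list_of_mem_closure hx'
  refine (asym_words S Q hQp hQ M hSM hM hasym l.length l le_rfl ?_).1
  intro a ha
  rcases hl a ha with h | h
  · exact h
  · have := inv_mem_mutNorm (Set.mem_inv.mp h)
    rwa [inv_inv] at this

/-- Key lemma: if `R = O_p(M)` and `a R a⁻¹` normalize each other, then `a ∈ M†`. -/
theorem asym_mutNorm_mem_dagger (S : Sylow p G) (Q : Subgroup G) (hQp : IsPGroup p ↥Q)
    (hQ : Cfsg.IsLarge Q) (M : Subgroup G) (hSM : (S : Subgroup G) ≤ M)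
    (hM : Cfsg.IsInFrakM p M) (hasym : ¬ Cfsg.IsSymmetricIn (Cfsg.largestPReducedOf p M))
    {a : G} (ha : a ∈ mutNorm (Cfsg.pCoreOf p M)) :
    a ∈ M ⊔ Subgroup.centralizer ((Cfsg.largestPReducedOf p M : Subgroup G) : Set G) := by
  by_cases hY1 : Cfsg.largestPReducedOf p M = ⊥
  · have : Subgroup.centralizer ((Cfsg.largestPReducedOf p M : Subgroup G) : Set G) = ⊤ := by
      rw [hY1, Subgroup.coe_bot, Subgroup.centralizer_eq_top_iff_subset]
      intro x hx
      rw [Set.mem_singleton_iff] at hx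
      rw [hx]; exact Subgroup.one_mem _
    rw [this, sup_top_eq]; exact Subgroup.mem_top _
  · set K := Subgroup.closure (mutNorm (Cfsg.pCoreOf p M)) with hK
    set U := conjSup K (Cfsg.largestPReducedOf p M) with hU
    have hUR : U ≤ Cfsg.pCoreOf p M := by
      apply iSup_le
      intro s
      exact asym_closure S Q hQp hQ M hSM hM hasym s.2
    have hUp : IsPGroup p U := (pCoreOf_isPGroup p M).to_le hUR
    have hU1 : U ≠ ⊥ := by
      intro h
      apply hY1
      have := le_conjSup K (Cfsg.largestPReducedOf p M)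
      rw [← hU, h] at this
      exact le_bot_iff.mp this
    have hMK : M ≤ K := by
      intro m hm
      exact Subgroup.subset_closure
        (normalizer_subset_mutNorm _ (le_normalizer_pCoreOf p M hm))
    have hKU : K ≤ Subgroup.normalizer (U : Set G) := conjSup_le_normalizer K _
    exact frakM_normalizer_le_dagger S Q hQp hQ M hSM hM hUp hU1 (hMK.trans hKU)
      (hKU (Subgroup.subset_closure ha))

/-- If `R = O_p(M)` and `a R a⁻¹` normalize each other, then `a` normalizes `R`. -/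
theorem asym_mutNorm_mem_normalizer (S : Sylow p G) (Q : Subgroup G) (hQp : IsPGroup p ↥Q)
    (hQ : Cfsg.IsLarge Q) (M : Subgroup G) (hSM : (S : Subgroup G) ≤ M)
    (hM : Cfsg.IsInFrakM p M) (hasym : ¬ Cfsg.IsSymmetricIn (Cfsg.largestPReducedOf p M))
    {a : G} (ha : a ∈ mutNorm (Cfsg.pCoreOf p M)) :
    a ∈ Subgroup.normalizer ((Cfsg.pCoreOf p M : Subgroup G) : Set G) := by
  have haMd := asym_mutNorm_mem_dagger S Q hQp hQ M hSM hM hasym ha
  have hmC : (Subgroup.centralizer ((Cfsg.largestPReducedOf p M : Subgroup G) : Set G)).map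
      (MulAut.conj a).toMonoidHom =
      Subgroup.centralizer ((Cfsg.largestPReducedOf p M : Subgroup G) : Set G) :=
    map_conj_eq_of_mem_normalizer (frakM_dagger_le_normalizer_centralizer M haMd)
  have h1 : (Cfsg.pCoreOf p M).map (MulAut.conj a).toMonoidHom ≤
      Subgroup.centralizer ((Cfsg.largestPReducedOf p M : Subgroup G) : Set G) := by
    have := Subgroup.map_mono (f := (MulAut.conj a).toMonoidHom)
      (pCoreOf_le_centralizer_largestPReducedOf p M)
    rwa [hmC] at this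
  have hPp : IsPGroup p ↥((Cfsg.pCoreOf p M).map (MulAut.conj a).toMonoidHom ⊔ Cfsg.pCoreOf p M) :=
    IsPGroup.to_sup_of_normal_right' ((pCoreOf_isPGroup p M).map _) (pCoreOf_isPGroup p M) ha.1
  exact mem_normalizer_of_map_conj_le ((le_inf le_sup_left h1).trans
    (frakM_inf_centralizer_le S M hSM hM hPp le_sup_right))

/-- Every `p`-subgroup containing `O_p(M)` normalizes it. -/
theorem asym_le_normalizer_of_isPGroup (S : Sylow p G) (Q : Subgroup G) (hQp : IsPGroup p ↥Q)
    (hQ : Cfsg.IsLarge Q) (M : Subgroup G) (hSM : (S : Subgroup G) ≤ M)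
    (hM : Cfsg.IsInFrakM p M) (hasym : ¬ Cfsg.IsSymmetricIn (Cfsg.largestPReducedOf p M))
    {L : Subgroup G} (hL : IsPGroup p L) (hRL : Cfsg.pCoreOf p M ≤ L) :
    L ≤ Subgroup.normalizer ((Cfsg.pCoreOf p M : Subgroup G) : Set G) := by
  by_contra hcon
  set R := Cfsg.pCoreOf p M with hR
  set L₀ : Subgroup G := L ⊓ Subgroup.normalizer (R : Set G) with hL₀
  have hLL₀ : ¬ L ≤ L₀ := fun h => hcon (h.trans inf_le_right)
  obtain ⟨u, huL, huN, huL₀⟩ := exists_mem_normalizer_not_mem hL le_rfl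
    Subgroup.le_normalizer (inf_le_left : L₀ ≤ L) hLL₀
  have hRL₀ : R ≤ L₀ := le_inf hRL Subgroup.le_normalizer
  have hu : L₀.map (MulAut.conj u).toMonoidHom = L₀ := map_conj_eq_of_mem_normalizer huN
  have hmem : u ∈ mutNorm R := by
    constructor
    · have := Subgroup.map_mono (f := (MulAut.conj u).toMonoidHom) hRL₀
      rw [hu] at this
      exact this.trans inf_le_right
    · have := Subgroup.map_mono (f := (MulAut.conj u).toMonoidHom)
        (inf_le_right : L₀ ≤ Subgroup.normalizer (R : Set G))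
      rw [hu, ← normalizer_map_conj] at this
      exact hRL₀.trans this
  exact huL₀ ⟨huL, asym_mutNorm_mem_normalizer S Q hQp hQ M hSM hM hasym hmem⟩

/-- If `R = O_p(M)` and a conjugate `g R g⁻¹` lie in a common `p`-subgroup then `g ∈ N_G(R)`. -/
theorem asym_mem_normalizer_of_common (S : Sylow p G) (Q : Subgroup G) (hQp : IsPGroup p ↥Q)
    (hQ : Cfsg.IsLarge Q) (M : Subgroup G) (hSM : (S : Subgroup G) ≤ M)
    (hM : Cfsg.IsInFrakM p M) (hasym : ¬ Cfsg.IsSymmetricIn (Cfsg.largestPReducedOf p M))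
    {L : Subgroup G} (hL : IsPGroup p L) (hRL : Cfsg.pCoreOf p M ≤ L) {g : G}
    (hgL : (Cfsg.pCoreOf p M).map (MulAut.conj g).toMonoidHom ≤ L) :
    g ∈ Subgroup.normalizer ((Cfsg.pCoreOf p M : Subgroup G) : Set G) := by
  have h1 := asym_le_normalizer_of_isPGroup S Q hQp hQ M hSM hM hasym hL hRL
  have hL' : IsPGroup p ↥(L.map (MulAut.conj g⁻¹).toMonoidHom) := hL.map _
  have hRL' : Cfsg.pCoreOf p M ≤ L.map (MulAut.conj g⁻¹).toMonoidHom := by
    have := Subgroup.map_mono (f := (MulAut.conj g⁻¹).toMonoidHom) hgL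
    rwa [map_conj_inv_map_conj] at this
  have h2 := asym_le_normalizer_of_isPGroup S Q hQp hQ M hSM hM hasym hL' hRL'
  have h3 : L ≤ Subgroup.normalizer
      (((Cfsg.pCoreOf p M).map (MulAut.conj g).toMonoidHom : Subgroup G) : Set G) := by
    have := Subgroup.map_mono (f := (MulAut.conj g).toMonoidHom) h2
    rwa [map_conj_map_conj_inv, ← normalizer_map_conj] at this
  exact asym_mutNorm_mem_normalizer S Q hQp hQ M hSM hM hasym ⟨hgL.trans h1, hRL.trans h3⟩

end Asym

end Cfsg.Agent.Lib.Helper48
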