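import Mathlib
import Cfsg.Agent.Lib.Helper47.PIrr

set_option autoImplicit false

namespace Cfsg.Agent.Lib.Helper48

variable {G : Type*} [Group G]

/-- The elements of `N(N)` acting trivially on `Q` modulo `N`. -/
def quotStab (N Q : Subgroup G) : Subgroup G where
  carrier := {u | u ∈ Subgroup.normalizer (N : Set G) ∧ ∀ k ∈ Q, u * k * u⁻¹ * k⁻¹ ∈ N}
  one_mem' := ⟨Subgroup.one_mem _, fun k _ => by simp [N.one_mem]⟩
  mul_mem' := by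
    rintro u v ⟨hu, hu'⟩ ⟨hv, hv'⟩
    refine ⟨Subgroup.mul_mem _ hu hv, fun k hk => ?_⟩
    have e : u * v * k * (u * v)⁻¹ * k⁻¹ =
        u * (v * k * v⁻¹ * k⁻¹) * u⁻¹ * (u * k * u⁻¹ * k⁻¹) := by group
    rw [e]
    exact N.mul_mem ((Subgroup.mem_normalizer_iff.mp hu _).mp (hv' k hk)) (hu' k hk)
  inv_mem' := by
    rintro u ⟨hu, hu'⟩
    refine ⟨Subgroup.inv_mem _ hu, fun k hk => ?_⟩
    have e : u⁻¹ * k * u⁻¹⁻¹ * k⁻¹ = u⁻¹ * (u * k * u⁻¹ * k⁻¹)⁻¹ * u⁻¹⁻¹ := by group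
    rw [e]
    exact (Subgroup.mem_normalizer_iff.mp (Subgroup.inv_mem _ hu) _).mp (N.inv_mem (hu' k hk))

theorem mem_quotStab {N Q : Subgroup G} {u : G} :
    u ∈ quotStab N Q ↔ u ∈ Subgroup.normalizer (N : Set G) ∧ ∀ k ∈ Q, u * k * u⁻¹ * k⁻¹ ∈ N :=
  Iff.rfl

/-- Elements normalizing `N` and `Q` normalize `quotStab N Q`. -/
theorem normalizer_inf_le_normalizer_quotStab (N Q : Subgroup G) :
    Subgroup.normalizer (N : Set G) ⊓ Subgroup.normalizer (Q : Set G) ≤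
      Subgroup.normalizer ((quotStab N Q : Subgroup G) : Set G) := by
  apply Cfsg.Agent.Lib.Helper47.le_normalizer_of_conj_mem
  rintro g ⟨hgN, hgQ⟩ u ⟨hu, hu'⟩
  refine ⟨Subgroup.mul_mem _ (Subgroup.mul_mem _ hgN hu) (Subgroup.inv_mem _ hgN), fun k hk => ?_⟩
  have hk' : g⁻¹ * k * g⁻¹⁻¹ ∈ Q :=
    (Subgroup.mem_normalizer_iff.mp (Subgroup.inv_mem _ hgQ) k).mp hk
  have e : g * u * g⁻¹ * k * (g * u * g⁻¹)⁻¹ * k⁻¹ =
      g * (u * (g⁻¹ * k * g⁻¹⁻¹) * u⁻¹ * (g⁻¹ * k * g⁻¹⁻¹)⁻¹) * g⁻¹ := by group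
  rw [e]
  exact (Subgroup.mem_normalizer_iff.mp hgN _).mp (hu' _ hk')

end Cfsg.Agent.Lib.Helper48
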