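import Mathlib
import Cfsg.Agent.Lib.Helper47.Large
import Cfsg.Agent.Lib.Helper47.Subn
import Cfsg.Agent.Lib.Helper47.Comm
import Cfsg.Agent.Lib.Helper47.Basic
import Cfsg.Agent.Lib.Helper48.ChainStab
import Cfsg.Agent.Lib.Helper48.QuotStab

/-!
# Characteristic `p` for subgroups containing a self-centralizing `p`-subgroup

If `D` is a `p`-subgroup normalized by `P` with `C_P(D) ≤ D`, and `R ≤ P` is a `p`-subgroup
normalized by `D` with `C_P(R) ≤ R`, then `C_P(O_p(P)) ≤ O_p(P)`.
-/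

set_option autoImplicit false

namespace Cfsg.Agent.Lib.Helper48

open Cfsg.Agent.Lib.Helper47
open scoped commutatorElement

theorem charp_subgroup {G : Type*} [Group G] [Finite G] {p : ℕ} [Fact p.Prime]
    {D R P : Subgroup G} (hD : IsPGroup p D) (hR : IsPGroup p R) (hRP : R ≤ P)
    (hPD : P ≤ Subgroup.normalizer (D : Set G)) (hDR : D ≤ Subgroup.normalizer (R : Set G))
    (hCD : Subgroup.centralizer (D : Set G) ⊓ P ≤ D)
    (hCR : Subgroup.centralizer (R : Set G) ⊓ P ≤ R) :
    Subgroup.centralizer ((Cfsg.pCoreOf p P : Subgroup G) : Set G) ⊓ P ≤ Cfsg.pCoreOf p P := by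
  set U := Cfsg.pCoreOf p P with hU
  set X : Subgroup G := Subgroup.centralizer (U : Set G) ⊓ P with hX
  have hPU : P ≤ Subgroup.normalizer (U : Set G) := le_normalizer_pCoreOf p P
  have hPX : P ≤ Subgroup.normalizer (X : Set G) :=
    (le_inf (hPU.trans (normalizer_le_normalizer_centralizer U)) Subgroup.le_normalizer).trans
      Subgroup.inf_normalizer_le_normalizer_inf
  have hPDU : P ⊓ D ≤ U := le_pCoreOf_of_le_normalizer (hD.to_le inf_le_right) inf_le_left
    ((le_inf Subgroup.le_normalizer hPD).trans Subgroup.inf_normalizer_le_normalizer_inf)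
  set C₀ : Subgroup G := D ⊓ Subgroup.centralizer (X : Set G) with hC₀
  have hUX : U ≤ Subgroup.centralizer (X : Set G) :=
    Subgroup.le_centralizer_iff.mp (inf_le_left : X ≤ Subgroup.centralizer (U : Set G))
  have hUC₀ : U ⊓ D ≤ C₀ := le_inf inf_le_right (inf_le_left.trans hUX)
  have hRN : R ≤ Subgroup.normalizer (C₀ : Set G) :=
    (le_inf (hRP.trans hPD) ((hRP.trans hPX).trans
      (normalizer_le_normalizer_centralizer X))).trans Subgroup.inf_normalizer_le_normalizer_inf
  have hRq : R ≤ quotStab C₀ D := by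
    intro r hr
    refine ⟨hRN hr, fun d hd => ?_⟩
    apply hUC₀
    have h1 : r * d * r⁻¹ * d⁻¹ ∈ D :=
      D.mul_mem ((Subgroup.mem_normalizer_iff.mp (hPD (hRP hr)) d).mp hd) (D.inv_mem hd)
    have h2 : r * d * r⁻¹ * d⁻¹ ∈ R := by
      have : d * r⁻¹ * d⁻¹ ∈ R := (Subgroup.mem_normalizer_iff.mp (hDR hd) r⁻¹).mp (R.inv_mem hr)
      have e : r * d * r⁻¹ * d⁻¹ = r * (d * r⁻¹ * d⁻¹) := by group
      rw [e]; exact R.mul_mem hr this
    exact ⟨hPDU ⟨hRP h2, h1⟩, h1⟩
  have hXq : X ≤ Subgroup.normalizer ((quotStab C₀ D : Subgroup G) : Set G) := by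
    refine le_trans (le_inf ?_ ?_) (normalizer_inf_le_normalizer_quotStab C₀ D)
    · exact (le_inf (inf_le_right.trans hPD) (Subgroup.le_normalizer.trans
        (normalizer_le_normalizer_centralizer X))).trans Subgroup.inf_normalizer_le_normalizer_inf
    · exact inf_le_right.trans hPD
  have hW1 : ⁅X, R⁆ ≤ X :=
    Cfsg.Agent.Lib.Helper47.commutator_le_of_le_normalizer (hRP.trans hPX) le_rfl
  have hW2 : ⁅X, R⁆ ≤ quotStab C₀ D := by
    rw [Subgroup.commutator_comm]
    exact Cfsg.Agent.Lib.Helper47.commutator_le_of_le_normalizer hXq hRq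
  have hWp : IsPGroup p ↥⁅X, R⁆ := by
    apply isPGroup_of_forall_coprime_eq_one
    intro w hw hcop
    have hwX := hW1 hw
    have hwq := hW2 hw
    have hcs : w ∈ chainStab C₀ D := by
      refine ⟨fun d hd => ?_, fun z hz => hwq.2 z hz⟩
      have := (Subgroup.mem_centralizer_iff.mp hd.2) w hwX
      rw [this]; group
    have hwc := chainStab_coprime_centralizes C₀ D (hD.to_le inf_le_left) w hcs hcop
    exact eq_one_of_isPGroup_of_coprime hD (hCD ⟨hwc, hwX.2⟩) hcop
  have hWU : ⁅X, R⁆ ≤ U := by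
    have h1 : ⁅X, R⁆ ≤ Cfsg.pCoreOf p X :=
      le_pCoreOf_of_le_normalizer hWp hW1 (le_normalizer_commutator_left X R)
    have h2 : Cfsg.pCoreOf p X ≤ U :=
      le_pCoreOf_of_le_normalizer (pCoreOf_isPGroup p X) ((pCoreOf_le p X).trans inf_le_right)
        (hPX.trans (normalizer_le_normalizer_pCoreOf p X))
    exact h1.trans h2
  have hXp : IsPGroup p X := by
    apply isPGroup_of_forall_coprime_eq_one
    intro x hx hcop
    have hxR : x ∈ Subgroup.centralizer (R : Set G) := by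
      rw [Subgroup.mem_centralizer_iff]
      intro r hr
      have hw : ⁅x, r⁆ ∈ ⁅X, R⁆ := Subgroup.commutator_mem_commutator hx hr
      have hcomm : ⁅x, r⁆ * x = x * ⁅x, r⁆ := (Subgroup.mem_centralizer_iff.mp hx.1) _ (hWU hw)
      have hc : Commute x⁻¹ ⁅x, r⁆ := by
        have : Commute x ⁅x, r⁆ := hcomm.symm
        exact this.inv_left
      have e1 : r * x⁻¹ * r⁻¹ = x⁻¹ * ⁅x, r⁆ := by rw [commutatorElement_def]; group
      have e2 : (r * x⁻¹ * r⁻¹) ^ orderOf x = 1 := by
        rw [conj_pow, inv_pow, pow_orderOf_eq_one]; group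
      rw [e1, hc.mul_pow, inv_pow, pow_orderOf_eq_one, inv_one, one_mul] at e2
      have hdvd : orderOf ⁅x, r⁆ ∣ orderOf x := orderOf_dvd_of_pow_eq_one e2
      have h1 : ⁅x, r⁆ = 1 :=
        eq_one_of_isPGroup_of_coprime hWp hw (Nat.Coprime.coprime_dvd_left hdvd hcop)
      exact (commutatorElement_eq_one_iff_mul_comm.mp h1).symm
    exact eq_one_of_isPGroup_of_coprime hR (hCR ⟨hxR, hx.2⟩) hcop
  exact le_pCoreOf_of_le_normalizer hXp inf_le_right hPX

end Cfsg.Agent.Lib.Helper48
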