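import Mathlib

set_option autoImplicit false

namespace Cfsg.Agent.Lib.Helper48

open scoped commutatorElement

section pairing

/-- Every fibre of a nontrivial homomorphism onto a group of order two is half the group. -/
theorem two_mul_card_fiber {Y C : Type*} [Group Y] [Group C] [Finite Y] (hC : Nat.card C = 2)
    (φ : Y →* C) (hφ : ∃ y, φ y ≠ 1) (c : C) : 2 * Nat.card {y : Y // φ y = c} = Nat.card Y := by
  have : Fact (Nat.card C).Prime := ⟨by rw [hC]; exact Nat.prime_two⟩
  have hrange : φ.range = ⊤ := by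
    rcases Subgroup.eq_bot_or_eq_top_of_prime_card φ.range with h | h
    · exfalso
      obtain ⟨y, hy⟩ := hφ
      apply hy
      have : φ y ∈ φ.range := ⟨y, rfl⟩
      rw [h, Subgroup.mem_bot] at this
      exact this
    · exact h
  have hsurj : Function.Surjective φ := MonoidHom.range_eq_top.mp hrange
  obtain ⟨y₀, hy₀⟩ := hsurj c
  have e : {y : Y // φ y = c} ≃ φ.ker :=
    { toFun := fun y => ⟨y₀⁻¹ * y.1, by rw [MonoidHom.mem_ker, map_mul, map_inv, hy₀, y.2]; simp⟩
      invFun := fun k => ⟨y₀ * k.1, by rw [map_mul, MonoidHom.mem_ker.mp k.2, mul_one, hy₀]⟩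
      left_inv := fun y => by simp
      right_inv := fun k => by simp }
  rw [Nat.card_congr e]
  have h1 := Subgroup.card_mul_index φ.ker
  rw [Subgroup.index_ker, hrange, Subgroup.card_top, hC] at h1
  omega

theorem pairing_count_aux {X Y C : Type*} [Group X] [Group Y] [Group C] [Fintype X] [Fintype Y]
    [DecidableEq C]
    (hC : Nat.card C = 2) (β : X → Y → C) [DecidablePred (fun x : X => ∀ y : Y, β x y = 1)]
    (hr : ∀ x y y', β x (y * y') = β x y * β x y') :
    ∑ x : X, 2 * (Finset.univ.filter (fun y => β x y = 1)).card =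
      Fintype.card X * Fintype.card Y +
        (Finset.univ.filter (fun x => ∀ y, β x y = 1)).card * Fintype.card Y := by
  have hterm : ∀ x : X, 2 * (Finset.univ.filter (fun y => β x y = 1)).card =
      Fintype.card Y + (if ∀ y, β x y = 1 then Fintype.card Y else 0) := by
    intro x
    by_cases hx : ∀ y, β x y = 1
    · rw [if_pos hx]
      have : Finset.univ.filter (fun y => β x y = 1) = Finset.univ := by
        ext y; simp [hx y]
      rw [this, Finset.card_univ]; ring
    · rw [if_neg hx]
      push Not at hx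
      have h1 := two_mul_card_fiber hC (MonoidHom.mk' (β x) (hr x)) hx 1
      rw [Nat.card_eq_fintype_card, Fintype.card_subtype, Nat.card_eq_fintype_card] at h1
      simpa using h1
  simp_rw [hterm]
  rw [Finset.sum_add_distrib, Finset.sum_const, Finset.card_univ, smul_eq_mul]
  congr 1
  rw [Finset.sum_ite, Finset.sum_const, Finset.sum_const_zero, add_zero, smul_eq_mul]

/-- Double counting for a bimultiplicative pairing into a group of order two: the two kernels
have the same index. -/
theorem pairing_count {X Y C : Type*} [Group X] [Group Y] [Group C] [Finite X] [Finite Y]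
    (hC : Nat.card C = 2) (β : X → Y → C)
    (hl : ∀ x x' y, β (x * x') y = β x y * β x' y)
    (hr : ∀ x y y', β x (y * y') = β x y * β x y') :
    Nat.card {x : X // ∀ y, β x y = 1} * Nat.card Y =
      Nat.card {y : Y // ∀ x, β x y = 1} * Nat.card X := by
  classical
  letI : Fintype X := Fintype.ofFinite X
  letI : Fintype Y := Fintype.ofFinite Y
  have h1 := pairing_count_aux hC β hr
  have h2 := pairing_count_aux (X := Y) (Y := X) hC (fun y x => β x y) (fun y x x' => hl x x' y)
  have h3 : ∑ x : X, 2 * (Finset.univ.filter (fun y => β x y = 1)).card =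
      ∑ y : Y, 2 * (Finset.univ.filter (fun x => β x y = 1)).card := by
    simp_rw [Finset.card_filter, Finset.mul_sum]
    exact Finset.sum_comm
  rw [h1, h2] at h3
  rw [Nat.card_eq_fintype_card, Nat.card_eq_fintype_card, Nat.card_eq_fintype_card,
    Nat.card_eq_fintype_card, Fintype.card_subtype, Fintype.card_subtype]
  have h4 : Fintype.card X * Fintype.card Y = Fintype.card Y * Fintype.card X := mul_comm _ _
  omega

end pairing

section extraspecial

variable {E : Type*} [Group E]

/-- Squares are central when all commutators are central involutions. -/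
theorem sq_mem_center_of_comm (hcomm : ∀ x y : E, ⁅x, y⁆ ∈ Subgroup.center E)
    (hsq : ∀ c ∈ Subgroup.center E, c * c = 1) (x : E) : x * x ∈ Subgroup.center E := by
  rw [Subgroup.mem_center_iff]
  intro g
  have hc := hcomm x g
  have hc2 := hsq _ hc
  rw [Subgroup.mem_center_iff] at hc
  have h1 : x * g = ⁅x, g⁆ * (g * x) := by rw [commutatorElement_def]; group
  calc g * (x * x) = (g * x) * x := by group
    _ = (⁅x, g⁆ * ⁅x, g⁆) * (g * x) * x := by rw [hc2, one_mul]
    _ = ⁅x, g⁆ * ((⁅x, g⁆ * (g * x)) * x) := by group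
    _ = ⁅x, g⁆ * (x * g * x) := by rw [← h1]
    _ = x * (⁅x, g⁆ * (g * x)) := by
      rw [← mul_assoc, ← mul_assoc, ← hc x]; group
    _ = x * x * g := by rw [← h1]; group

theorem commutator_mul_left_of_central (hcomm : ∀ x y : E, ⁅x, y⁆ ∈ Subgroup.center E)
    (x x' b : E) : ⁅x * x', b⁆ = ⁅x, b⁆ * ⁅x', b⁆ := by
  have hc := hcomm x' b
  rw [Subgroup.mem_center_iff] at hc
  have h1 : ⁅x * x', b⁆ = x * ⁅x', b⁆ * x⁻¹ * ⁅x, b⁆ := by
    simp only [commutatorElement_def]; group
  rw [h1, hc x, mul_inv_cancel_right, hc]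

theorem commutator_mul_right_of_central (hcomm : ∀ x y : E, ⁅x, y⁆ ∈ Subgroup.center E)
    (x b b' : E) : ⁅x, b * b'⁆ = ⁅x, b⁆ * ⁅x, b'⁆ := by
  have hc := hcomm x b'
  rw [Subgroup.mem_center_iff] at hc
  have h1 : ⁅x, b * b'⁆ = ⁅x, b⁆ * (b * ⁅x, b'⁆ * b⁻¹) := by
    simp only [commutatorElement_def]; group
  rw [h1, hc b, mul_inv_cancel_right]

/-- In a finite group whose commutators are central and whose centre has order two, a subgroup
`B` containing the centre satisfies `|C(B)| |B| = 2 |E|`. -/
theorem card_centralizer_mul_card [Finite E] (hcomm : ∀ x y : E, ⁅x, y⁆ ∈ Subgroup.center E)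
    (hZ : Nat.card (Subgroup.center E) = 2) (B : Subgroup E) (hB : Subgroup.center E ≤ B) :
    Nat.card (Subgroup.centralizer (B : Set E)) * Nat.card B = 2 * Nat.card E := by
  let β : E → B → Subgroup.center E := fun x b => ⟨⁅x, (b : E)⁆, hcomm x b⟩
  have h := pairing_count hZ β
    (fun x x' y => Subtype.ext (commutator_mul_left_of_central hcomm x x' y))
    (fun x y y' => Subtype.ext (commutator_mul_right_of_central hcomm x y y'))
  have e1 : {x : E // ∀ y : B, β x y = 1} ≃ Subgroup.centralizer (B : Set E) :=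
    Equiv.subtypeEquivRight (fun x => by
      rw [Subgroup.mem_centralizer_iff]
      constructor
      · intro hx b hb
        have h1 : ⁅x, b⁆ = 1 := congrArg Subtype.val (hx ⟨b, hb⟩)
        exact (commutatorElement_eq_one_iff_mul_comm.mp h1).symm
      · intro hx b
        apply Subtype.ext
        exact commutatorElement_eq_one_iff_mul_comm.mpr (hx b b.2).symm)
  have e2 : {y : B // ∀ x : E, β x y = 1} ≃ Subgroup.center E :=
    { toFun := fun y => ⟨(y.1 : E), by
        rw [Subgroup.mem_center_iff]
        intro g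
        have h1 : ⁅g, (y.1 : E)⁆ = 1 := congrArg Subtype.val (y.2 g)
        exact commutatorElement_eq_one_iff_mul_comm.mp h1⟩
      invFun := fun c => ⟨⟨(c : E), hB c.2⟩, fun x => by
        apply Subtype.ext
        exact commutatorElement_eq_one_iff_mul_comm.mpr (Subgroup.mem_center_iff.mp c.2 x)⟩
      left_inv := fun y => rfl
      right_inv := fun c => rfl }
  rw [Nat.card_congr e1, Nat.card_congr e2, hZ] at h
  exact h

end extraspecial

section plus

variable {E : Type*} [Group E]

theorem center_sq_eq_one (hZ : Nat.card (Subgroup.center E) = 2) :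
    ∀ c ∈ Subgroup.center E, c * c = 1 := by
  intro c hc
  have h1 : (⟨c, hc⟩ : Subgroup.center E) ^ Nat.card (Subgroup.center E) = 1 := pow_card_eq_one'
  rw [hZ, pow_two] at h1
  exact congrArg Subtype.val h1

/-- A maximal elementary abelian subgroup of order `2 ^ (m + 1)` in a group of order `2 ^ (2 m + 1)`
with central commutators and centre of order two contains the centre and is self-centralizing. -/
theorem self_centralizing_of_card [Finite E] (m : ℕ)
    (hcomm : ∀ x y : E, ⁅x, y⁆ ∈ Subgroup.center E)
    (hZ : Nat.card (Subgroup.center E) = 2) (hcard : Nat.card E = 2 ^ (2 * m + 1))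
    (A : Subgroup E) (hAc : ∀ a ∈ A, ∀ b ∈ A, a * b = b * a) (hAcard : Nat.card A = 2 ^ (m + 1)) :
    Subgroup.center E ≤ A ∧ ∀ x : E, (∀ a ∈ A, a * x = x * a) → x ∈ A := by
  have hAA : A ≤ Subgroup.centralizer (A : Set E) := by
    intro a ha
    rw [Subgroup.mem_centralizer_iff]
    intro b hb
    exact hAc b hb a ha
  have hpow : (2 : ℕ) ^ (2 * m + 1) * 2 = 2 ^ (m + 1) * 2 ^ (m + 1) := by ring
  -- the centre lies in A
  have hZA : Subgroup.center E ≤ A := by
    set B : Subgroup E := A ⊔ Subgroup.center E with hB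
    have hAB : A ≤ Subgroup.centralizer (B : Set E) := by
      rw [Subgroup.le_centralizer_iff]
      exact sup_le hAA (Subgroup.center_le_centralizer _)
    have cnt := card_centralizer_mul_card hcomm hZ B le_sup_right
    have h1 : Nat.card A ≤ Nat.card (Subgroup.centralizer (B : Set E)) := Subgroup.card_le_of_le hAB
    have h2 : Nat.card B ≤ Nat.card A := by
      rw [hcard] at cnt
      rw [hAcard] at h1 ⊢
      have h3 : 2 ^ (m + 1) * Nat.card B ≤ 2 ^ (m + 1) * 2 ^ (m + 1) := by
        calc 2 ^ (m + 1) * Nat.card B ≤ Nat.card (Subgroup.centralizer (B : Set E)) * Nat.card B :=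
              Nat.mul_le_mul_right _ h1
          _ = 2 ^ (m + 1) * 2 ^ (m + 1) := by rw [cnt]; ring
      exact Nat.le_of_mul_le_mul_left h3 (by positivity)
    have h4 : A = B := Subgroup.eq_of_le_of_card_ge le_sup_left h2
    rw [h4]
    exact le_sup_right
  refine ⟨hZA, ?_⟩
  have cnt := card_centralizer_mul_card hcomm hZ A hZA
  have h5 : Nat.card (Subgroup.centralizer (A : Set E)) ≤ Nat.card A := by
    rw [hcard, hAcard] at cnt
    rw [hAcard]
    have h6 : Nat.card (Subgroup.centralizer (A : Set E)) * 2 ^ (m + 1) = 2 ^ (m + 1) * 2 ^ (m + 1) := by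
      rw [cnt]; ring
    exact le_of_eq (Nat.eq_of_mul_eq_mul_right (by positivity) h6)
  have h7 : A = Subgroup.centralizer (A : Set E) := Subgroup.eq_of_le_of_card_ge hAA h5
  intro x hx
  rw [h7, Subgroup.mem_centralizer_iff]
  exact hx

/-- The number of elements of order four (i.e. with nontrivial square) in an extraspecial
`2`-group of plus type. -/
theorem plus_type_count [Finite E] (m : ℕ) (hcomm : ∀ x y : E, ⁅x, y⁆ ∈ Subgroup.center E)
    (hZ : Nat.card (Subgroup.center E) = 2) (hcard : Nat.card E = 2 ^ (2 * m + 1))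
    (A : Subgroup E) (hAc : ∀ a ∈ A, ∀ b ∈ A, a * b = b * a) (hAe : ∀ a ∈ A, a * a = 1)
    (hAcard : Nat.card A = 2 ^ (m + 1)) :
    Nat.card {x : E // x * x ≠ 1} = 2 ^ (2 * m) - 2 ^ m := by
  classical
  letI : Fintype E := Fintype.ofFinite E
  obtain ⟨hZA, hself⟩ := self_centralizing_of_card m hcomm hZ hcard A hAc hAcard
  have hsq := center_sq_eq_one hZ
  have hsqm := sq_mem_center_of_comm hcomm hsq
  -- first count
  have hS1 : ∑ x : E, ∑ a : A, (if (x * (a : E)) * (x * (a : E)) ≠ 1 then 1 else 0) =
      Fintype.card A * (Finset.univ.filter (fun y : E => y * y ≠ 1)).card := by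
    rw [Finset.sum_comm]
    have : ∀ a : A, ∑ x : E, (if (x * (a : E)) * (x * (a : E)) ≠ 1 then 1 else 0) =
        (Finset.univ.filter (fun y : E => y * y ≠ 1)).card := by
      intro a
      rw [Finset.card_filter]
      exact Fintype.sum_equiv (Equiv.mulRight (a : E)) _ _ (fun x => rfl)
    simp_rw [this]
    rw [Finset.sum_const, Finset.card_univ, smul_eq_mul]
  -- second count
  have hS2 : ∀ x : E, 2 * ∑ a : A, (if (x * (a : E)) * (x * (a : E)) ≠ 1 then 1 else 0) =
      if x ∈ A then 0 else Fintype.card A := by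
    intro x
    by_cases hx : x ∈ A
    · rw [if_pos hx]
      have : ∀ a : A, (if (x * (a : E)) * (x * (a : E)) ≠ 1 then 1 else 0) = 0 := by
        intro a
        rw [if_neg]
        push Not
        exact hAe _ (A.mul_mem hx a.2)
      simp [this]
    · rw [if_neg hx]
      let φ : A →* Subgroup.center E := MonoidHom.mk' (fun a => ⟨⁅x⁻¹, (a : E)⁆, hcomm _ _⟩)
        (fun a b => Subtype.ext (commutator_mul_right_of_central hcomm x⁻¹ a b))
      have hφ : ∃ a, φ a ≠ 1 := by
        by_contra hne
        push Not at hne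
        apply hx
        have h1 : x⁻¹ ∈ A := by
          apply hself
          intro a ha
          have h2 : ⁅x⁻¹, a⁆ = 1 := congrArg Subtype.val (hne ⟨a, ha⟩)
          exact (commutatorElement_eq_one_iff_mul_comm.mp h2).symm
        simpa using A.inv_mem h1
      let c : Subgroup.center E := ⟨x * x, hsqm x⟩⁻¹
      have hfib := two_mul_card_fiber hZ φ hφ c
      rw [Nat.card_eq_fintype_card, Fintype.card_subtype, Nat.card_eq_fintype_card] at hfib
      have hiff : ∀ a : A, (x * (a : E)) * (x * (a : E)) ≠ 1 ↔ ¬ (φ a = c) := by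
        intro a
        have hid : (x * (a : E)) * (x * (a : E)) = (x * x) * ⁅x⁻¹, (a : E)⁆ * ((a : E) * (a : E)) := by
          simp only [commutatorElement_def]; group
        rw [hid, hAe _ a.2, mul_one]
        apply not_congr
        constructor
        · intro h
          apply Subtype.ext
          change ⁅x⁻¹, (a : E)⁆ = (x * x)⁻¹
          exact eq_inv_of_mul_eq_one_right h
        · intro h
          have h2 : ⁅x⁻¹, (a : E)⁆ = (x * x)⁻¹ := congrArg Subtype.val h
          rw [h2, mul_inv_cancel]
      have hsum : ∑ a : A, (if (x * (a : E)) * (x * (a : E)) ≠ 1 then 1 else 0) =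
          (Finset.univ.filter (fun a : A => ¬ (φ a = c))).card := by
        rw [Finset.card_filter]
        apply Finset.sum_congr rfl
        intro a _
        simp only [hiff a]
      rw [hsum]
      have hsplit := Finset.card_filter_add_card_filter_not (s := (Finset.univ : Finset A))
        (fun a : A => φ a = c)
      rw [Finset.card_univ] at hsplit
      omega
  -- combine
  have hS3 : 2 * (Fintype.card A * (Finset.univ.filter (fun y : E => y * y ≠ 1)).card) =
      (Fintype.card E - Fintype.card A) * Fintype.card A := by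
    rw [← hS1, Finset.mul_sum]
    simp_rw [hS2]
    rw [Finset.sum_ite, Finset.sum_const_zero, zero_add, Finset.sum_const, smul_eq_mul]
    congr 1
    have h1 := Finset.card_filter_add_card_filter_not (s := (Finset.univ : Finset E))
      (fun x : E => x ∈ A)
    rw [Finset.card_univ] at h1
    have h2 : (Finset.univ.filter (fun x : E => x ∈ A)).card = Fintype.card A := by
      rw [← Fintype.card_subtype]
    omega
  rw [Nat.card_eq_fintype_card, Fintype.card_subtype]
  rw [Nat.card_eq_fintype_card] at hcard hAcard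
  rw [hcard, hAcard] at hS3
  set N := (Finset.univ.filter (fun y : E => y * y ≠ 1)).card with hN
  have hle : 2 ^ (m + 1) ≤ 2 ^ (2 * m + 1) := Nat.pow_le_pow_right (by norm_num) (by omega)
  have h3 : 2 ^ (m + 1) * (2 * N) = 2 ^ (m + 1) * (2 ^ (2 * m + 1) - 2 ^ (m + 1)) := by
    calc 2 ^ (m + 1) * (2 * N) = 2 * (2 ^ (m + 1) * N) := by ring
      _ = (2 ^ (2 * m + 1) - 2 ^ (m + 1)) * 2 ^ (m + 1) := hS3
      _ = 2 ^ (m + 1) * (2 ^ (2 * m + 1) - 2 ^ (m + 1)) := by ring
  have h4 : 2 * N = 2 ^ (2 * m + 1) - 2 ^ (m + 1) := Nat.eq_of_mul_eq_mul_left (by positivity) h3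
  have h5 : (2 : ℕ) ^ (2 * m + 1) = 2 * 2 ^ (2 * m) := by ring
  have h6 : (2 : ℕ) ^ (m + 1) = 2 * 2 ^ m := by ring
  omega

end plus

section orderfour

variable {E : Type*} [Group E]

theorem orderOf_eq_four_iff (hcomm : ∀ x y : E, ⁅x, y⁆ ∈ Subgroup.center E)
    (hZ : Nat.card (Subgroup.center E) = 2) (x : E) : orderOf x = 4 ↔ x * x ≠ 1 := by
  have hsq := center_sq_eq_one hZ
  have hsqm := sq_mem_center_of_comm hcomm hsq
  constructor
  · intro h hx
    have h1 : orderOf x ∣ 2 := orderOf_dvd_of_pow_eq_one (by rw [pow_two]; exact hx)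
    rw [h] at h1
    exact absurd h1 (by norm_num)
  · intro hx
    have h1 : ¬ x ^ 2 ^ 1 = 1 := by
      rw [pow_one, pow_two]; exact hx
    have h2 : x ^ 2 ^ (1 + 1) = 1 := by
      have h3 := hsq _ (hsqm x)
      calc x ^ 2 ^ (1 + 1) = (x * x) * (x * x) := by norm_num; rw [show 4 = 2 + 2 from rfl, pow_add, pow_two]
        _ = 1 := h3
    have := orderOf_eq_prime_pow h1 h2
    simpa using this

end orderfour

end Cfsg.Agent.Lib.Helper48
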