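import Mathlib
import Cfsg.Agent.Lib.Helper48.Asym
import Cfsg.Agent.Lib.Helper47.PIrr
import Cfsg.Agent.Lib.Helper47.YL
import Cfsg.Agent.Lib.Helper61.Coprime

/-!
# The subgroups `H ∈ ℌ_G(O_p(M))` for asymmetric `Y_M`
-/

set_option autoImplicit false

namespace Cfsg.Agent.Lib.Helper48

open Cfsg.Agent.Lib.Helper47
open scoped commutatorElement

section FrakH

variable {G : Type*} [Group G] [Finite G] {p : ℕ} [Fact p.Prime]

/-- A normal subgroup of `H ∈ ℌ_G(O_p(M))` containing `O_p(M)` is `H`. -/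
theorem frakH_eq_of_normal {M H : Subgroup G} (hH : Cfsg.IsInFrakH p M H) {P : Subgroup G}
    (hPH : P ≤ H) (hRP : Cfsg.pCoreOf p M ≤ P) (hn : H ≤ Subgroup.normalizer (P : Set G)) :
    P = H := by
  by_contra hne
  have hlt : P < H := lt_of_le_of_ne hPH hne
  have h1 := hH.2.2.2 P hRP hlt
  have h2 : Cfsg.pCoreOf p P ≤ Cfsg.pCoreOf p H :=
    le_pCoreOf_of_le_normalizer (pCoreOf_isPGroup p P) ((pCoreOf_le p P).trans hPH)
      (hn.trans (normalizer_le_normalizer_pCoreOf p P))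
  exact hH.2.2.1 (h1.trans h2)

/-- If `A ⊴ H` contains `Y_M` then `H = A O_p(M)`. -/
theorem frakH_normal_sup_eq {M H : Subgroup G} (hH : Cfsg.IsInFrakH p M H) {A : Subgroup G}
    (hAH : A ≤ H) (hn : H ≤ Subgroup.normalizer (A : Set G))
    (hYA : Cfsg.largestPReducedOf p M ≤ A) : A ⊔ Cfsg.pCoreOf p M = H := by
  by_contra hne
  have hle : A ⊔ Cfsg.pCoreOf p M ≤ H := sup_le hAH hH.2.1
  have hlt := lt_of_le_of_ne hle hne
  have h1 := hH.2.2.2 (A ⊔ Cfsg.pCoreOf p M) le_sup_right hlt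
  have hB : Cfsg.pCoreOf p (A ⊔ Cfsg.pCoreOf p M) ⊓ A ≤ Cfsg.pCoreOf p A :=
    le_pCoreOf_of_le_normalizer ((pCoreOf_isPGroup p _).to_le inf_le_left) inf_le_right
      ((le_inf (le_sup_left.trans (le_normalizer_pCoreOf p _)) Subgroup.le_normalizer).trans
        Subgroup.inf_normalizer_le_normalizer_inf)
  have h2 : Cfsg.pCoreOf p A ≤ Cfsg.pCoreOf p H :=
    le_pCoreOf_of_le_normalizer (pCoreOf_isPGroup p A) ((pCoreOf_le p A).trans hAH)
      (hn.trans (normalizer_le_normalizer_pCoreOf p A))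
  exact hH.2.2.1 ((le_inf h1 hYA).trans (hB.trans h2))

/-- The normal closure of `O_p(M)` in `H` is `H`. -/
theorem frakH_normalClosure_pCoreOf {M H : Subgroup G} (hH : Cfsg.IsInFrakH p M H) :
    (Subgroup.normalClosure (((Cfsg.pCoreOf p M).subgroupOf H : Subgroup ↥H) : Set ↥H)).map
      H.subtype = H := by
  apply frakH_eq_of_normal hH
  · rintro _ ⟨x, -, rfl⟩; exact x.2
  · intro r hr
    exact ⟨⟨r, hH.2.1 hr⟩, Subgroup.subset_normalClosure (Subgroup.mem_subgroupOf.mpr hr), rfl⟩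
  · exact le_normalizer_map_subtype _

/-- A Sylow `p`-subgroup of `H` containing `O_p(M)`; it normalizes `O_p(M)`. -/
theorem frakH_exists_sylow (S : Sylow p G) (Q : Subgroup G) (hQp : IsPGroup p ↥Q)
    (hQ : Cfsg.IsLarge Q) (M : Subgroup G) (hSM : (S : Subgroup G) ≤ M)
    (hM : Cfsg.IsInFrakM p M) (hasym : ¬ Cfsg.IsSymmetricIn (Cfsg.largestPReducedOf p M))
    {H : Subgroup G} (hRH : Cfsg.pCoreOf p M ≤ H) :
    ∃ T : Sylow p ↥H, Cfsg.pCoreOf p M ≤ (T : Subgroup ↥H).map H.subtype ∧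
      (T : Subgroup ↥H).map H.subtype ≤
        Subgroup.normalizer ((Cfsg.pCoreOf p M : Subgroup G) : Set G) := by
  have hp : IsPGroup p ((Cfsg.pCoreOf p M).subgroupOf H) :=
    (pCoreOf_isPGroup p M).comap_of_injective H.subtype H.subtype_injective
  obtain ⟨T, hT⟩ := hp.exists_le_sylow
  have hRT : Cfsg.pCoreOf p M ≤ (T : Subgroup ↥H).map H.subtype :=
    fun r hr => ⟨⟨r, hRH hr⟩, hT (Subgroup.mem_subgroupOf.mpr hr), rfl⟩
  exact ⟨T, hRT, asym_le_normalizer_of_isPGroup S Q hQp hQ M hSM hM hasym (T.isPGroup'.map _) hRT⟩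

/-- `H = O^p(H) O_p(M)` for `H ∈ ℌ_G(O_p(M))`. -/
theorem frakH_pResidual_sup (S : Sylow p G) (Q : Subgroup G) (hQp : IsPGroup p ↥Q)
    (hQ : Cfsg.IsLarge Q) (M : Subgroup G) (hSM : (S : Subgroup G) ≤ M)
    (hM : Cfsg.IsInFrakM p M) (hasym : ¬ Cfsg.IsSymmetricIn (Cfsg.largestPReducedOf p M))
    {H : Subgroup G} (hH : Cfsg.IsInFrakH p M H) :
    (Cfsg.pResidual p ↥H).map H.subtype ⊔ Cfsg.pCoreOf p M = H := by
  obtain ⟨T, hRT, hTN⟩ := frakH_exists_sylow S Q hQp hQ M hSM hM hasym hH.2.1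
  have hKH : (Cfsg.pResidual p ↥H).map H.subtype ≤ H := pResidual_map_subtype_le p H
  have hHK : H ≤ Subgroup.normalizer
      (((Cfsg.pResidual p ↥H).map H.subtype : Subgroup G) : Set G) :=
    Subgroup.le_normalizer.trans (normalizer_le_normalizer_pResidual_map p H)
  have hsup : (Cfsg.pResidual p ↥H).map H.subtype ⊔ (T : Subgroup ↥H).map H.subtype = H := by
    rw [← Subgroup.map_sup, Cfsg.Agent.Lib.Helper47.pResidual_sup_sylow T,
      ← MonoidHom.range_eq_map, Subgroup.range_subtype]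
  have hTH : (T : Subgroup ↥H).map H.subtype ≤ H := by
    rintro _ ⟨x, -, rfl⟩; exact x.2
  apply frakH_eq_of_normal hH (sup_le hKH hH.2.1) le_sup_right
  conv_lhs => rw [← hsup]
  refine sup_le (le_sup_left.trans Subgroup.le_normalizer) ?_
  exact (le_inf (hTH.trans hHK) hTN).trans (normalizer_inf_le_normalizer_sup _ _)

/-- `O^p(H) = [O^p(H), Y_M]` and `O^p(H) Y_M = ⟨Y_M^H⟩` for `H ∈ ℌ_G(O_p(M))`. -/
theorem frakH_structure (S : Sylow p G) (Q : Subgroup G) (hQp : IsPGroup p ↥Q)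
    (hQ : Cfsg.IsLarge Q) (M : Subgroup G) (hSM : (S : Subgroup G) ≤ M)
    (hM : Cfsg.IsInFrakM p M) (hasym : ¬ Cfsg.IsSymmetricIn (Cfsg.largestPReducedOf p M))
    {H : Subgroup G} (hH : Cfsg.IsInFrakH p M H) :
    ⁅(Cfsg.pResidual p ↥H).map H.subtype, Cfsg.largestPReducedOf p M⁆ =
        (Cfsg.pResidual p ↥H).map H.subtype ∧
      (Cfsg.pResidual p ↥H).map H.subtype ⊔ Cfsg.largestPReducedOf p M =
        (Subgroup.normalClosure (((Cfsg.largestPReducedOf p M).subgroupOf H : Subgroup ↥H) :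
          Set ↥H)).map H.subtype := by
  obtain ⟨K, hK⟩ : ∃ K : Subgroup G, K = (Cfsg.pResidual p ↥H).map H.subtype := ⟨_, rfl⟩
  obtain ⟨N, hN⟩ : ∃ N : Subgroup G, N = (Subgroup.normalClosure
      (((Cfsg.largestPReducedOf p M).subgroupOf H : Subgroup ↥H) : Set ↥H)).map H.subtype :=
    ⟨_, rfl⟩
  rw [← hK, ← hN]
  have hRp : IsPGroup p (Cfsg.pCoreOf p M) := pCoreOf_isPGroup p M
  have hYR : Cfsg.largestPReducedOf p M ≤ Cfsg.pCoreOf p M := largestPReducedOf_le_pCoreOf p M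
  have hYp : IsPGroup p (Cfsg.largestPReducedOf p M) := hRp.to_le hYR
  have hYH : Cfsg.largestPReducedOf p M ≤ H := hYR.trans hH.2.1
  have hRY : Cfsg.pCoreOf p M ≤ Subgroup.normalizer
      ((Cfsg.largestPReducedOf p M : Subgroup G) : Set G) :=
    (pCoreOf_le p M).trans (largestPReducedOf_spec p M).1
  have hKH : K ≤ H := by rw [hK]; exact pResidual_map_subtype_le p H
  have hHK : H ≤ Subgroup.normalizer (K : Set G) := by
    rw [hK]; exact Subgroup.le_normalizer.trans (normalizer_le_normalizer_pResidual_map p H)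
  have hKR : K ⊔ Cfsg.pCoreOf p M = H := by
    rw [hK]; exact frakH_pResidual_sup S Q hQp hQ M hSM hM hasym hH
  have hNH : N ≤ H := by rw [hN]; rintro _ ⟨x, -, rfl⟩; exact x.2
  have hYN : Cfsg.largestPReducedOf p M ≤ N := by
    rw [hN]
    intro y hy
    exact ⟨⟨y, hYH hy⟩, Subgroup.subset_normalClosure (Subgroup.mem_subgroupOf.mpr hy), rfl⟩
  have hHN : H ≤ Subgroup.normalizer (N : Set G) := by
    rw [hN]; exact le_normalizer_map_subtype _
  have hNR : N ⊔ Cfsg.pCoreOf p M = H := frakH_normal_sup_eq hH hNH hHN hYN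
  have hcop : ∀ x ∈ H, (orderOf x).Coprime p → x ∈ N := by
    intro x hx hc
    rw [← hNR, sup_comm] at hx
    exact mem_of_mem_sup_of_coprime_of_le_normalizer (hH.2.1.trans hHN) hRp hx hc
  have hK₁K : ⁅K, Cfsg.largestPReducedOf p M⁆ ≤ K :=
    Cfsg.Agent.Lib.Helper47.commutator_le_of_le_normalizer (hYH.trans hHK) le_rfl
  have hYK₁ := le_normalizer_commutator_right K (Cfsg.largestPReducedOf p M)
  have hKK₁ := le_normalizer_commutator_left K (Cfsg.largestPReducedOf p M)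
  have hKn : K ≤ Subgroup.normalizer
      ((⁅K, Cfsg.largestPReducedOf p M⁆ ⊔ Cfsg.largestPReducedOf p M : Subgroup G) : Set G) := by
    apply Cfsg.Agent.Lib.Helper47.le_normalizer_of_conj_mem
    intro s hs n hn
    have h1 : (⁅K, Cfsg.largestPReducedOf p M⁆ ⊔ Cfsg.largestPReducedOf p M).map
        (MulAut.conj s).toMonoidHom ≤
        ⁅K, Cfsg.largestPReducedOf p M⁆ ⊔ Cfsg.largestPReducedOf p M := by
      rw [Subgroup.map_sup, map_conj_eq_of_mem_normalizer (hKK₁ hs)]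
      refine sup_le le_sup_left ?_
      rintro _ ⟨y, hy, rfl⟩
      have e : (MulAut.conj s).toMonoidHom y = ⁅s, y⁆ * y := by
        rw [commutatorElement_def]; simp
      rw [e]
      exact Subgroup.mul_mem _ (Subgroup.mem_sup_left (Subgroup.commutator_mem_commutator hs hy))
        (Subgroup.mem_sup_right hy)
    exact h1 ⟨n, hn, rfl⟩
  have hRn : Cfsg.pCoreOf p M ≤ Subgroup.normalizer
      ((⁅K, Cfsg.largestPReducedOf p M⁆ ⊔ Cfsg.largestPReducedOf p M : Subgroup G) : Set G) :=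
    (le_inf ((le_inf (hH.2.1.trans hHK) hRY).trans
      (Cfsg.Agent.Lib.Helper61.normalizer_inf_le_normalizer_commutator _ _)) hRY).trans
      (normalizer_inf_le_normalizer_sup _ _)
  have hHn : H ≤ Subgroup.normalizer
      ((⁅K, Cfsg.largestPReducedOf p M⁆ ⊔ Cfsg.largestPReducedOf p M : Subgroup G) : Set G) := by
    conv_lhs => rw [← hKR]
    exact sup_le hKn hRn
  have hle : ⁅K, Cfsg.largestPReducedOf p M⁆ ⊔ Cfsg.largestPReducedOf p M ≤ H :=
    sup_le (hK₁K.trans hKH) hYH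
  have hN_le : N ≤ ⁅K, Cfsg.largestPReducedOf p M⁆ ⊔ Cfsg.largestPReducedOf p M := by
    haveI : ((⁅K, Cfsg.largestPReducedOf p M⁆ ⊔ Cfsg.largestPReducedOf p M).subgroupOf H).Normal :=
      (Subgroup.normal_subgroupOf_iff_le_normalizer hle).mpr hHn
    have h1 : Subgroup.normalClosure
        (((Cfsg.largestPReducedOf p M).subgroupOf H : Subgroup ↥H) : Set ↥H) ≤
        (⁅K, Cfsg.largestPReducedOf p M⁆ ⊔ Cfsg.largestPReducedOf p M).subgroupOf H := by
      apply Subgroup.normalClosure_le_normal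
      intro y hy
      exact Subgroup.mem_subgroupOf.mpr (Subgroup.mem_sup_right (Subgroup.mem_subgroupOf.mp hy))
    rw [hN]
    rintro _ ⟨x, hx, rfl⟩
    exact Subgroup.mem_subgroupOf.mp (h1 hx)
  have hKeq : K = Subgroup.closure {x : G | x ∈ H ∧ (orderOf x).Coprime p} := by
    rw [hK, pResidual_map_subtype_eq]
  have hKK₁' : K ≤ ⁅K, Cfsg.largestPReducedOf p M⁆ := by
    have hsub : {x : G | x ∈ H ∧ (orderOf x).Coprime p} ⊆
        ((⁅K, Cfsg.largestPReducedOf p M⁆ : Subgroup G) : Set G) := by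
      rintro x ⟨hxH, hxc⟩
      have h1 := hN_le (hcop x hxH hxc)
      rw [sup_comm] at h1
      exact mem_of_mem_sup_of_coprime_of_le_normalizer hYK₁ hYp h1 hxc
    calc K = Subgroup.closure {x : G | x ∈ H ∧ (orderOf x).Coprime p} := hKeq
      _ ≤ ⁅K, Cfsg.largestPReducedOf p M⁆ := (Subgroup.closure_le _).mpr hsub
  have hKN : K ≤ N := by
    have hsub : {x : G | x ∈ H ∧ (orderOf x).Coprime p} ⊆ (N : Set G) := by
      rintro x ⟨hxH, hxc⟩
      exact hcop x hxH hxc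
    calc K = Subgroup.closure {x : G | x ∈ H ∧ (orderOf x).Coprime p} := hKeq
      _ ≤ N := (Subgroup.closure_le _).mpr hsub
  refine ⟨le_antisymm hK₁K hKK₁', le_antisymm (sup_le hKN hYN) ?_⟩
  exact hN_le.trans (sup_le_sup_right hK₁K _)

end FrakH

end Cfsg.Agent.Lib.Helper48
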