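import Mathlib
import Cfsg.Agent.Lib.Helper47.Large
import Cfsg.Agent.Lib.Helper47.Subn
import Cfsg.Agent.Lib.Helper47.Basic
import Cfsg.Agent.Lib.Helper29.Fstar
import Cfsg.Agent.Lib.Helper30.Bender

/-!
# The preimage of `F*(M / C)` when `O_p(M / C) = 1`

`Md`, `C` subgroups of `G` with `C ∩ Md` normal in `Md`, and (ambient form of `O_p(Md / C) = 1`)
every normal subgroup of `Md` all of whose elements have a `p`-power in `C` lies in `C`.
`F` is the preimage in `Md` of `F*(Md / C)`.  Then `p`-subgroups of `Md` centralizing `F` modulo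
`C` lie in `C`, and so do normal subgroups of `F` that are `p`-groups modulo `C`.
-/

set_option autoImplicit false

namespace Cfsg.Agent.Lib.Helper48

open Cfsg.Agent.Lib.Helper47

section FstarQuot

variable {G : Type*} [Group G] [Finite G] {p : ℕ} [Fact p.Prime]

theorem fstarQuot_pCore_eq_bot (Md C : Subgroup G) [hn : (C.subgroupOf Md).Normal]
    (hred : ∀ D : Subgroup G, D ≤ Md → Md ≤ Subgroup.normalizer (D : Set G) →
      (∀ d ∈ D, ∃ k : ℕ, d ^ (p ^ k) ∈ C) → D ≤ C) :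
    Cfsg.pCore p (↥Md ⧸ C.subgroupOf Md) = ⊥ := by
  rw [eq_bot_iff]
  intro o ho
  obtain ⟨x, rfl⟩ := QuotientGroup.mk'_surjective (C.subgroupOf Md) o
  have hOn : (Cfsg.pCore p (↥Md ⧸ C.subgroupOf Md)).Normal :=
    Subgroup.sSup_normal _ (fun _ h => h.1)
  have h1 : ((Cfsg.pCore p (↥Md ⧸ C.subgroupOf Md)).comap
      (QuotientGroup.mk' (C.subgroupOf Md))).map Md.subtype ≤ Md := by
    rintro _ ⟨y, -, rfl⟩; exact y.2
  have h2 : Md ≤ Subgroup.normalizer ((((Cfsg.pCore p (↥Md ⧸ C.subgroupOf Md)).comap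
      (QuotientGroup.mk' (C.subgroupOf Md))).map Md.subtype : Subgroup G) : Set G) := by
    haveI := hOn.comap (QuotientGroup.mk' (C.subgroupOf Md))
    exact le_normalizer_map_subtype _
  have h3 : ∀ d ∈ ((Cfsg.pCore p (↥Md ⧸ C.subgroupOf Md)).comap
      (QuotientGroup.mk' (C.subgroupOf Md))).map Md.subtype, ∃ k : ℕ, d ^ (p ^ k) ∈ C := by
    rintro _ ⟨y, hy, rfl⟩
    obtain ⟨k, hk⟩ := (pCore_isPGroup p (↥Md ⧸ C.subgroupOf Md)) ⟨_, hy⟩
    refine ⟨k, ?_⟩
    have hk' : (QuotientGroup.mk' (C.subgroupOf Md) y) ^ (p ^ k) = 1 := by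
      simpa [Subtype.ext_iff] using hk
    rw [← map_pow, QuotientGroup.mk'_apply, QuotientGroup.eq_one_iff] at hk'
    simpa using Subgroup.mem_subgroupOf.mp hk'
  have h4 := hred _ h1 h2 h3
  rw [Subgroup.mem_bot, QuotientGroup.mk'_apply, QuotientGroup.eq_one_iff]
  exact Subgroup.mem_subgroupOf.mpr (h4 ⟨x, ho, rfl⟩)

/-- A `p`-subgroup of `Md` centralizing `F` modulo `C` lies in `C`. -/
theorem fstarQuot_centralizing_pgroup_le (Md C : Subgroup G) [hn : (C.subgroupOf Md).Normal]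
    (hred : ∀ D : Subgroup G, D ≤ Md → Md ≤ Subgroup.normalizer (D : Set G) →
      (∀ d ∈ D, ∃ k : ℕ, d ^ (p ^ k) ∈ C) → D ≤ C)
    {P : Subgroup G} (hP : IsPGroup p P) (hPMd : P ≤ Md)
    (hcomm : ∀ x ∈ P, ∀ f ∈ ((Cfsg.generalizedFittingSubgroup (↥Md ⧸ C.subgroupOf Md)).comap
      (QuotientGroup.mk' (C.subgroupOf Md))).map Md.subtype, x * f * x⁻¹ * f⁻¹ ∈ C) :
    P ≤ C := by
  have hPbp : IsPGroup p ((P.subgroupOf Md).map (QuotientGroup.mk' (C.subgroupOf Md))) :=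
    (hP.comap_of_injective Md.subtype Md.subtype_injective).map _
  have hPbc : (P.subgroupOf Md).map (QuotientGroup.mk' (C.subgroupOf Md)) ≤
      Subgroup.centralizer
        (Cfsg.generalizedFittingSubgroup (↥Md ⧸ C.subgroupOf Md) : Set (↥Md ⧸ C.subgroupOf Md)) := by
    rintro _ ⟨x, hx, rfl⟩
    rw [Subgroup.mem_centralizer_iff]
    intro fb hfb
    obtain ⟨f, rfl⟩ := QuotientGroup.mk'_surjective (C.subgroupOf Md) fb
    have h0 := hcomm (x : G) (Subgroup.mem_subgroupOf.mp hx) (f : G) ⟨f, hfb, rfl⟩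
    have h1 : (QuotientGroup.mk' (C.subgroupOf Md)) (x * f * x⁻¹ * f⁻¹) = 1 := by
      rw [QuotientGroup.mk'_apply, QuotientGroup.eq_one_iff]
      exact Subgroup.mem_subgroupOf.mpr (by simpa using h0)
    rw [map_mul, map_mul, map_mul, map_inv, map_inv] at h1
    exact (mul_inv_eq_iff_eq_mul.mp (mul_inv_eq_one.mp h1)).symm
  have hFbn : (Cfsg.generalizedFittingSubgroup (↥Md ⧸ C.subgroupOf Md)).Normal :=
    Cfsg.Agent.Lib.Helper29.generalizedFittingSubgroup_normal _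
  have hB := Cfsg.Agent.Lib.Helper30.centralizer_generalizedFittingSubgroup_le
    (↥Md ⧸ C.subgroupOf Md)
  have hZn : (Cfsg.generalizedFittingSubgroup (↥Md ⧸ C.subgroupOf Md) ⊓ Subgroup.centralizer
      (Cfsg.generalizedFittingSubgroup (↥Md ⧸ C.subgroupOf Md) :
        Set (↥Md ⧸ C.subgroupOf Md))).Normal := inferInstance
  have hsub : ((P.subgroupOf Md).map (QuotientGroup.mk' (C.subgroupOf Md))).IsSubnormal := by
    refine Subgroup.IsSubnormal.step _ _ (le_inf (hPbc.trans hB) hPbc) hZn.isSubnormal ?_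
    refine ⟨fun n hn g => ?_⟩
    have hc := (Subgroup.mem_centralizer_iff.mp g.2.2) (n : ↥Md ⧸ C.subgroupOf Md) n.2.1
    have : g * n * g⁻¹ = n := by
      apply Subtype.ext
      simp only [Subgroup.coe_mul, InvMemClass.coe_inv]
      rw [← hc, mul_inv_cancel_right]
    rw [this]; exact hn
  have hle := le_pCore_of_isSubnormal_of_isPGroup hsub hPbp
  rw [fstarQuot_pCore_eq_bot Md C hred] at hle
  intro x hx
  have h0 : (QuotientGroup.mk' (C.subgroupOf Md)) ⟨x, hPMd hx⟩ ∈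
      (P.subgroupOf Md).map (QuotientGroup.mk' (C.subgroupOf Md)) :=
    ⟨⟨x, hPMd hx⟩, Subgroup.mem_subgroupOf.mpr hx, rfl⟩
  have h1 := hle h0
  rw [Subgroup.mem_bot, QuotientGroup.mk'_apply, QuotientGroup.eq_one_iff] at h1
  exact Subgroup.mem_subgroupOf.mp h1

/-- A subgroup of `F`, normalized by `F`, all of whose elements have a `p`-power in `C`,
lies in `C`. -/
theorem fstarQuot_normal_pgroup_le (Md C : Subgroup G) [hn : (C.subgroupOf Md).Normal]
    (hred : ∀ D : Subgroup G, D ≤ Md → Md ≤ Subgroup.normalizer (D : Set G) →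
      (∀ d ∈ D, ∃ k : ℕ, d ^ (p ^ k) ∈ C) → D ≤ C)
    {X : Subgroup G}
    (hXF : X ≤ ((Cfsg.generalizedFittingSubgroup (↥Md ⧸ C.subgroupOf Md)).comap
      (QuotientGroup.mk' (C.subgroupOf Md))).map Md.subtype)
    (hFX : ((Cfsg.generalizedFittingSubgroup (↥Md ⧸ C.subgroupOf Md)).comap
      (QuotientGroup.mk' (C.subgroupOf Md))).map Md.subtype ≤ Subgroup.normalizer (X : Set G))
    (hXp : ∀ x ∈ X, ∃ k : ℕ, x ^ (p ^ k) ∈ C) : X ≤ C := by
  have hFMd : ((Cfsg.generalizedFittingSubgroup (↥Md ⧸ C.subgroupOf Md)).comap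
      (QuotientGroup.mk' (C.subgroupOf Md))).map Md.subtype ≤ Md := by
    rintro _ ⟨y, -, rfl⟩; exact y.2
  have hXMd : X ≤ Md := hXF.trans hFMd
  have hXbp : IsPGroup p ((X.subgroupOf Md).map (QuotientGroup.mk' (C.subgroupOf Md))) := by
    rintro ⟨_, ⟨x, hx, rfl⟩⟩
    obtain ⟨k, hk⟩ := hXp (x : G) (Subgroup.mem_subgroupOf.mp hx)
    refine ⟨k, Subtype.ext ?_⟩
    show (QuotientGroup.mk' (C.subgroupOf Md) x) ^ (p ^ k) = 1
    rw [← map_pow, QuotientGroup.mk'_apply, QuotientGroup.eq_one_iff]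
    exact Subgroup.mem_subgroupOf.mpr (by simpa using hk)
  have hmemF : ∀ x : ↥Md, (x : G) ∈ ((Cfsg.generalizedFittingSubgroup
      (↥Md ⧸ C.subgroupOf Md)).comap (QuotientGroup.mk' (C.subgroupOf Md))).map Md.subtype →
      QuotientGroup.mk' (C.subgroupOf Md) x ∈
        Cfsg.generalizedFittingSubgroup (↥Md ⧸ C.subgroupOf Md) := by
    rintro x ⟨y, hy, hyx⟩
    have : y = x := Subtype.ext hyx
    rw [← this]; exact hy
  have hXbF : (X.subgroupOf Md).map (QuotientGroup.mk' (C.subgroupOf Md)) ≤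
      Cfsg.generalizedFittingSubgroup (↥Md ⧸ C.subgroupOf Md) := by
    rintro _ ⟨x, hx, rfl⟩
    exact hmemF x (hXF (Subgroup.mem_subgroupOf.mp hx))
  have hFbn : (Cfsg.generalizedFittingSubgroup (↥Md ⧸ C.subgroupOf Md)).Normal :=
    Cfsg.Agent.Lib.Helper29.generalizedFittingSubgroup_normal _
  have hsub : ((X.subgroupOf Md).map (QuotientGroup.mk' (C.subgroupOf Md))).IsSubnormal := by
    refine Subgroup.IsSubnormal.step _ _ hXbF hFbn.isSubnormal ?_
    refine ⟨fun n hn g => ?_⟩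
    rw [Subgroup.mem_subgroupOf] at hn ⊢
    obtain ⟨x, hx, hxn⟩ := hn
    obtain ⟨f, hf⟩ := QuotientGroup.mk'_surjective (C.subgroupOf Md) (g : ↥Md ⧸ C.subgroupOf Md)
    have hfF : (f : G) ∈ ((Cfsg.generalizedFittingSubgroup
        (↥Md ⧸ C.subgroupOf Md)).comap (QuotientGroup.mk' (C.subgroupOf Md))).map Md.subtype :=
      ⟨f, by rw [SetLike.mem_coe, Subgroup.mem_comap, hf]; exact g.2, rfl⟩
    have h1 : (f : G) * (x : G) * (f : G)⁻¹ ∈ X :=
      (Subgroup.mem_normalizer_iff.mp (hFX hfF) _).mp (Subgroup.mem_subgroupOf.mp hx)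
    refine ⟨f * x * f⁻¹, Subgroup.mem_subgroupOf.mpr (by simpa using h1), ?_⟩
    simp only [Subgroup.coe_mul, InvMemClass.coe_inv]
    rw [map_mul, map_mul, map_inv, hf, hxn]
  have hle := le_pCore_of_isSubnormal_of_isPGroup hsub hXbp
  rw [fstarQuot_pCore_eq_bot Md C hred] at hle
  intro x hx
  have h0 : (QuotientGroup.mk' (C.subgroupOf Md)) ⟨x, hXMd hx⟩ ∈
      (X.subgroupOf Md).map (QuotientGroup.mk' (C.subgroupOf Md)) :=
    ⟨⟨x, hXMd hx⟩, Subgroup.mem_subgroupOf.mpr hx, rfl⟩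
  have h1 := hle h0
  rw [Subgroup.mem_bot, QuotientGroup.mk'_apply, QuotientGroup.eq_one_iff] at h1
  exact Subgroup.mem_subgroupOf.mp h1

/-- `Md` normalizes `F`. -/
theorem fstarQuot_le_normalizer (Md C : Subgroup G) [hn : (C.subgroupOf Md).Normal] :
    Md ≤ Subgroup.normalizer ((((Cfsg.generalizedFittingSubgroup (↥Md ⧸ C.subgroupOf Md)).comap
      (QuotientGroup.mk' (C.subgroupOf Md))).map Md.subtype : Subgroup G) : Set G) := by
  haveI : (Cfsg.generalizedFittingSubgroup (↥Md ⧸ C.subgroupOf Md)).Normal :=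
    Cfsg.Agent.Lib.Helper29.generalizedFittingSubgroup_normal _
  haveI := Subgroup.Normal.comap (inferInstance :
    (Cfsg.generalizedFittingSubgroup (↥Md ⧸ C.subgroupOf Md)).Normal)
    (QuotientGroup.mk' (C.subgroupOf Md))
  exact le_normalizer_map_subtype _

/-- `C ∩ Md ≤ F`. -/
theorem fstarQuot_inf_le (Md C : Subgroup G) [hn : (C.subgroupOf Md).Normal] :
    C ⊓ Md ≤ ((Cfsg.generalizedFittingSubgroup (↥Md ⧸ C.subgroupOf Md)).comap
      (QuotientGroup.mk' (C.subgroupOf Md))).map Md.subtype := by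
  rintro c ⟨hc, hcM⟩
  refine ⟨⟨c, hcM⟩, ?_, rfl⟩
  rw [SetLike.mem_coe, Subgroup.mem_comap, QuotientGroup.mk'_apply,
    (QuotientGroup.eq_one_iff _).mpr (Subgroup.mem_subgroupOf.mpr hc)]
  exact Subgroup.one_mem _

end FstarQuot

end Cfsg.Agent.Lib.Helper48
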