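import Mathlib
import Cfsg.Agent.Lib.Helper47.PIrr
import Cfsg.Agent.Lib.Helper47.Basic
import Cfsg.Agent.Lib.Helper47.Large

/-!
# A criterion for `p`-closedness

If every element of order prime to `p` is central modulo `O_p(X)`, then `X` is `p`-closed.
-/

set_option autoImplicit false

namespace Cfsg.Agent.Lib.Helper48

open Cfsg.Agent.Lib.Helper47

theorem isPClosed_of_coprime_central {X : Type*} [Group X] [Finite X] {p : ℕ} [Fact p.Prime]
    (h : ∀ x : X, (orderOf x).Coprime p → ∀ n : X, x * n * x⁻¹ * n⁻¹ ∈ Cfsg.pCore p X) :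
    Cfsg.IsPClosed p X := by
  intro P
  have hD : Cfsg.pCore p X ≤ P := pCore_le_sylow P
  have key : ∀ z : X, (orderOf z).Coprime p → ∀ t ∈ (P : Subgroup X),
      z * t * z⁻¹ ∈ (P : Subgroup X) := by
    intro z hz t ht
    have e : z * t * z⁻¹ = (z * t * z⁻¹ * t⁻¹) * t := by group
    rw [e]; exact Subgroup.mul_mem _ (hD (h z hz t)) ht
  have hres : Cfsg.pResidual p X ≤ Subgroup.normalizer ((P : Subgroup X) : Set X) := by
    unfold Cfsg.pResidual
    rw [Subgroup.closure_le]
    intro x hx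
    rw [SetLike.mem_coe, Subgroup.mem_normalizer_iff]
    intro t
    refine ⟨key x hx t, fun ht => ?_⟩
    have := key x⁻¹ (by rw [orderOf_inv]; exact hx) _ ht
    simpa [mul_assoc] using this
  have htop : Subgroup.normalizer ((P : Subgroup X) : Set X) = ⊤ := by
    rw [eq_top_iff, ← Cfsg.Agent.Lib.Helper47.pResidual_sup_sylow P]
    exact sup_le hres Subgroup.le_normalizer
  exact Subgroup.normalizer_eq_top_iff.mp htop

theorem isPClosed_subgroup_of_coprime_central {G : Type*} [Group G] [Finite G] {p : ℕ}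
    [Fact p.Prime] (X : Subgroup G)
    (h : ∀ x ∈ X, (orderOf x).Coprime p → ∀ n ∈ X, x * n * x⁻¹ * n⁻¹ ∈ Cfsg.pCoreOf p X) :
    Cfsg.IsPClosed p ↥X := by
  apply isPClosed_of_coprime_central
  intro x hx n
  have hx' : (orderOf (x : G)).Coprime p := by rwa [Subgroup.orderOf_coe]
  obtain ⟨z, hz, hzx⟩ := h x x.2 hx' n n.2
  have : z = x * n * x⁻¹ * n⁻¹ := Subtype.ext (by simpa using hzx)
  rw [← this]; exact hz

end Cfsg.Agent.Lib.Helper48
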