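import Mathlib
import Cfsg.Agent.Lib.Helper48.PMinComp
import Cfsg.Agent.Lib.Helper30.Bender

/-!
Groups with `O_p = 1` whose `O^p` is quasisimple (helper48).
-/

set_option autoImplicit false

namespace Cfsg.Agent.Lib.Helper48

open scoped commutatorElement

universe u

variable {G : Type u} [Group G]

/-- A normal nilpotent subgroup of a group with `O_p = 1` has order prime to `p`. -/
theorem not_dvd_card_of_normal_nilpotent [Finite G] {p : ℕ} [Fact p.Prime]
    (hO : Cfsg.pCore p G = ⊥) (N : Subgroup G) [hN : N.Normal] (hnil : Group.IsNilpotent N) :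
    ¬ p ∣ Nat.card N := by
  intro hdvd
  have P : Sylow p N := default
  have hall : ∀ (q : ℕ), Fact q.Prime → ∀ (T : Sylow q N), (T : Subgroup N).Normal :=
    ((Group.isNilpotent_of_finite_tfae (G := N)).out 0 3).mp hnil
  have hPn : (P : Subgroup N).Normal := hall p inferInstance P
  haveI hPc : (P : Subgroup N).Characteristic := Sylow.characteristic_of_normal P hPn
  have hmapn : ((P : Subgroup N).map N.subtype).Normal := inferInstance
  have hle : (P : Subgroup N).map N.subtype ≤ Cfsg.pCore p G :=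
    le_pCore' hmapn (P.isPGroup'.map _)
  rw [hO] at hle
  apply P.ne_bot_of_dvd_card hdvd
  rw [eq_bot_iff]
  intro x hx
  have h1 : (x : G) ∈ (⊥ : Subgroup G) := hle ⟨x, hx, rfl⟩
  rw [Subgroup.mem_bot] at h1 ⊢
  exact Subtype.ext h1

/-- The Fitting subgroup of a group with `O_p = 1` has order prime to `p`. -/
theorem not_dvd_card_fitting [Finite G] {p : ℕ} [Fact p.Prime] (hO : Cfsg.pCore p G = ⊥) :
    ¬ p ∣ Nat.card (Cfsg.fittingSubgroup G) := by
  haveI := Cfsg.Agent.Lib.Helper22.fittingSubgroup_normal' G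
  exact not_dvd_card_of_normal_nilpotent hO _ (Cfsg.Agent.Lib.Helper22.fittingSubgroup_nilpotent G)

/-- A `p`-subgroup of a subgroup of order prime to `p` is trivial. -/
theorem eq_bot_of_isPGroup_of_le {p : ℕ} [Fact p.Prime] [Finite G] {Y F : Subgroup G}
    (hY : IsPGroup p Y) (hYF : Y ≤ F) (hF : ¬ p ∣ Nat.card F) : Y = ⊥ := by
  obtain ⟨n, hn⟩ := IsPGroup.iff_card.mp hY
  have h1 : Nat.card Y ∣ Nat.card F := Subgroup.card_dvd_of_le hYF
  rw [hn] at h1
  rcases Nat.eq_zero_or_pos n with h0 | hpos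
  · rw [h0, pow_zero] at hn
    exact Subgroup.card_eq_one.mp hn
  · exact absurd ((dvd_pow_self p hpos.ne').trans h1) hF

/-- Structure of a group with `O_p = 1` whose `O^p` is quasisimple. -/
theorem quasiRes_structure [Finite G] {p : ℕ} [Fact p.Prime] (hO : Cfsg.pCore p G = ⊥)
    (hq : Cfsg.IsQuasisimple ↥(Cfsg.pResidual p G)) :
    Cfsg.pResidual p G = Cfsg.generalizedFittingSubgroup G ∧
    (∀ C : Subgroup G, C ≤ Subgroup.centralizer (Cfsg.pResidual p G : Set G) →
      C ≤ Cfsg.fittingSubgroup G) ∧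
    (∀ D : Subgroup G, D ≤ Cfsg.pResidual p G →
      Cfsg.pResidual p G ≤ Subgroup.normalizer (D : Set G) →
      ¬ Cfsg.pResidual p G ≤ D → ⁅D, Cfsg.pResidual p G⁆ = ⊥) := by
  haveI hKn : (Cfsg.pResidual p G).Normal := pResidual_normal' p G
  have hKc : Cfsg.IsComponent (Cfsg.pResidual p G) := ⟨hKn.isSubnormal, hq⟩
  have hperf := Cfsg.Agent.Lib.Helper22.IsComponent.perfect hKc
  have hF : Cfsg.fittingSubgroup G ≤ Cfsg.pResidual p G := fitting_le_pResidual hO
  have hlayer : Cfsg.layer G = Cfsg.pResidual p G := by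
    apply le_antisymm
    · rw [Cfsg.Agent.Lib.Helper22.layer_le_iff]
      intro C hC
      exact perfect_le_pResidual C (Cfsg.Agent.Lib.Helper22.IsComponent.perfect hC)
    · exact Cfsg.Agent.Lib.Helper22.component_le_layer hKc
  have hFstar : Cfsg.pResidual p G = Cfsg.generalizedFittingSubgroup G := by
    show _ = Cfsg.layer G ⊔ Cfsg.fittingSubgroup G
    rw [hlayer]
    exact (sup_eq_left.mpr hF).symm
  refine ⟨hFstar, ?_, ?_⟩
  · intro C hC
    have h1 : C ≤ Cfsg.pResidual p G := by
      have h0 := Cfsg.Agent.Lib.Helper30.centralizer_generalizedFittingSubgroup_le G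
      rw [← hFstar] at h0
      exact le_trans hC h0
    have hAn : (Cfsg.pResidual p G ⊓ Subgroup.centralizer (Cfsg.pResidual p G : Set G)).Normal :=
      inferInstance
    refine le_trans (le_inf h1 hC) ?_
    apply Cfsg.Agent.Lib.Helper22.le_fittingSubgroup_of_comm hAn
    intro a ha b hb
    exact Subgroup.mem_centralizer_iff.mp hb.2 a ha.1
  · intro D hDK hDn hne
    have hDsub : (D.subgroupOf (Cfsg.pResidual p G)).Normal :=
      (Subgroup.normal_subgroupOf_iff_le_normalizer hDK).mpr hDn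
    rcases Cfsg.Agent.Lib.Helper22.normal_le_center_or_eq_top hq _ hDsub with h | h
    · apply Cfsg.Agent.Lib.Helper22.commutator_eq_bot_of_comm
      intro d hd k hk
      have h1 : (⟨d, hDK hd⟩ : ↥(Cfsg.pResidual p G)) ∈ Subgroup.center ↥(Cfsg.pResidual p G) :=
        h (Subgroup.mem_subgroupOf.mpr hd)
      have h2 := Subgroup.mem_center_iff.mp h1 ⟨k, hk⟩
      exact (congrArg Subtype.val h2).symm
    · exact absurd (Subgroup.subgroupOf_eq_top.mp h) hne

end Cfsg.Agent.Lib.Helper48
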