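import Mathlib
import Cfsg.Agent.S2815
import Cfsg.Agent.Lib.Helper48.LargeSub
import Cfsg.Agent.Lib.Helper48.WeakClosed
import Cfsg.Agent.Lib.Helper48.QuotStab
import Cfsg.Agent.Lib.Helper48.PMinimal
import Cfsg.Agent.Lib.Helper48.Cores
import Cfsg.Agent.Lib.Helper47.Comm
import Cfsg.Agent.Lib.Helper47.Subn
import Cfsg.Agent.Lib.Helper47.QuotIrr
import Cfsg.Agent.Lib.Helper47.Large
import Cfsg.Agent.Lib.Helper22.PComp
import Cfsg.Agent.Lib.Helper22.Quasi

/-!
# Quasisimple sections generated by `p`-subgroups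

`E`, `C` subgroups of `G` with `C ∩ E` normal in `E`, `O_p(E / C) = 1` and `O^p(E / C)`
quasisimple.  `W ≤ E` is normal in `E`, generated by `p`-subgroups one of which is not in `C`,
and `[W, E ∩ C]` is a `p`-group.  Then `O^p(W)` is perfect, covers `O^p(E)` modulo `C`, its
quotients by `C` and by `O_p` are quasisimple, and it is the commutator of itself with every
`p`-subgroup of `E` outside `C`.
-/

set_option autoImplicit false

namespace Cfsg.Agent.Lib.Helper48

open Cfsg.Agent.Lib.Helper47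
open scoped commutatorElement Pointwise

section QBar

variable {G : Type*} [Group G]

/-- Image in `E / (C ∩ E)` of `X ∩ E`. -/
def qbar (E C : Subgroup G) [(C.subgroupOf E).Normal] (X : Subgroup G) :
    Subgroup (↥E ⧸ C.subgroupOf E) :=
  (X.subgroupOf E).map (QuotientGroup.mk' (C.subgroupOf E))

variable (E C : Subgroup G) [hn : (C.subgroupOf E).Normal]

theorem qbar_mono {X Y : Subgroup G} (h : X ≤ Y) : qbar E C X ≤ qbar E C Y :=
  Subgroup.map_mono (Subgroup.comap_mono h)

theorem qbar_le_iff {X Y : Subgroup G} (hX : X ≤ E) (hY : Y ≤ E) :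
    qbar E C X ≤ qbar E C Y ↔ X ≤ Y ⊔ (E ⊓ C) := by
  unfold qbar
  rw [Subgroup.map_le_map_iff, QuotientGroup.ker_mk', ← Subgroup.map_subtype_le_map_subtype,
    Subgroup.map_sup, Subgroup.subgroupOf_map_subtype, Subgroup.subgroupOf_map_subtype,
    Subgroup.subgroupOf_map_subtype, inf_of_le_left hX, inf_of_le_left hY, inf_comm C E]

theorem qss_commutator_le {X Y : Subgroup G} (hX : X ≤ E) (hY : Y ≤ E) : ⁅X, Y⁆ ≤ E := by
  rw [Subgroup.commutator_le]
  intro a ha b hb
  rw [commutatorElement_def]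
  exact E.mul_mem (E.mul_mem (E.mul_mem (hX ha) (hY hb)) (E.inv_mem (hX ha))) (E.inv_mem (hY hb))

theorem qbar_commutator {X Y : Subgroup G} (hX : X ≤ E) (hY : Y ≤ E) :
    qbar E C ⁅X, Y⁆ = ⁅qbar E C X, qbar E C Y⁆ := by
  unfold qbar
  rw [← Subgroup.map_commutator]
  congr 1
  apply Subgroup.map_injective E.subtype_injective
  rw [Subgroup.map_commutator, Subgroup.subgroupOf_map_subtype, Subgroup.subgroupOf_map_subtype,
    Subgroup.subgroupOf_map_subtype, inf_of_le_left hX, inf_of_le_left hY,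
    inf_of_le_left (qss_commutator_le E hX hY)]

theorem qbar_isPGroup {p : ℕ} {X : Subgroup G} (hXp : IsPGroup p X) :
    IsPGroup p (qbar E C X) := by
  unfold qbar
  exact (hXp.comap_of_injective E.subtype E.subtype_injective).map _

theorem qbar_eq_bot_iff {X : Subgroup G} (hX : X ≤ E) : qbar E C X = ⊥ ↔ X ≤ C := by
  unfold qbar
  rw [Subgroup.map_eq_bot_iff, QuotientGroup.ker_mk']
  constructor
  · intro h x hx
    have h1 : (⟨x, hX hx⟩ : ↥E) ∈ X.subgroupOf E := Subgroup.mem_subgroupOf.mpr hx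
    exact Subgroup.mem_subgroupOf.mp (h h1)
  · intro h x hx
    exact Subgroup.mem_subgroupOf.mpr (h (Subgroup.mem_subgroupOf.mp hx))

theorem qbar_normal {X : Subgroup G} (hX : X ≤ E)
    (hEX : E ≤ Subgroup.normalizer (X : Set G)) : (qbar E C X).Normal := by
  unfold qbar
  have h1 : (X.subgroupOf E).Normal := (Subgroup.normal_subgroupOf_iff_le_normalizer hX).mpr hEX
  exact h1.map _ (QuotientGroup.mk'_surjective _)

theorem qbar_pResidual [Finite G] (p : ℕ) [Fact p.Prime] :
    qbar E C ((Cfsg.pResidual p ↥E).map E.subtype) =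
      Cfsg.pResidual p (↥E ⧸ C.subgroupOf E) := by
  unfold qbar
  have h : ((Cfsg.pResidual p ↥E).map E.subtype).subgroupOf E = Cfsg.pResidual p ↥E :=
    Subgroup.comap_map_eq_self_of_injective E.subtype_injective _
  rw [h]
  exact le_antisymm (map_pResidual_le p _) (pResidual_le_map p _)

end QBar

section General

variable {G : Type*} [Group G]

theorem qss_le_normalizer_sup {A X Y : Subgroup G} (hX : A ≤ Subgroup.normalizer (X : Set G))
    (hY : A ≤ Subgroup.normalizer (Y : Set G)) : A ≤ Subgroup.normalizer ((X ⊔ Y : Subgroup G) : Set G) := by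
  intro a ha
  apply mem_normalizer_of_map_conj_eq
  rw [Subgroup.map_sup, map_conj_eq_of_mem_normalizer (hX ha), map_conj_eq_of_mem_normalizer (hY ha)]

theorem qss_le_normalizer_inf {A X Y : Subgroup G} (hX : A ≤ Subgroup.normalizer (X : Set G))
    (hY : A ≤ Subgroup.normalizer (Y : Set G)) : A ≤ Subgroup.normalizer ((X ⊓ Y : Subgroup G) : Set G) := by
  intro a ha
  rw [Subgroup.mem_normalizer_iff]
  intro n
  rw [Subgroup.mem_inf, Subgroup.mem_inf, ← Subgroup.mem_normalizer_iff.mp (hX ha) n,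
    ← Subgroup.mem_normalizer_iff.mp (hY ha) n]

theorem qss_le_normalizer_commutator {A X Y : Subgroup G} (hX : A ≤ Subgroup.normalizer (X : Set G))
    (hY : A ≤ Subgroup.normalizer (Y : Set G)) : A ≤ Subgroup.normalizer ((⁅X, Y⁆ : Subgroup G) : Set G) := by
  intro a ha
  apply mem_normalizer_of_map_conj_eq
  rw [Subgroup.map_commutator, map_conj_eq_of_mem_normalizer (hX ha), map_conj_eq_of_mem_normalizer (hY ha)]

/-- Dedekind's modular law. -/
theorem qss_dedekind {A N B : Subgroup G} (hNA : N ≤ A) (hNB : N ≤ Subgroup.normalizer (B : Set G))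
    (h : A ≤ N ⊔ B) : A ≤ N ⊔ (A ⊓ B) := by
  intro x hx
  have hx' : x ∈ ((N ⊔ B : Subgroup G) : Set G) := h hx
  rw [Subgroup.coe_mul_of_left_le_normalizer_right N B hNB] at hx'
  obtain ⟨n, hn, b, hb, rfl⟩ := hx'
  have hbA : b ∈ A := by
    have : b = n⁻¹ * (n * b) := by group
    rw [this]
    exact A.mul_mem (A.inv_mem (hNA hn)) hx
  exact Subgroup.mul_mem_sup hn ⟨hbA, hb⟩

/-- If `O^p(W) ≤ A X` with `A` a `p`-group normalizing `X`, then `O^p(W) ≤ X`. -/
theorem qss_le_of_le_sup {p : ℕ} [Fact p.Prime] (W : Subgroup G) {Er X A : Subgroup G}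
    (hEr : Er = (Cfsg.pResidual p ↥W).map W.subtype) (hA : IsPGroup p A)
    (hAX : A ≤ Subgroup.normalizer (X : Set G)) (h : Er ≤ A ⊔ X) : Er ≤ X := by
  have h1 : Er = Subgroup.closure {x : G | x ∈ W ∧ (orderOf x).Coprime p} := by
    rw [hEr, pResidual_map_subtype_eq]
  have h2 : Subgroup.closure {x : G | x ∈ W ∧ (orderOf x).Coprime p} ≤ X := by
    rw [Subgroup.closure_le]
    intro x hx
    have hxE : x ∈ Er := by rw [h1]; exact Subgroup.subset_closure hx
    exact mem_of_mem_sup_of_coprime_of_le_normalizer hAX hA (h hxE) hx.2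
  rw [h1]
  exact h2

/-- `O^p(O^p(W)) = O^p(W)`, in ambient form. -/
theorem qss_pResidual_idem (p : ℕ) (W Er : Subgroup G)
    (hEr : Er = (Cfsg.pResidual p ↥W).map W.subtype) :
    (Cfsg.pResidual p ↥Er).map Er.subtype = Er := by
  apply le_antisymm (pResidual_map_subtype_le p Er)
  have h1 : Er = Subgroup.closure {x : G | x ∈ W ∧ (orderOf x).Coprime p} := by
    rw [hEr, pResidual_map_subtype_eq]
  have key : {x : G | x ∈ W ∧ (orderOf x).Coprime p} ⊆ {x : G | x ∈ Er ∧ (orderOf x).Coprime p} := by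
    intro x hx
    refine ⟨?_, hx.2⟩
    rw [h1]
    exact Subgroup.subset_closure hx
  calc Er = Subgroup.closure {x : G | x ∈ W ∧ (orderOf x).Coprime p} := h1
    _ ≤ Subgroup.closure {x : G | x ∈ Er ∧ (orderOf x).Coprime p} := Subgroup.closure_mono key
    _ = (Cfsg.pResidual p ↥Er).map Er.subtype := (pResidual_map_subtype_eq p Er).symm

/-- In a finite group generated by `p`-subgroups, `O^p(H) ≤ M` for every normal subgroup `M`
containing `[O^p(H), H]`. -/
theorem qss_pResidual_le_of_commutator_le {H : Type*} [Group H] [Finite H] {p : ℕ} [Fact p.Prime]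
    (𝒬 : Set (Subgroup H)) (h𝒬 : ∀ Q ∈ 𝒬, IsPGroup p Q) (hgen : sSup 𝒬 = ⊤)
    (M : Subgroup H) [hM : M.Normal] (hc : ⁅Cfsg.pResidual p H, (⊤ : Subgroup H)⁆ ≤ M) :
    Cfsg.pResidual p H ≤ M := by
  classical
  have T : Sylow p H := default
  have htop : Cfsg.pResidual p H ⊔ (T : Subgroup H) = ⊤ :=
    Cfsg.Agent.Lib.Helper48.pResidual_sup_sylow T
  have h1 : Cfsg.pResidual p H ≤ Subgroup.normalizer ((M ⊔ (T : Subgroup H) : Subgroup H) : Set H) := by
    apply Cfsg.Agent.Lib.Helper47.le_normalizer_of_conj_mem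
    intro r hr n hn
    have h2 : (M ⊔ (T : Subgroup H)).map (MulAut.conj r).toMonoidHom ≤ M ⊔ (T : Subgroup H) := by
      rw [Subgroup.map_sup]
      apply sup_le
      · rintro _ ⟨m, hm, rfl⟩
        exact (le_sup_left : M ≤ M ⊔ (T : Subgroup H)) (hM.conj_mem m hm r)
      · rintro _ ⟨t, ht, rfl⟩
        have e : (MulAut.conj r).toMonoidHom t = ⁅r, t⁆ * t := by
          simp [commutatorElement_def, MulAut.conj_apply]
        rw [e]
        exact Subgroup.mul_mem_sup (hc (Subgroup.commutator_mem_commutator hr trivial)) ht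
    exact h2 ⟨n, hn, rfl⟩
  have h3 : (T : Subgroup H) ≤ Subgroup.normalizer ((M ⊔ (T : Subgroup H) : Subgroup H) : Set H) :=
    le_sup_right.trans Subgroup.le_normalizer
  have hN : (M ⊔ (T : Subgroup H)).Normal := by
    rw [← Subgroup.normalizer_eq_top_iff, eq_top_iff, ← htop]
    exact sup_le h1 h3
  have h4 : M ⊔ (T : Subgroup H) = ⊤ := by
    rw [eq_top_iff, ← hgen]
    apply sSup_le
    intro Q hQ
    obtain ⟨T', hT'⟩ := (h𝒬 Q hQ).exists_le_sylow
    obtain ⟨g, rfl⟩ := MulAction.exists_smul_eq H T T'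
    intro q hq
    have hq' := hT' hq
    rw [Sylow.coe_subgroup_smul, Subgroup.mem_pointwise_smul_iff_inv_smul_mem] at hq'
    have hq'' : g⁻¹ * q * g ∈ (T : Subgroup H) := by
      simpa [MulAut.smul_def] using hq'
    have h5 := hN.conj_mem _ ((le_sup_right : (T : Subgroup H) ≤ M ⊔ (T : Subgroup H)) hq'') g
    have e : g * (g⁻¹ * q * g) * g⁻¹ = q := by group
    rwa [e] at h5
  exact pResidual_le_of_sup_eq_top T M h4

/-- Ambient form: if `W` is generated by `p`-subgroups then `O^p(W) = [O^p(W), W]`. -/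
theorem qss_pResidual_le_commutator [Finite G] {p : ℕ} [Fact p.Prime]
    (W : Subgroup G) (𝒬 : Set (Subgroup G)) (h𝒬 : ∀ Q ∈ 𝒬, IsPGroup p Q) (hW : W = sSup 𝒬) :
    (Cfsg.pResidual p ↥W).map W.subtype ≤ ⁅(Cfsg.pResidual p ↥W).map W.subtype, W⁆ := by
  have hErW : (Cfsg.pResidual p ↥W).map W.subtype ≤ W := pResidual_map_subtype_le p W
  have hMW : ⁅(Cfsg.pResidual p ↥W).map W.subtype, W⁆ ≤ W := qss_commutator_le W hErW le_rfl
  have hWM : W ≤ Subgroup.normalizer ((⁅(Cfsg.pResidual p ↥W).map W.subtype, W⁆ : Subgroup G) : Set G) :=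
    le_normalizer_commutator_right _ W
  haveI hMn : (⁅(Cfsg.pResidual p ↥W).map W.subtype, W⁆.subgroupOf W).Normal :=
    (Subgroup.normal_subgroupOf_iff_le_normalizer hMW).mpr hWM
  have hc : ⁅Cfsg.pResidual p ↥W, (⊤ : Subgroup ↥W)⁆ ≤
      ⁅(Cfsg.pResidual p ↥W).map W.subtype, W⁆.subgroupOf W := by
    rw [← Subgroup.map_subtype_le_map_subtype, Subgroup.map_commutator,
      Subgroup.subgroupOf_map_subtype, inf_of_le_left hMW, ← MonoidHom.range_eq_map,
      Subgroup.range_subtype]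
  have hgen : sSup ((fun Q : Subgroup G => Q.subgroupOf W) '' 𝒬) = ⊤ := by
    rw [eq_top_iff, ← Subgroup.map_subtype_le_map_subtype, ← MonoidHom.range_eq_map,
      Subgroup.range_subtype]
    conv_lhs => rw [hW]
    apply sSup_le
    intro Q hQ
    have hQW : Q ≤ W := by rw [hW]; exact le_sSup hQ
    have h1 : Q = (Q.subgroupOf W).map W.subtype := by
      rw [Subgroup.subgroupOf_map_subtype, inf_of_le_left hQW]
    rw [h1]
    exact Subgroup.map_mono (le_sSup ⟨Q, hQ, rfl⟩)
  have h𝒬' : ∀ Q' ∈ (fun Q : Subgroup G => Q.subgroupOf W) '' 𝒬, IsPGroup p Q' := by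
    rintro _ ⟨Q, hQ, rfl⟩
    exact (h𝒬 Q hQ).comap_of_injective W.subtype W.subtype_injective
  have h := qss_pResidual_le_of_commutator_le _ h𝒬' hgen _ hc
  have h2 := Subgroup.map_mono (f := W.subtype) h
  rwa [Subgroup.subgroupOf_map_subtype, inf_of_le_left hMW] at h2

end General

end Cfsg.Agent.Lib.Helper48
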