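import Mathlib
import Cfsg.Agent.Lib.Helper48.QSSection

/-!
# Quasisimple sections generated by `p`-subgroups: the main statement
-/

set_option autoImplicit false

namespace Cfsg.Agent.Lib.Helper48

open Cfsg.Agent.Lib.Helper47
open scoped commutatorElement Pointwise

theorem qss_main {G : Type*} [Group G] [Finite G] {p : ℕ} [Fact p.Prime]
    (E C : Subgroup G) [hn : (C.subgroupOf E).Normal]
    (hred : Cfsg.pCore p (↥E ⧸ C.subgroupOf E) = ⊥)
    (hqs : Cfsg.IsQuasisimple ↥(Cfsg.pResidual p (↥E ⧸ C.subgroupOf E)))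
    (W : Subgroup G) (hWE : W ≤ E) (hEW : E ≤ Subgroup.normalizer (W : Set G))
    (𝒬 : Set (Subgroup G)) (h𝒬 : ∀ Q ∈ 𝒬, IsPGroup p Q) (hW : W = sSup 𝒬)
    (hQC : ∃ Q ∈ 𝒬, ¬ Q ≤ C)
    (P : Subgroup G) (hP : IsPGroup p P) (hWC : ⁅W, E ⊓ C⁆ ≤ P)
    (Er : Subgroup G) (hEr : Er = (Cfsg.pResidual p ↥W).map W.subtype)
    [hn2 : (C.subgroupOf Er).Normal] :
    (Cfsg.pResidual p ↥E).map E.subtype ⊔ (E ⊓ C) = Er ⊔ (E ⊓ C) ∧ ⁅Er, Er⁆ = Er ∧
    (Cfsg.pResidual p ↥Er).map Er.subtype = Er ∧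
    Cfsg.IsQuasisimple (↥Er ⧸ C.subgroupOf Er) ∧ Cfsg.IsQuasisimple (↥Er ⧸ Cfsg.pCore p ↥Er) ∧
    ∀ Y : Subgroup G, Y ≤ E → IsPGroup p Y → ¬ Y ≤ C → ⁅Er, Y⁆ = Er := by
  classical
  have hErW : Er ≤ W := by rw [hEr]; exact pResidual_map_subtype_le p W
  have hErE : Er ≤ E := hErW.trans hWE
  have hEEr : E ≤ Subgroup.normalizer (Er : Set G) := by
    rw [hEr]; exact hEW.trans (normalizer_le_normalizer_pResidual_map p W)
  have hWEr : W ≤ Subgroup.normalizer (Er : Set G) := hWE.trans hEEr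
  have hEC : E ≤ Subgroup.normalizer ((E ⊓ C : Subgroup G) : Set G) := by
    have h1 : ((E ⊓ C).subgroupOf E).Normal := by
      rw [inf_comm, Subgroup.inf_subgroupOf_right]; exact hn
    exact (Subgroup.normal_subgroupOf_iff_le_normalizer inf_le_left).mp h1
  have hKE : (Cfsg.pResidual p ↥E).map E.subtype ≤ E := pResidual_map_subtype_le p E
  have hKb := qbar_pResidual E C p
  obtain ⟨Q, hQ𝒬, hQC'⟩ := hQC
  have hQW : Q ≤ W := by rw [hW]; exact le_sSup hQ𝒬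
  have hQp := h𝒬 Q hQ𝒬
  have hQb_ne : qbar E C Q ≠ ⊥ := fun h => hQC' ((qbar_eq_bot_iff E C (hQW.trans hWE)).mp h)
  have hQb_p : IsPGroup p (qbar E C Q) := qbar_isPGroup E C hQp
  have hp : p ∣ Nat.card (↥E ⧸ C.subgroupOf E) := by
    obtain ⟨n, hn'⟩ := IsPGroup.iff_card.mp hQb_p
    have h1 : Nat.card (qbar E C Q) ∣ Nat.card (↥E ⧸ C.subgroupOf E) :=
      Subgroup.card_subgroup_dvd_card _
    have hn0 : n ≠ 0 := by
      rintro rfl
      rw [pow_zero] at hn'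
      exact hQb_ne (Subgroup.card_eq_one.mp hn')
    rw [hn'] at h1
    exact (dvd_pow_self p hn0).trans h1
  obtain ⟨-, hb, -, -⟩ := Cfsg.Agent.S2815.result hp hred hqs
  have hperfb : ⁅Cfsg.pResidual p (↥E ⧸ C.subgroupOf E), Cfsg.pResidual p (↥E ⧸ C.subgroupOf E)⁆ =
      Cfsg.pResidual p (↥E ⧸ C.subgroupOf E) := Subgroup.isPerfect_iff.mp hqs.1
  -- (1)
  haveI hWb_n : (qbar E C W).Normal := qbar_normal E C hWE hEW
  have hKW : (Cfsg.pResidual p ↥E).map E.subtype ≤ W ⊔ (E ⊓ C) := by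
    rw [← qbar_le_iff E C hKE hWE, hKb]
    have hh := (hb _ hQb_p hQb_ne).1
    rw [← hh]
    exact (Subgroup.commutator_mono le_top (qbar_mono E C hQW)).trans
      (Subgroup.commutator_le_right ⊤ (qbar E C W))
  have hEErC : E ≤ Subgroup.normalizer ((Er ⊔ (E ⊓ C) : Subgroup G) : Set G) :=
    qss_le_normalizer_sup hEEr hEC
  have hKEr : (Cfsg.pResidual p ↥E).map E.subtype ≤ Er ⊔ (E ⊓ C) := by
    have T : Sylow p ↥W := default
    have hTp : IsPGroup p ((T : Subgroup ↥W).map W.subtype) := T.isPGroup'.map _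
    have hTW : (T : Subgroup ↥W).map W.subtype ≤ W := by
      rintro _ ⟨x, -, rfl⟩; exact x.2
    have hWT : W = Er ⊔ (T : Subgroup ↥W).map W.subtype := by
      have h1 := Cfsg.Agent.Lib.Helper48.pResidual_sup_sylow T
      have h2 := congrArg (Subgroup.map W.subtype) h1
      rw [Subgroup.map_sup, ← MonoidHom.range_eq_map, Subgroup.range_subtype, ← hEr] at h2
      exact h2.symm
    apply qss_le_of_le_sup E rfl hTp ((hTW.trans hWE).trans hEErC)
    calc (Cfsg.pResidual p ↥E).map E.subtype ≤ W ⊔ (E ⊓ C) := hKW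
      _ = (T : Subgroup ↥W).map W.subtype ⊔ (Er ⊔ (E ⊓ C)) := by
        conv_lhs => rw [hWT]
        rw [sup_comm Er, sup_assoc]
  have h1 : (Cfsg.pResidual p ↥E).map E.subtype ⊔ (E ⊓ C) = Er ⊔ (E ⊓ C) := by
    apply le_antisymm
    · exact sup_le hKEr le_sup_right
    · apply sup_le_sup_right
      rw [hEr]
      exact pResidual_map_subtype_mono p hWE
  have hErb : qbar E C Er = Cfsg.pResidual p (↥E ⧸ C.subgroupOf E) := by
    rw [← hKb]
    apply le_antisymm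
    · rw [qbar_le_iff E C hErE hKE, h1]; exact le_sup_left
    · rw [qbar_le_iff E C hKE hErE]; exact hKEr
  -- the p-core
  have hD_eq : Er ⊓ (E ⊓ C) = Er ⊓ C := by rw [← inf_assoc, inf_of_le_left hErE]
  have hDEr : Er ⊓ C ≤ Er := inf_le_left
  have hWD : ⁅W, Er ⊓ C⁆ ≤ Cfsg.pCoreOf p Er := by
    apply le_pCoreOf_of_le_normalizer
    · exact hP.to_le ((Subgroup.commutator_mono le_rfl (le_inf (hDEr.trans hErE) inf_le_right)).trans hWC)
    · rw [Subgroup.commutator_comm]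
      exact Cfsg.Agent.Lib.Helper47.commutator_le_of_le_normalizer hWEr hDEr
    · exact hErW.trans (le_normalizer_commutator_left W (Er ⊓ C))
  have hOpp : IsPGroup p (Cfsg.pCoreOf p Er) := pCoreOf_isPGroup p Er
  have hOpEr : Cfsg.pCoreOf p Er ≤ Er := pCoreOf_le p Er
  have hErD : ⁅Er, Er ⊓ C⁆ ≤ Cfsg.pCoreOf p Er := (Subgroup.commutator_mono hErW le_rfl).trans hWD
  -- (2)
  have hN_Er : ⁅Er, Er⁆ ≤ Er := qss_commutator_le Er le_rfl le_rfl
  have hErN : Er ≤ Subgroup.normalizer ((⁅Er, Er⁆ : Subgroup G) : Set G) :=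
    le_normalizer_commutator_left Er Er
  have hWN : W ≤ Subgroup.normalizer ((⁅Er, Er⁆ : Subgroup G) : Set G) :=
    qss_le_normalizer_commutator hWEr hWEr
  have h2a : Er ≤ ⁅Er, Er⁆ ⊔ (E ⊓ C) := by
    refine (qbar_le_iff E C hErE (hN_Er.trans hErE)).mp ?_
    rw [qbar_commutator E C hErE hErE, hErb, hperfb]
  have h2b : Er ≤ ⁅Er, Er⁆ ⊔ (Er ⊓ C) := by
    have := qss_dedekind hN_Er ((hN_Er.trans hErE).trans hEC) h2a
    rwa [hD_eq] at this
  have hα : Er ≤ ⁅Er, W⁆ := by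
    have := qss_pResidual_le_commutator W 𝒬 h𝒬 hW
    rwa [← hEr] at this
  have h2c : ⁅W, Er⁆ ≤ ⁅Er, Er⁆ ⊔ Cfsg.pCoreOf p Er := by
    refine (Subgroup.commutator_mono le_rfl h2b).trans ?_
    rw [commutator_sup_right W ⁅Er, Er⁆ (Er ⊓ C)
      ((hN_Er.trans hErW).trans Subgroup.le_normalizer)
      ((hDEr.trans hErW).trans Subgroup.le_normalizer)]
    apply sup_le_sup _ hWD
    rw [Subgroup.commutator_comm]
    exact Cfsg.Agent.Lib.Helper47.commutator_le_of_le_normalizer hWN le_rfl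
  have h2 : ⁅Er, Er⁆ = Er := by
    apply le_antisymm hN_Er
    apply qss_le_of_le_sup W hEr hOpp (hOpEr.trans hErN)
    rw [sup_comm]
    refine hα.trans ?_
    rw [Subgroup.commutator_comm]
    exact h2c
  -- (6)
  have h6 : ∀ Y : Subgroup G, Y ≤ E → IsPGroup p Y → ¬ Y ≤ C → ⁅Er, Y⁆ = Er := by
    intro Y hYE hYp hYC
    have hYb_ne : qbar E C Y ≠ ⊥ := fun h => hYC ((qbar_eq_bot_iff E C hYE).mp h)
    have hYb_p : IsPGroup p (qbar E C Y) := qbar_isPGroup E C hYp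
    have hMEr : ⁅Er, Y⁆ ≤ Er :=
      Cfsg.Agent.Lib.Helper47.commutator_le_of_le_normalizer (hYE.trans hEEr) le_rfl
    have hErM : Er ≤ Subgroup.normalizer ((⁅Er, Y⁆ : Subgroup G) : Set G) :=
      le_normalizer_commutator_left Er Y
    have h6a : Er ≤ ⁅Er, Y⁆ ⊔ (E ⊓ C) := by
      refine (qbar_le_iff E C hErE (hMEr.trans hErE)).mp ?_
      rw [qbar_commutator E C hErE hYE, hErb]
      exact (hb _ hYb_p hYb_ne).1.ge
    have h6b : Er ≤ ⁅Er, Y⁆ ⊔ (Er ⊓ C) := by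
      have := qss_dedekind hMEr ((hMEr.trans hErE).trans hEC) h6a
      rwa [hD_eq] at this
    have h6c : ⁅Er, Er⁆ ≤ ⁅Er, Y⁆ ⊔ Cfsg.pCoreOf p Er := by
      refine (Subgroup.commutator_mono le_rfl h6b).trans ?_
      rw [commutator_sup_right Er ⁅Er, Y⁆ (Er ⊓ C)
        (hMEr.trans Subgroup.le_normalizer) (hDEr.trans Subgroup.le_normalizer)]
      apply sup_le_sup _ hErD
      rw [Subgroup.commutator_comm]
      exact Cfsg.Agent.Lib.Helper47.commutator_le_of_le_normalizer hErM le_rfl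
    apply le_antisymm hMEr
    apply qss_le_of_le_sup W hEr hOpp (hOpEr.trans hErM)
    rw [sup_comm]
    rw [h2] at h6c
    exact h6c
  -- (4)
  have h4 : Cfsg.IsQuasisimple (↥Er ⧸ C.subgroupOf Er) := by
    let f : ↥Er →* (↥E ⧸ C.subgroupOf E) :=
      (QuotientGroup.mk' (C.subgroupOf E)).comp (Subgroup.inclusion hErE)
    have hrange : f.range = Cfsg.pResidual p (↥E ⧸ C.subgroupOf E) := by
      rw [← hErb]
      show ((QuotientGroup.mk' (C.subgroupOf E)).comp (Subgroup.inclusion hErE)).range = _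
      rw [MonoidHom.range_comp, Subgroup.inclusion_range]
      rfl
    have hker : f.ker = C.subgroupOf Er := by
      ext x
      rw [MonoidHom.mem_ker, Subgroup.mem_subgroupOf]
      show QuotientGroup.mk' (C.subgroupOf E) (Subgroup.inclusion hErE x) = 1 ↔ _
      rw [QuotientGroup.mk'_apply, QuotientGroup.eq_one_iff, Subgroup.mem_subgroupOf]
      rfl
    have e1 : ↥Er ⧸ f.ker ≃* f.range := QuotientGroup.quotientKerEquivRange f
    have e2 : ↥Er ⧸ C.subgroupOf Er ≃* ↥Er ⧸ f.ker := QuotientGroup.quotientMulEquivOfEq hker.symm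
    have hq : Cfsg.IsQuasisimple ↥f.range := by rw [hrange]; exact hqs
    exact Cfsg.Agent.Lib.Helper22.isQuasisimple_of_mulEquiv (e2.trans e1) hq
  -- (5)
  have h5 : Cfsg.IsQuasisimple (↥Er ⧸ Cfsg.pCore p ↥Er) := by
    have hOpC : Cfsg.pCoreOf p Er ≤ C := by
      have hOpE : Cfsg.pCoreOf p Er ≤ E := hOpEr.trans hErE
      rw [← qbar_eq_bot_iff E C hOpE, eq_bot_iff, ← hred]
      exact le_pCore' (qbar_normal E C hOpE (hEEr.trans (normalizer_le_normalizer_pCoreOf p Er)))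
        (qbar_isPGroup E C hOpp)
    have hO_le : Cfsg.pCore p ↥Er ≤ C.subgroupOf Er := by
      intro x hx
      rw [Subgroup.mem_subgroupOf]
      exact hOpC ⟨x, hx, rfl⟩
    have hperf : Group.IsPerfect ↥Er := Subgroup.isPerfect_iff.mpr h2
    have hX : Group.IsPerfect (↥Er ⧸ Cfsg.pCore p ↥Er) :=
      Group.IsPerfect.ofSurjective (f := QuotientGroup.mk' (Cfsg.pCore p ↥Er))
        (QuotientGroup.mk'_surjective _)
    have e3 : (↥Er ⧸ Cfsg.pCore p ↥Er) ⧸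
        (C.subgroupOf Er).map (QuotientGroup.mk' (Cfsg.pCore p ↥Er)) ≃* ↥Er ⧸ C.subgroupOf Er :=
      QuotientGroup.quotientQuotientEquivQuotient (Cfsg.pCore p ↥Er) (C.subgroupOf Er) hO_le
    have hZc : (C.subgroupOf Er).map (QuotientGroup.mk' (Cfsg.pCore p ↥Er)) ≤
        Subgroup.center (↥Er ⧸ Cfsg.pCore p ↥Er) := by
      rintro _ ⟨d, hd, rfl⟩
      rw [Subgroup.mem_center_iff]
      intro y
      obtain ⟨y', rfl⟩ := QuotientGroup.mk'_surjective (Cfsg.pCore p ↥Er) y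
      rw [← map_mul, ← map_mul, QuotientGroup.mk'_apply, QuotientGroup.mk'_apply, QuotientGroup.eq]
      have h7 : ((y' * d)⁻¹ * (d * y') : ↥Er) = ⁅d⁻¹, y'⁻¹⁆ := by
        rw [commutatorElement_def]; group
      rw [h7]
      have h8 : ((⁅(d⁻¹ : ↥Er), (y'⁻¹ : ↥Er)⁆ : ↥Er) : G) ∈ ⁅Er ⊓ C, Er⁆ := by
        have : ((⁅(d⁻¹ : ↥Er), (y'⁻¹ : ↥Er)⁆ : ↥Er) : G) = ⁅((d : G))⁻¹, ((y' : G))⁻¹⁆ := by
          simp [commutatorElement_def]
        rw [this]
        exact Subgroup.commutator_mem_commutator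
          (Subgroup.inv_mem _ ⟨d.2, Subgroup.mem_subgroupOf.mp hd⟩) (Subgroup.inv_mem _ y'.2)
      rw [Subgroup.commutator_comm] at h8
      obtain ⟨w, hw, hweq⟩ := hErD h8
      have : w = ⁅(d⁻¹ : ↥Er), (y'⁻¹ : ↥Er)⁆ := Subtype.ext hweq
      rw [← this]
      exact hw
    exact Cfsg.Agent.Lib.Helper22.isQuasisimple_of_central_quotient hX _ hZc
      (Cfsg.Agent.Lib.Helper22.isQuasisimple_of_mulEquiv e3 h4)
  exact ⟨h1, h2, qss_pResidual_idem p W Er hEr, h4, h5, h6⟩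

end Cfsg.Agent.Lib.Helper48
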