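import Mathlib
import Cfsg.Agent.Lib.Helper48.QSSection
import Cfsg.Agent.Lib.Helper47.Minimal
import Cfsg.Agent.Lib.Helper47.Syl
import Cfsg.Agent.Lib.Helper47.PIrr
import Cfsg.Agent.Lib.Helper47.Basic

/-!
# A transitive family of subgroups: `p`-minimality of the ambient group

`𝒦` is an `H`-invariant, transitive family of subgroups of the finite group `H` with
`O^p(H) ≤ ⟨𝒦⟩` and `E O_p(H)` normalized by `⟨𝒦⟩ O_p(H)` for `E ∈ 𝒦`.  If the members of `𝒦` are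
`p`-minimal then so is `H`.
-/

set_option autoImplicit false

namespace Cfsg.Agent.Lib.Helper48

open Cfsg.Agent.Lib.Helper47
open scoped commutatorElement Pointwise

section TransFam

variable {H : Type*} [Group H]

theorem tf_map_conj_one (A : Subgroup H) : A.map (MulAut.conj (1 : H)).toMonoidHom = A := by
  ext x; simp

theorem tf_pCore_map_conj (p : ℕ) (h : H) :
    (Cfsg.pCore p H).map (MulAut.conj h).toMonoidHom = Cfsg.pCore p H := by
  haveI : (Cfsg.pCore p H).Normal := pCore_normal' p H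
  apply map_conj_eq_of_mem_normalizer
  rw [Subgroup.normalizer_eq_top]
  trivial

theorem tf_sup_map_conj (p : ℕ) (E : Subgroup H) (h : H) :
    (E ⊔ Cfsg.pCore p H).map (MulAut.conj h).toMonoidHom =
      E.map (MulAut.conj h).toMonoidHom ⊔ Cfsg.pCore p H := by
  rw [Subgroup.map_sup, tf_pCore_map_conj]

theorem tf_normal (𝒦 : Set (Subgroup H))
    (hinv : ∀ h : H, ∀ E ∈ 𝒦, E.map (MulAut.conj h).toMonoidHom ∈ 𝒦) : (sSup 𝒦).Normal := by
  constructor
  intro n hn g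
  have h2 : (sSup 𝒦).map (MulAut.conj g).toMonoidHom =
      ⨆ E : 𝒦, (E : Subgroup H).map (MulAut.conj g).toMonoidHom := by
    rw [sSup_eq_iSup', Subgroup.map_iSup]
  have h1 : (sSup 𝒦).map (MulAut.conj g).toMonoidHom ≤ sSup 𝒦 := by
    rw [h2]; exact iSup_le fun E => le_sSup (hinv g E.1 E.2)
  exact h1 ⟨n, hn, rfl⟩

/-- Elements `h` with `F(E)^h = F(E^h)` for all `E ∈ 𝒦`. -/
def tfStab (𝒦 : Set (Subgroup H))
    (hinv : ∀ h : H, ∀ E ∈ 𝒦, E.map (MulAut.conj h).toMonoidHom ∈ 𝒦)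
    (F : Subgroup H → Subgroup H) : Subgroup H where
  carrier := {h | ∀ E ∈ 𝒦, (F E).map (MulAut.conj h).toMonoidHom =
    F (E.map (MulAut.conj h).toMonoidHom)}
  one_mem' := by
    intro E _
    rw [tf_map_conj_one, tf_map_conj_one]
  mul_mem' := by
    intro a b ha hb E hE
    rw [← map_conj_map_conj (F E) b a, hb E hE, ha _ (hinv b E hE), map_conj_map_conj]
  inv_mem' := by
    intro a ha E hE
    have h1 := ha _ (hinv a⁻¹ E hE)
    rw [map_conj_map_conj, mul_inv_cancel, tf_map_conj_one] at h1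
    rw [← h1, map_conj_map_conj, inv_mul_cancel, tf_map_conj_one]

theorem mem_tfStab {𝒦 : Set (Subgroup H)}
    {hinv : ∀ h : H, ∀ E ∈ 𝒦, E.map (MulAut.conj h).toMonoidHom ∈ 𝒦}
    {F : Subgroup H → Subgroup H} {h : H} :
    h ∈ tfStab 𝒦 hinv F ↔ ∀ E ∈ 𝒦, (F E).map (MulAut.conj h).toMonoidHom =
      F (E.map (MulAut.conj h).toMonoidHom) := Iff.rfl

theorem tf_dedekind {X E D : Subgroup H} [hD : D.Normal] (hDX : D ≤ X) (hX : X ≤ E ⊔ D) :
    X ≤ (X ⊓ E) ⊔ D := by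
  intro x hx
  have hx' : x ∈ ((E ⊔ D : Subgroup H) : Set H) := hX hx
  rw [Subgroup.mul_normal] at hx'
  obtain ⟨e, he, d, hd, rfl⟩ := hx'
  have heX : e ∈ X := by
    have : e = e * d * d⁻¹ := by group
    rw [this]; exact X.mul_mem hx (X.inv_mem (hDX hd))
  exact Subgroup.mul_mem_sup ⟨heX, he⟩ hd

variable [Finite H] {p : ℕ} [Fact p.Prime]

theorem tf_decomp (𝒦 : Set (Subgroup H))
    (hinv : ∀ h : H, ∀ E ∈ 𝒦, E.map (MulAut.conj h).toMonoidHom ∈ 𝒦)
    (hres : Cfsg.pResidual p H ≤ sSup 𝒦) (T : Sylow p H) (h : H) :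
    ∃ t ∈ (T : Subgroup H), ∃ r ∈ sSup 𝒦, h = t * r := by
  haveI := tf_normal 𝒦 hinv
  have htop : (T : Subgroup H) ⊔ sSup 𝒦 = ⊤ := by
    rw [eq_top_iff, ← Cfsg.Agent.Lib.Helper48.pResidual_sup_sylow T]
    exact sup_le (hres.trans le_sup_right) le_sup_left
  have hh : h ∈ (((T : Subgroup H) ⊔ sSup 𝒦 : Subgroup H) : Set H) := by rw [htop]; trivial
  rw [Subgroup.mul_normal] at hh
  obtain ⟨t, ht, r, hr, rfl⟩ := hh
  exact ⟨t, ht, r, hr, rfl⟩

theorem tf_conj_le_sylow (𝒦 : Set (Subgroup H))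
    (hinv : ∀ h : H, ∀ E ∈ 𝒦, E.map (MulAut.conj h).toMonoidHom ∈ 𝒦)
    (hres : Cfsg.pResidual p H ≤ sSup 𝒦) (T : Sylow p H) {Q : Subgroup H} (hQ : IsPGroup p Q) :
    ∃ r ∈ sSup 𝒦, Q.map (MulAut.conj r).toMonoidHom ≤ (T : Subgroup H) := by
  obtain ⟨g, hg⟩ := exists_conj_le_sylow hQ T
  obtain ⟨t, ht, r, hr, rfl⟩ := tf_decomp 𝒦 hinv hres T g
  refine ⟨r, hr, ?_⟩
  rintro _ ⟨x, hx, rfl⟩
  have h1 : t * r * x * (t * r)⁻¹ ∈ (T : Subgroup H) := hg ⟨x, hx, rfl⟩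
  have h2 : r * x * r⁻¹ = t⁻¹ * (t * r * x * (t * r)⁻¹) * t := by group
  simp only [MulEquiv.coe_toMonoidHom, MulAut.conj_apply]
  rw [h2]
  exact Subgroup.mul_mem _ (Subgroup.mul_mem _ (Subgroup.inv_mem _ ht) h1) ht

/-- Structure of a `p`-minimal member of the family relative to a Sylow subgroup `T` of `H`. -/
theorem tf_member_structure (𝒦 : Set (Subgroup H))
    (hinv : ∀ h : H, ∀ E ∈ 𝒦, E.map (MulAut.conj h).toMonoidHom ∈ 𝒦)
    (hres : Cfsg.pResidual p H ≤ sSup 𝒦)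
    (hnorm : ∀ E ∈ 𝒦, sSup 𝒦 ⊔ Cfsg.pCore p H ≤
      Subgroup.normalizer ((E ⊔ Cfsg.pCore p H : Subgroup H) : Set H))
    (T : Sylow p H) (E : Subgroup H) (hE : E ∈ 𝒦) (T' : Sylow p ↥E)
    (hmin : Cfsg.IsMinimalOver (T' : Subgroup ↥E)) :
    ∃ r ∈ sSup 𝒦, ((T' : Subgroup ↥E).map E.subtype).map (MulAut.conj r).toMonoidHom ≤
        (T : Subgroup H) ∧
      ∃ Z : Subgroup H, Z ≤ E ⊔ Cfsg.pCore p H ∧ Z ≠ E ⊔ Cfsg.pCore p H ∧
        ∀ X : Subgroup H, (T : Subgroup H) ⊓ (E ⊔ Cfsg.pCore p H) ≤ X → X ≤ E ⊔ Cfsg.pCore p H →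
          (X ≠ E ⊔ Cfsg.pCore p H ∨ IsPGroup p X) → X ≤ Z := by
  classical
  haveI hDn : (Cfsg.pCore p H).Normal := pCore_normal' p H
  have hDp : IsPGroup p (Cfsg.pCore p H) := pCore_isPGroup' p H
  obtain ⟨hncl, M', ⟨hM'co, hT'M'⟩, huniq⟩ := hmin
  have huniq' : ∀ M : Subgroup ↥E, IsCoatom M → (T' : Subgroup ↥E) ≤ M → M = M' :=
    fun M h1 h2 => huniq M ⟨h1, h2⟩
  have hle := le_of_unique_coatom huniq'
  have hTGE : (T' : Subgroup ↥E).map E.subtype ≤ E := by rintro _ ⟨x, -, rfl⟩; exact x.2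
  have hMGE : M'.map E.subtype ≤ E := by rintro _ ⟨x, -, rfl⟩; exact x.2
  have hTGp : IsPGroup p ((T' : Subgroup ↥E).map E.subtype) := T'.isPGroup'.map _
  have hQp : IsPGroup p ↥((T' : Subgroup ↥E).map E.subtype ⊔ Cfsg.pCore p H) :=
    IsPGroup.to_sup_of_normal_right hTGp hDp
  obtain ⟨r, hr, hrT⟩ := tf_conj_le_sylow 𝒦 hinv hres T hQp
  have hrN : r ∈ Subgroup.normalizer ((E ⊔ Cfsg.pCore p H : Subgroup H) : Set H) :=
    hnorm E hE ((le_sup_left : sSup 𝒦 ≤ sSup 𝒦 ⊔ Cfsg.pCore p H) hr)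
  have hrE : (E ⊔ Cfsg.pCore p H).map (MulAut.conj r).toMonoidHom = E ⊔ Cfsg.pCore p H :=
    map_conj_eq_of_mem_normalizer hrN
  have hrinvE : (E ⊔ Cfsg.pCore p H).map (MulAut.conj r⁻¹).toMonoidHom = E ⊔ Cfsg.pCore p H :=
    map_conj_eq_of_mem_normalizer (Subgroup.inv_mem _ hrN)
  have hDE : Cfsg.pCore p H ⊓ E ≤ (T' : Subgroup ↥E).map E.subtype := by
    have hn1 : ((Cfsg.pCore p H ⊓ E).subgroupOf E).Normal := by
      apply (Subgroup.normal_subgroupOf_iff_le_normalizer inf_le_right).mpr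
      apply qss_le_normalizer_inf _ Subgroup.le_normalizer
      rw [Subgroup.normalizer_eq_top]; exact le_top
    have hp1 : IsPGroup p ((Cfsg.pCore p H ⊓ E).subgroupOf E) :=
      (hDp.to_le inf_le_left).comap_of_injective E.subtype E.subtype_injective
    have h1 : (Cfsg.pCore p H ⊓ E).subgroupOf E ≤ (T' : Subgroup ↥E) :=
      (le_pCore' hn1 hp1).trans (pCore_le_sylow T')
    intro d hd
    exact ⟨⟨d, hd.2⟩, h1 (Subgroup.mem_subgroupOf.mpr hd), rfl⟩
  have hTM : (T' : Subgroup ↥E).map E.subtype ≤ M'.map E.subtype := Subgroup.map_mono hT'M'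
  refine ⟨r, hr, (Subgroup.map_mono le_sup_left).trans hrT,
    (M'.map E.subtype ⊔ Cfsg.pCore p H).map (MulAut.conj r).toMonoidHom, ?_, ?_, ?_⟩
  · rw [← hrE]; exact Subgroup.map_mono (sup_le_sup_right hMGE _)
  · intro hZ
    have h1 : M'.map E.subtype ⊔ Cfsg.pCore p H = E ⊔ Cfsg.pCore p H := by
      have := congrArg (Subgroup.map (MulAut.conj r⁻¹).toMonoidHom) hZ
      rwa [map_conj_inv_map_conj, hrinvE] at this
    apply hM'co.1
    rw [eq_top_iff]
    intro x _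
    have hx : (x : H) ∈ ((M'.map E.subtype ⊔ Cfsg.pCore p H : Subgroup H) : Set H) := by
      have : (x : H) ∈ E ⊔ Cfsg.pCore p H := (le_sup_left : E ≤ E ⊔ Cfsg.pCore p H) x.2
      rw [← h1] at this; exact this
    rw [Subgroup.mul_normal] at hx
    obtain ⟨m, hm, d, hd, hmd⟩ := hx
    have hdE : d ∈ E := by
      have : d = m⁻¹ * (x : H) := by rw [← hmd]; group
      rw [this]; exact E.mul_mem (E.inv_mem (hMGE hm)) x.2
    have hdM : d ∈ M'.map E.subtype := hTM (hDE ⟨hd, hdE⟩)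
    have hxM : (x : H) ∈ M'.map E.subtype := by
      rw [← hmd]; exact Subgroup.mul_mem _ hm hdM
    obtain ⟨y, hy, hyx⟩ := hxM
    have : y = x := Subtype.ext hyx
    rw [← this]; exact hy
  · intro X hTX hXE hXne
    have hX'E : X.map (MulAut.conj r⁻¹).toMonoidHom ≤ E ⊔ Cfsg.pCore p H := by
      rw [← hrinvE]; exact Subgroup.map_mono hXE
    have hQX' : (T' : Subgroup ↥E).map E.subtype ⊔ Cfsg.pCore p H ≤
        X.map (MulAut.conj r⁻¹).toMonoidHom := by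
      have h1 : ((T' : Subgroup ↥E).map E.subtype ⊔ Cfsg.pCore p H).map (MulAut.conj r).toMonoidHom ≤
          (T : Subgroup H) ⊓ (E ⊔ Cfsg.pCore p H) := by
        refine le_inf hrT ?_
        rw [← hrE]; exact Subgroup.map_mono (sup_le_sup_right hTGE _)
      exact (map_conj_le_iff _ _ r).mp (h1.trans hTX)
    have hX'd : X.map (MulAut.conj r⁻¹).toMonoidHom ≤
        (X.map (MulAut.conj r⁻¹).toMonoidHom ⊓ E) ⊔ Cfsg.pCore p H :=
      tf_dedekind (le_sup_right.trans hQX') hX'E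
    have hT'X : (T' : Subgroup ↥E) ≤ (X.map (MulAut.conj r⁻¹).toMonoidHom ⊓ E).subgroupOf E := by
      intro x hx
      rw [Subgroup.mem_subgroupOf]
      exact ⟨hQX' ((le_sup_left : (T' : Subgroup ↥E).map E.subtype ≤
        (T' : Subgroup ↥E).map E.subtype ⊔ Cfsg.pCore p H) ⟨x, hx, rfl⟩), x.2⟩
    have h3 : (X.map (MulAut.conj r⁻¹).toMonoidHom ⊓ E).subgroupOf E ≤ M' := by
      rcases hXne with hXne | hXp
      · apply hle _ hT'X
        intro h
        apply hXne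
        have hEX' : E ≤ X.map (MulAut.conj r⁻¹).toMonoidHom := by
          intro e he
          have : (⟨e, he⟩ : ↥E) ∈ (X.map (MulAut.conj r⁻¹).toMonoidHom ⊓ E).subgroupOf E := by
            rw [h]; trivial
          exact (Subgroup.mem_subgroupOf.mp this).1
        have h4 : X.map (MulAut.conj r⁻¹).toMonoidHom = E ⊔ Cfsg.pCore p H :=
          le_antisymm hX'E (sup_le hEX' (le_sup_right.trans hQX'))
        have h5 := congrArg (Subgroup.map (MulAut.conj r).toMonoidHom) h4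
        rwa [map_conj_map_conj_inv, hrE] at h5
      · have hp2 : IsPGroup p ((X.map (MulAut.conj r⁻¹).toMonoidHom ⊓ E).subgroupOf E) :=
          ((hXp.map _).to_le inf_le_left).comap_of_injective E.subtype E.subtype_injective
        rw [T'.is_maximal' hp2 hT'X]
        exact hT'M'
    have h4 : X.map (MulAut.conj r⁻¹).toMonoidHom ⊓ E ≤ M'.map E.subtype := by
      intro y hy
      exact ⟨⟨y, hy.2⟩, h3 (Subgroup.mem_subgroupOf.mpr hy), rfl⟩
    have h5 : X.map (MulAut.conj r⁻¹).toMonoidHom ≤ M'.map E.subtype ⊔ Cfsg.pCore p H :=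
      hX'd.trans (sup_le_sup_right h4 _)
    have h6 := Subgroup.map_mono (f := (MulAut.conj r).toMonoidHom) h5
    rwa [map_conj_map_conj_inv] at h6

end TransFam

end Cfsg.Agent.Lib.Helper48
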