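import Mathlib
import Cfsg.Agent.Lib.Helper48.TransFam

/-!
# A transitive family of `p`-minimal subgroups: the ambient group is `p`-minimal
-/

set_option autoImplicit false

namespace Cfsg.Agent.Lib.Helper48

open Cfsg.Agent.Lib.Helper47
open scoped commutatorElement Pointwise

theorem tf_pminimal {H : Type*} [Group H] [Finite H] {p : ℕ} [Fact p.Prime]
    (𝒦 : Set (Subgroup H)) (hne : 𝒦.Nonempty)
    (hinv : ∀ h : H, ∀ E ∈ 𝒦, E.map (MulAut.conj h).toMonoidHom ∈ 𝒦)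
    (htr : ∀ E ∈ 𝒦, ∀ K ∈ 𝒦, ∃ h : H, K = E.map (MulAut.conj h).toMonoidHom)
    (hres : Cfsg.pResidual p H ≤ sSup 𝒦)
    (hnorm : ∀ E ∈ 𝒦, sSup 𝒦 ⊔ Cfsg.pCore p H ≤
      Subgroup.normalizer ((E ⊔ Cfsg.pCore p H : Subgroup H) : Set H))
    (hmin : ∀ E ∈ 𝒦, ∀ T : Sylow p ↥E, Cfsg.IsMinimalOver (T : Subgroup ↥E)) (T : Sylow p H) :
    Cfsg.IsMinimalOver (T : Subgroup H) := by
  classical
  haveI hDn : (Cfsg.pCore p H).Normal := pCore_normal' p H
  have hDT : Cfsg.pCore p H ≤ (T : Subgroup H) := pCore_le_sylow T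
  -- (A) the normal closure
  have hA : Subgroup.normalClosure ((T : Subgroup H) : Set H) = ⊤ := by
    haveI hNn : (Subgroup.normalClosure ((T : Subgroup H) : Set H)).Normal :=
      Subgroup.normalClosure_normal
    have hTN : (T : Subgroup H) ≤ Subgroup.normalClosure ((T : Subgroup H) : Set H) :=
      Subgroup.le_normalClosure
    have hEN : ∀ E ∈ 𝒦, E ≤ Subgroup.normalClosure ((T : Subgroup H) : Set H) := by
      intro E hE
      have T' : Sylow p ↥E := default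
      obtain ⟨r, hr, hrT, -⟩ := tf_member_structure 𝒦 hinv hres hnorm T E hE T' (hmin E hE T')
      have h1 : (T' : Subgroup ↥E) ≤
          (Subgroup.normalClosure ((T : Subgroup H) : Set H)).subgroupOf E := by
        intro x hx
        rw [Subgroup.mem_subgroupOf]
        have h2 : r * (x : H) * r⁻¹ ∈ (T : Subgroup H) := hrT ⟨x, ⟨x, hx, rfl⟩, rfl⟩
        have h3 := hNn.conj_mem _ (hTN h2) r⁻¹
        have e : r⁻¹ * (r * (x : H) * r⁻¹) * r⁻¹⁻¹ = x := by group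
        rwa [e] at h3
      have h4 := eq_top_of_normal_of_le (hmin E hE T').1 _ inferInstance h1
      intro e he
      have : (⟨e, he⟩ : ↥E) ∈ (Subgroup.normalClosure ((T : Subgroup H) : Set H)).subgroupOf E := by
        rw [h4]; trivial
      exact Subgroup.mem_subgroupOf.mp this
    rw [eq_top_iff, ← Cfsg.Agent.Lib.Helper48.pResidual_sup_sylow T]
    exact sup_le (hres.trans (sSup_le hEN)) hTN
  -- (B) the maximal subgroup
  obtain ⟨mE, hmE⟩ : ∃ mE : Subgroup H → Subgroup H, ∀ E : Subgroup H, mE E =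
      sSup {X : Subgroup H | (T : Subgroup H) ⊓ (E ⊔ Cfsg.pCore p H) ≤ X ∧
        X ≤ E ⊔ Cfsg.pCore p H ∧ X ≠ E ⊔ Cfsg.pCore p H} := ⟨_, fun _ => rfl⟩
  have hm_le : ∀ E : Subgroup H, mE E ≤ E ⊔ Cfsg.pCore p H := by
    intro E; rw [hmE]; exact sSup_le (fun X hX => hX.2.1)
  have hm_ne : ∀ E ∈ 𝒦, mE E ≠ E ⊔ Cfsg.pCore p H := by
    intro E hE h
    have T' : Sylow p ↥E := default
    obtain ⟨r, hr, hrT, Z, hZle, hZne, hZ⟩ :=
      tf_member_structure 𝒦 hinv hres hnorm T E hE T' (hmin E hE T')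
    apply hZne
    apply le_antisymm hZle
    rw [← h, hmE]
    exact sSup_le (fun X hX => hZ X hX.1 hX.2.1 (Or.inl hX.2.2))
  have hm_T : ∀ E ∈ 𝒦, (T : Subgroup H) ⊓ (E ⊔ Cfsg.pCore p H) ≤ mE E := by
    intro E hE
    have T' : Sylow p ↥E := default
    obtain ⟨r, hr, hrT, Z, hZle, hZne, hZ⟩ :=
      tf_member_structure 𝒦 hinv hres hnorm T E hE T' (hmin E hE T')
    have h1 : (T : Subgroup H) ⊓ (E ⊔ Cfsg.pCore p H) ≤ Z :=
      hZ _ le_rfl inf_le_right (Or.inr (T.isPGroup'.to_le inf_le_left))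
    rw [hmE]
    apply le_sSup
    refine ⟨le_rfl, inf_le_right, ?_⟩
    intro h
    apply hZne
    apply le_antisymm hZle
    rw [← h]; exact h1
  have hTne : (T : Subgroup H) ≠ ⊤ := by
    intro h
    obtain ⟨E, hE⟩ := hne
    apply hm_ne E hE
    apply le_antisymm (hm_le E)
    have := hm_T E hE
    rwa [h, top_inf_eq] at this
  -- E does not normalize mE E
  have hB2 : ∀ E ∈ 𝒦, ¬ E ≤ Subgroup.normalizer ((mE E : Subgroup H) : Set H) := by
    intro E hE hEn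
    have T' : Sylow p ↥E := default
    obtain ⟨r, hr, hrT, -⟩ := tf_member_structure 𝒦 hinv hres hnorm T E hE T' (hmin E hE T')
    have hDm : Cfsg.pCore p H ≤ mE E := (le_inf hDT le_sup_right).trans (hm_T E hE)
    have hEsn : E ⊔ Cfsg.pCore p H ≤ Subgroup.normalizer ((mE E : Subgroup H) : Set H) :=
      sup_le hEn (hDm.trans Subgroup.le_normalizer)
    have hrN : r ∈ Subgroup.normalizer ((E ⊔ Cfsg.pCore p H : Subgroup H) : Set H) :=
      hnorm E hE ((le_sup_left : sSup 𝒦 ≤ sSup 𝒦 ⊔ Cfsg.pCore p H) hr)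
    have hrE : (E ⊔ Cfsg.pCore p H).map (MulAut.conj r).toMonoidHom = E ⊔ Cfsg.pCore p H :=
      map_conj_eq_of_mem_normalizer hrN
    have hconjE : ∀ e ∈ E, r * e * r⁻¹ ∈ E ⊔ Cfsg.pCore p H := by
      intro e he
      have : r * e * r⁻¹ ∈ (E ⊔ Cfsg.pCore p H).map (MulAut.conj r).toMonoidHom :=
        ⟨e, (le_sup_left : E ≤ E ⊔ Cfsg.pCore p H) he, rfl⟩
      rwa [hrE] at this
    have h1 : Subgroup.normalClosure ((T' : Subgroup ↥E) : Set ↥E) ≤
        ((mE E).comap (MulAut.conj r).toMonoidHom).subgroupOf E := by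
      unfold Subgroup.normalClosure
      rw [Subgroup.closure_le]
      intro y hy
      obtain ⟨t, ht, hty⟩ := Group.mem_conjugatesOfSet_iff.mp hy
      obtain ⟨c, rfl⟩ := isConj_iff.mp hty
      show ((c * t * c⁻¹ : ↥E) : H) ∈ (mE E).comap (MulAut.conj r).toMonoidHom
      rw [Subgroup.mem_comap]
      have ht1 : r * (t : H) * r⁻¹ ∈ mE E := by
        apply hm_T E hE
        exact ⟨hrT ⟨t, ⟨t, ht, rfl⟩, rfl⟩, hconjE _ t.2⟩
      have hc1 : r * (c : H) * r⁻¹ ∈ Subgroup.normalizer ((mE E : Subgroup H) : Set H) :=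
        hEsn (hconjE _ c.2)
      have h2 := (Subgroup.mem_normalizer_iff.mp hc1 _).mp ht1
      have e : (MulAut.conj r).toMonoidHom ((c * t * c⁻¹ : ↥E) : H) =
          r * (c : H) * r⁻¹ * (r * (t : H) * r⁻¹) * (r * (c : H) * r⁻¹)⁻¹ := by
        simp only [MulEquiv.coe_toMonoidHom, MulAut.conj_apply, Subgroup.coe_mul, Subgroup.coe_inv]
        group
      rw [e]; exact h2
    rw [(hmin E hE T').1] at h1
    have h3 : (E ⊔ Cfsg.pCore p H).map (MulAut.conj r).toMonoidHom ≤ mE E := by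
      rw [Subgroup.map_sup]
      apply sup_le
      · rintro _ ⟨e, he, rfl⟩
        have : (⟨e, he⟩ : ↥E) ∈ ((mE E).comap (MulAut.conj r).toMonoidHom).subgroupOf E :=
          h1 trivial
        exact Subgroup.mem_comap.mp (Subgroup.mem_subgroupOf.mp this)
      · rw [tf_pCore_map_conj]; exact hDm
    rw [hrE] at h3
    exact hm_ne E hE (le_antisymm (hm_le E) h3)
  -- proper overgroups of T contain no member
  have hF3 : ∀ P : Subgroup H, (T : Subgroup H) ≤ P → P ≠ ⊤ → ∀ E ∈ 𝒦, ¬ E ≤ P := by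
    intro P hTP hP E hE hEP
    apply hP
    have hDP : Cfsg.pCore p H ≤ P := hDT.trans hTP
    have hK : ∀ K ∈ 𝒦, K ≤ P := by
      intro K hK
      obtain ⟨h, rfl⟩ := htr E hE K hK
      obtain ⟨t, ht, r, hr, rfl⟩ := tf_decomp 𝒦 hinv hres T h
      rw [← Cfsg.Agent.Lib.Helper48.map_conj_map_conj]
      have h1 : E.map (MulAut.conj r).toMonoidHom ≤ P := by
        have h2 : E.map (MulAut.conj r).toMonoidHom ≤
            (E ⊔ Cfsg.pCore p H).map (MulAut.conj r).toMonoidHom := Subgroup.map_mono le_sup_left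
        rw [map_conj_eq_of_mem_normalizer
          (hnorm E hE ((le_sup_left : sSup 𝒦 ≤ sSup 𝒦 ⊔ Cfsg.pCore p H) hr))] at h2
        exact h2.trans (sup_le hEP hDP)
      have h3 := Subgroup.map_mono (f := (MulAut.conj t).toMonoidHom) h1
      rwa [map_conj_eq_of_mem_normalizer (Subgroup.le_normalizer (hTP ht))] at h3
    rw [eq_top_iff, ← Cfsg.Agent.Lib.Helper48.pResidual_sup_sylow T]
    exact sup_le (hres.trans (sSup_le hK)) hTP
  -- proper overgroups of T lie in the stabilizer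
  have hkey : ∀ P : Subgroup H, (T : Subgroup H) ≤ P → P ≠ ⊤ → ∀ h ∈ P, ∀ E ∈ 𝒦,
      (mE E).map (MulAut.conj h).toMonoidHom ≤ mE (E.map (MulAut.conj h).toMonoidHom) := by
    intro P hTP hP h hh E hE
    have hPE : P ⊓ (E ⊔ Cfsg.pCore p H) ≤ mE E := by
      rw [hmE]
      apply le_sSup
      refine ⟨inf_le_inf_right _ hTP, inf_le_right, ?_⟩
      intro heq
      apply hF3 P hTP hP E hE
      have : E ⊔ Cfsg.pCore p H ≤ P := by rw [← heq]; exact inf_le_left
      exact le_sup_left.trans this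
    conv_rhs => rw [hmE]
    apply le_sSup
    refine ⟨?_, ?_, ?_⟩
    · rw [← tf_sup_map_conj]
      rintro x ⟨hxT, z, hz, rfl⟩
      refine ⟨z, hPE ⟨?_, hz⟩, rfl⟩
      have hxP : h * z * h⁻¹ ∈ P := hTP hxT
      have e : z = h⁻¹ * (h * z * h⁻¹) * h := by group
      rw [e]; exact P.mul_mem (P.mul_mem (P.inv_mem hh) hxP) hh
    · rw [← tf_sup_map_conj]; exact Subgroup.map_mono (hm_le E)
    · rw [← tf_sup_map_conj]
      intro heq
      exact hm_ne E hE (Subgroup.map_injective (MulAut.conj h).injective heq)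
  have hB5 : ∀ P : Subgroup H, (T : Subgroup H) ≤ P → P ≠ ⊤ → P ≤ tfStab 𝒦 hinv mE := by
    intro P hTP hP h hh
    rw [mem_tfStab]
    intro E hE
    apply le_antisymm (hkey P hTP hP h hh E hE)
    have h1 := hkey P hTP hP h⁻¹ (P.inv_mem hh) _ (hinv h E hE)
    rw [map_conj_inv_map_conj] at h1
    have h2 := (map_conj_le_iff _ _ h⁻¹).mp h1
    rwa [inv_inv] at h2
  have hS_ne : tfStab 𝒦 hinv mE ≠ ⊤ := by
    intro hS
    obtain ⟨E, hE⟩ := hne
    apply hB2 E hE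
    intro e he
    have hmem : e ∈ tfStab 𝒦 hinv mE := by rw [hS]; trivial
    have h1 := mem_tfStab.mp hmem E hE
    rw [map_conj_eq_of_mem_normalizer (Subgroup.le_normalizer he)] at h1
    exact mem_normalizer_of_map_conj_eq h1
  -- assembly
  have hM₀S : sSup {P : Subgroup H | (T : Subgroup H) ≤ P ∧ P ≠ ⊤} ≤ tfStab 𝒦 hinv mE :=
    sSup_le (fun P hP => hB5 P hP.1 hP.2)
  have hM₀ne : sSup {P : Subgroup H | (T : Subgroup H) ≤ P ∧ P ≠ ⊤} ≠ ⊤ := by
    intro h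
    apply hS_ne
    rw [eq_top_iff, ← h]; exact hM₀S
  have hTM₀ : (T : Subgroup H) ≤ sSup {P : Subgroup H | (T : Subgroup H) ≤ P ∧ P ≠ ⊤} :=
    le_sSup ⟨le_rfl, hTne⟩
  have hco : IsCoatom (sSup {P : Subgroup H | (T : Subgroup H) ≤ P ∧ P ≠ ⊤}) := by
    refine ⟨hM₀ne, fun X hX => ?_⟩
    by_contra hXne
    have h2 : X ≤ sSup {P : Subgroup H | (T : Subgroup H) ≤ P ∧ P ≠ ⊤} :=
      le_sSup ⟨hTM₀.trans hX.le, hXne⟩
    exact absurd h2 (not_le_of_gt hX)
  refine ⟨hA, _, ⟨hco, hTM₀⟩, ?_⟩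
  rintro M' ⟨hM'co, hTM'⟩
  have h1 : M' ≤ sSup {P : Subgroup H | (T : Subgroup H) ≤ P ∧ P ≠ ⊤} := le_sSup ⟨hTM', hM'co.1⟩
  exact ((hM'co.le_iff_eq hM₀ne).mp h1).symm

end Cfsg.Agent.Lib.Helper48
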