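import Mathlib
import Cfsg.Agent.Lib.Helper48.TransFam
import Cfsg.Agent.Lib.Helper47.Subn
import Cfsg.Agent.Lib.Helper47.QuotIrr

/-!
# A transitive family of strongly `p`-irreducible subgroups: auxiliary lemmas
-/

set_option autoImplicit false

namespace Cfsg.Agent.Lib.Helper48

open Cfsg.Agent.Lib.Helper47
open scoped commutatorElement Pointwise

section Spi

/-- A strongly `p`-irreducible finite group is generated by the conjugates of a Sylow
`p`-subgroup. -/
theorem tf_spi_normalClosure {E : Type*} [Group E] [Finite E] {p : ℕ} [Fact p.Prime]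
    (hE : Cfsg.IsStronglyPIrreducible p E) (T' : Sylow p E) :
    Subgroup.normalClosure ((T' : Subgroup E) : Set E) = ⊤ := by
  obtain ⟨hncl, hsi⟩ := hE
  haveI hNn : (Subgroup.normalClosure ((T' : Subgroup E) : Set E)).Normal :=
    Subgroup.normalClosure_normal
  have hTN : (T' : Subgroup E) ≤ Subgroup.normalClosure ((T' : Subgroup E) : Set E) :=
    Subgroup.le_normalClosure
  by_cases hc : ⁅Subgroup.normalClosure ((T' : Subgroup E) : Set E), (⊤ : Subgroup E)⁆ ≤
      Cfsg.pCore p E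
  · exfalso
    apply hncl
    apply isPClosed_of_normal_sylow T'
    constructor
    intro t ht g
    have h1 : ⁅g, t⁆ ∈ Cfsg.pCore p E := by
      have h2 : ⁅t, g⁆ ∈ ⁅Subgroup.normalClosure ((T' : Subgroup E) : Set E), (⊤ : Subgroup E)⁆ :=
        Subgroup.commutator_mem_commutator (hTN ht) trivial
      have h3 := hc h2
      rw [← commutatorElement_inv]
      exact Subgroup.inv_mem _ h3
    have h3 : g * t * g⁻¹ = ⁅g, t⁆ * t := by rw [commutatorElement_def]; group
    rw [h3]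
    exact Subgroup.mul_mem _ (pCore_le_sylow T' h1) ht
  · have h1 := hsi _ hNn hc
    rw [eq_top_iff, ← Cfsg.Agent.Lib.Helper48.pResidual_sup_sylow T']
    exact sup_le h1 hTN

variable {H : Type*} [Group H]

/-- If `[A, B] ≤ D` with `D` normal then `[A D, B D] ≤ D`. -/
theorem tf_comm_sup {A B D : Subgroup H} [hD : D.Normal] (h : ⁅A, B⁆ ≤ D) :
    ⁅A ⊔ D, B ⊔ D⁆ ≤ D := by
  have h1 : (⁅A ⊔ D, B ⊔ D⁆).map (QuotientGroup.mk' D) = ⊥ := by
    rw [Subgroup.map_commutator, Subgroup.map_sup, Subgroup.map_sup, QuotientGroup.map_mk'_self,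
      sup_bot_eq, sup_bot_eq, ← Subgroup.map_commutator, Subgroup.map_eq_bot_iff,
      QuotientGroup.ker_mk']
    exact h
  rw [Subgroup.map_eq_bot_iff, QuotientGroup.ker_mk'] at h1
  exact h1

/-- `O^p` commutes with conjugation. -/
theorem tf_pResidual_map_conj (p : ℕ) (X : Subgroup H) (h : H) :
    (Cfsg.pResidual p ↥(X.map (MulAut.conj h).toMonoidHom)).map
        (X.map (MulAut.conj h).toMonoidHom).subtype =
      ((Cfsg.pResidual p ↥X).map X.subtype).map (MulAut.conj h).toMonoidHom := by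
  rw [pResidual_map_subtype_eq, pResidual_map_subtype_eq, MonoidHom.map_closure]
  congr 1
  ext y
  constructor
  · rintro ⟨⟨z, hz, rfl⟩, hcop⟩
    refine ⟨z, ⟨hz, ?_⟩, rfl⟩
    have e : (MulAut.conj h).toMonoidHom z = h * z * h⁻¹ := rfl
    rw [e, orderOf_conj_eq] at hcop
    exact hcop
  · rintro ⟨z, ⟨hz, hcop⟩, rfl⟩
    refine ⟨⟨z, hz, rfl⟩, ?_⟩
    have e : (MulAut.conj h).toMonoidHom z = h * z * h⁻¹ := rfl
    rw [e, orderOf_conj_eq]
    exact hcop

variable [Finite H] {p : ℕ} [Fact p.Prime]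

/-- A strongly `p`-irreducible subgroup whose `p`-elements centralize `K'` modulo the normal
subgroup `D` centralizes `K'` modulo `D`. -/
theorem tf_spi_commutator_le {E D K' : Subgroup H} [hD : D.Normal]
    (hE : Cfsg.IsStronglyPIrreducible p ↥E)
    (h : ∀ x ∈ E, ∀ m : ℕ, x ^ (p ^ m) = 1 → ∀ k ∈ K', ⁅x, k⁆ ∈ D) : ⁅E, K'⁆ ≤ D := by
  have T' : Sylow p ↥E := default
  have hncl := tf_spi_normalClosure hE T'
  have h1 : Subgroup.normalClosure ((T' : Subgroup ↥E) : Set ↥E) ≤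
      (quotStab D K').subgroupOf E := by
    unfold Subgroup.normalClosure
    rw [Subgroup.closure_le]
    intro y hy
    obtain ⟨t, ht, hty⟩ := Group.mem_conjugatesOfSet_iff.mp hy
    obtain ⟨c, rfl⟩ := isConj_iff.mp hty
    show ((c * t * c⁻¹ : ↥E) : H) ∈ quotStab D K'
    rw [mem_quotStab]
    refine ⟨by rw [Subgroup.normalizer_eq_top]; trivial, ?_⟩
    intro k hk
    obtain ⟨m, hm⟩ := T'.isPGroup' ⟨t, ht⟩
    have hm' : (t : ↥E) ^ (p ^ m) = 1 := by
      have := congrArg Subtype.val hm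
      simpa using this
    have hpow : ((c * t * c⁻¹ : ↥E) : H) ^ (p ^ m) = 1 := by
      have h2 : (c * t * c⁻¹) ^ (p ^ m) = 1 := by rw [conj_pow, hm', mul_one, mul_inv_cancel]
      have h3 := congrArg Subtype.val h2
      simpa using h3
    have h4 := h _ (c * t * c⁻¹).2 m hpow k hk
    rwa [commutatorElement_def] at h4
  rw [hncl] at h1
  rw [Subgroup.commutator_le]
  intro e he k hk
  have h2 : (⟨e, he⟩ : ↥E) ∈ (quotStab D K').subgroupOf E := h1 trivial
  have h3 := (mem_quotStab.mp (Subgroup.mem_subgroupOf.mp h2)).2 k hk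
  rw [commutatorElement_def]; exact h3

/-- The commutator of a `p`-element `x ∈ V` with `k`, if central in `V` modulo `D`, lies in `D`,
provided `D` contains all `p`-subgroups of `V` normalized by `V`. -/
theorem tf_pelement_commutator {D V : Subgroup H} [hD : D.Normal] (hDp : IsPGroup p D)
    (hDmax : ∀ C : Subgroup H, IsPGroup p C → C ≤ V → V ≤ Subgroup.normalizer (C : Set H) → C ≤ D)
    (hDV : D ≤ V) {x k : H} (hx : x ∈ V) {m : ℕ} (hxm : x ^ (p ^ m) = 1) (hc : ⁅x, k⁆ ∈ V)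
    (hcent : ∀ v ∈ V, ⁅v, ⁅x, k⁆⁆ ∈ D) : ⁅x, k⁆ ∈ D := by
  have hcomm : Commute (QuotientGroup.mk' D x) (QuotientGroup.mk' D ⁅x, k⁆) := by
    rw [← commutatorElement_eq_one_iff_commute, ← map_commutatorElement, QuotientGroup.mk'_apply,
      QuotientGroup.eq_one_iff]
    exact hcent x hx
  have hkx : k * x * k⁻¹ = ⁅x, k⁆⁻¹ * x := by rw [commutatorElement_def]; group
  have h1 : (k * x * k⁻¹) ^ (p ^ m) = 1 := by rw [conj_pow, hxm, mul_one, mul_inv_cancel]
  have h2 : (QuotientGroup.mk' D ⁅x, k⁆) ^ (p ^ m) = 1 := by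
    have h3 := congrArg (QuotientGroup.mk' D) h1
    rw [hkx, map_pow, map_mul, map_inv, map_one, (hcomm.symm.inv_left).mul_pow, ← map_pow _ x,
      hxm, map_one, mul_one, inv_pow, inv_eq_one] at h3
    exact h3
  have h4 : ⁅x, k⁆ ^ (p ^ m) ∈ D := by
    rw [← map_pow, QuotientGroup.mk'_apply, QuotientGroup.eq_one_iff] at h2
    exact h2
  obtain ⟨j, hj⟩ := hDp ⟨_, h4⟩
  have hj' : ⁅x, k⁆ ^ (p ^ (m + j)) = 1 := by
    have := congrArg Subtype.val hj
    rw [pow_add, pow_mul]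
    simpa using this
  have hZp : IsPGroup p ↥(Subgroup.zpowers ⁅x, k⁆) := by
    rintro ⟨z, hz⟩
    obtain ⟨i, rfl⟩ := Subgroup.mem_zpowers_iff.mp hz
    refine ⟨m + j, ?_⟩
    apply Subtype.ext
    show (⁅x, k⁆ ^ i) ^ (p ^ (m + j)) = 1
    rw [← zpow_natCast, ← zpow_mul, mul_comm, zpow_mul, zpow_natCast, hj', one_zpow]
  have hCp : IsPGroup p ↥(Subgroup.zpowers ⁅x, k⁆ ⊔ D) := IsPGroup.to_sup_of_normal_right hZp hDp
  have hCV : Subgroup.zpowers ⁅x, k⁆ ⊔ D ≤ V := sup_le (Subgroup.zpowers_le.mpr hc) hDV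
  have hVC : V ≤ Subgroup.normalizer ((Subgroup.zpowers ⁅x, k⁆ ⊔ D : Subgroup H) : Set H) := by
    apply Cfsg.Agent.Lib.Helper47.le_normalizer_of_conj_mem
    intro v hv n hn
    have h5 : (Subgroup.zpowers ⁅x, k⁆ ⊔ D).map (MulAut.conj v).toMonoidHom ≤
        Subgroup.zpowers ⁅x, k⁆ ⊔ D := by
      rw [Subgroup.map_sup]
      apply sup_le
      · rintro _ ⟨z, hz, rfl⟩
        obtain ⟨i, rfl⟩ := Subgroup.mem_zpowers_iff.mp hz
        rw [map_zpow]
        apply Subgroup.zpow_mem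
        have e : (MulAut.conj v).toMonoidHom ⁅x, k⁆ = ⁅v, ⁅x, k⁆⁆ * ⁅x, k⁆ := by
          simp only [MulEquiv.coe_toMonoidHom, MulAut.conj_apply]
          rw [commutatorElement_def v]; group
        rw [e]
        exact Subgroup.mul_mem _ ((le_sup_right : D ≤ Subgroup.zpowers ⁅x, k⁆ ⊔ D) (hcent v hv))
          ((le_sup_left : Subgroup.zpowers ⁅x, k⁆ ≤ Subgroup.zpowers ⁅x, k⁆ ⊔ D)
            (Subgroup.mem_zpowers _))
      · have hDv : D.map (MulAut.conj v).toMonoidHom = D := by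
          apply map_conj_eq_of_mem_normalizer
          rw [Subgroup.normalizer_eq_top]; trivial
        rw [hDv]; exact le_sup_right
    exact h5 ⟨n, hn, rfl⟩
  have h6 := hDmax _ hCp hCV hVC
  exact h6 ((le_sup_left : Subgroup.zpowers ⁅x, k⁆ ≤ Subgroup.zpowers ⁅x, k⁆ ⊔ D)
    (Subgroup.mem_zpowers _))

end Spi

end Cfsg.Agent.Lib.Helper48
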