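import Mathlib
import Cfsg.Agent.Lib.Helper48.TransFamSpi
import Cfsg.Agent.Lib.Helper22.PComp

/-!
# A transitive family of strongly `p`-irreducible subgroups: the ambient group is `p`-irreducible
-/

set_option autoImplicit false

namespace Cfsg.Agent.Lib.Helper48

open Cfsg.Agent.Lib.Helper47
open scoped commutatorElement Pointwise

theorem tf_sylow_decomp {H : Type*} [Group H] [Finite H] {p : ℕ} [Fact p.Prime]
    (E : Subgroup H) (T' : Sylow p ↥E) :
    E = (Cfsg.pResidual p ↥E).map E.subtype ⊔ (T' : Subgroup ↥E).map E.subtype := by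
  have h1 := Cfsg.Agent.Lib.Helper48.pResidual_sup_sylow T'
  have h2 := congrArg (Subgroup.map E.subtype) h1
  rw [Subgroup.map_sup, ← MonoidHom.range_eq_map, Subgroup.range_subtype] at h2
  exact h2.symm

theorem tf_sSup_commutator_le {H : Type*} [Group H] {𝒦 : Set (Subgroup H)} {B D : Subgroup H}
    [hD : D.Normal] (h : ∀ E ∈ 𝒦, ⁅E, B⁆ ≤ D) : ⁅sSup 𝒦, B⁆ ≤ D := by
  have h1 : sSup 𝒦 ≤ quotStab D B := by
    apply sSup_le
    intro E hE u hu
    rw [mem_quotStab]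
    refine ⟨by rw [Subgroup.normalizer_eq_top]; trivial, fun k hk => ?_⟩
    have h2 := h E hE (Subgroup.commutator_mem_commutator hu hk)
    rwa [commutatorElement_def] at h2
  rw [Subgroup.commutator_le]
  intro r hr b hb
  rw [commutatorElement_def]
  exact (mem_quotStab.mp (h1 hr)).2 b hb

theorem tf_spi {H : Type*} [Group H] [Finite H] {p : ℕ} [Fact p.Prime]
    (𝒦 : Set (Subgroup H)) (hne : 𝒦.Nonempty)
    (hinv : ∀ h : H, ∀ E ∈ 𝒦, E.map (MulAut.conj h).toMonoidHom ∈ 𝒦)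
    (htr : ∀ E ∈ 𝒦, ∀ K ∈ 𝒦, ∃ h : H, K = E.map (MulAut.conj h).toMonoidHom)
    (hres : Cfsg.pResidual p H ≤ sSup 𝒦)
    (hnorm : ∀ E ∈ 𝒦, sSup 𝒦 ⊔ Cfsg.pCore p H ≤
      Subgroup.normalizer ((E ⊔ Cfsg.pCore p H : Subgroup H) : Set H))
    (hspi : ∀ E ∈ 𝒦, Cfsg.IsStronglyPIrreducible p ↥E) :
    Cfsg.IsPIrreducible p H ∧ ∀ E ∈ 𝒦, ∀ K ∈ 𝒦,
      (Cfsg.pResidual p ↥(E ⊔ Cfsg.pCore p H)).map (E ⊔ Cfsg.pCore p H).subtype =
        (Cfsg.pResidual p ↥(K ⊔ Cfsg.pCore p H)).map (K ⊔ Cfsg.pCore p H).subtype ∨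
      ⁅E, K⁆ ≤ Cfsg.pCore p H := by
  classical
  haveI hDn : (Cfsg.pCore p H).Normal := pCore_normal' p H
  have hDp : IsPGroup p (Cfsg.pCore p H) := pCore_isPGroup' p H
  haveI hRn : (sSup 𝒦).Normal := tf_normal 𝒦 hinv
  have hEle : ∀ E ∈ 𝒦, E ≤ sSup 𝒦 := fun E hE => le_sSup hE
  have hRDn : (sSup 𝒦 ⊔ Cfsg.pCore p H).Normal := inferInstance
  have hRsn : (sSup 𝒦 ⊔ Cfsg.pCore p H).IsSubnormal := hRDn.isSubnormal
  have hEsn : ∀ E ∈ 𝒦, (E ⊔ Cfsg.pCore p H).IsSubnormal := by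
    intro E hE
    have hle : E ⊔ Cfsg.pCore p H ≤ sSup 𝒦 ⊔ Cfsg.pCore p H := sup_le_sup_right (hEle E hE) _
    exact Subgroup.IsSubnormal.step _ _ hle hRsn
      ((Subgroup.normal_subgroupOf_iff_le_normalizer hle).mpr (hnorm E hE))
  have hmax : ∀ V : Subgroup H, V.IsSubnormal → ∀ C : Subgroup H, IsPGroup p C → C ≤ V →
      V ≤ Subgroup.normalizer (C : Set H) → C ≤ Cfsg.pCore p H := by
    intro V hV C hC hCV hVC
    exact le_pCore_of_isSubnormal_of_isPGroup (Subgroup.IsSubnormal.step _ _ hCV hV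
      ((Subgroup.normal_subgroupOf_iff_le_normalizer hCV).mpr hVC)) hC
  have hRD_norm : ∀ E ∈ 𝒦, ∀ K ∈ 𝒦, E ⊔ Cfsg.pCore p H ≤
      Subgroup.normalizer ((K ⊔ Cfsg.pCore p H : Subgroup H) : Set H) :=
    fun E hE K hK => (sup_le_sup_right (hEle E hE) _).trans (hnorm K hK)
  have hDtop : ∀ A : Subgroup H,
      A ≤ Subgroup.normalizer ((Cfsg.pCore p H : Subgroup H) : Set H) := by
    intro A; rw [Subgroup.normalizer_eq_top]; exact le_top
  have hOpE : ∀ E ∈ 𝒦, Cfsg.pCoreOf p E ≤ Cfsg.pCore p H := by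
    intro E hE
    have hC : IsPGroup p ↥(Cfsg.pCoreOf p E ⊔ Cfsg.pCore p H) :=
      IsPGroup.to_sup_of_normal_right (pCoreOf_isPGroup p E) hDp
    have h1 := hmax _ (hEsn E hE) _ hC (sup_le_sup_right (pCoreOf_le p E) _)
      (sup_le (qss_le_normalizer_sup (le_normalizer_pCoreOf p E) (hDtop E))
        (le_sup_right.trans Subgroup.le_normalizer))
    exact le_sup_left.trans h1
  have hdich : ∀ E ∈ 𝒦, ∀ N : Subgroup H, N ≤ E → E ≤ Subgroup.normalizer (N : Set H) →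
      ⁅N, E⁆ ≤ Cfsg.pCore p H ∨ (Cfsg.pResidual p ↥E).map E.subtype ≤ N := by
    intro E hE N hNE hEN
    have hNn : (N.subgroupOf E).Normal :=
      (Subgroup.normal_subgroupOf_iff_le_normalizer hNE).mpr hEN
    by_cases hc : ⁅N.subgroupOf E, (⊤ : Subgroup ↥E)⁆ ≤ Cfsg.pCore p ↥E
    · left
      rw [Subgroup.commutator_le]
      intro n hn e he
      have h1 : ⁅(⟨n, hNE hn⟩ : ↥E), (⟨e, he⟩ : ↥E)⁆ ∈ Cfsg.pCore p ↥E :=
        hc (Subgroup.commutator_mem_commutator (Subgroup.mem_subgroupOf.mpr hn) trivial)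
      have h2 : ((⁅(⟨n, hNE hn⟩ : ↥E), (⟨e, he⟩ : ↥E)⁆ : ↥E) : H) ∈ Cfsg.pCoreOf p E :=
        ⟨_, h1, rfl⟩
      have h3 := hOpE E hE h2
      simpa [commutatorElement_def] using h3
    · right
      have h1 := (hspi E hE).2 _ hNn hc
      have h2 := Subgroup.map_mono (f := E.subtype) h1
      rw [Subgroup.subgroupOf_map_subtype] at h2
      exact h2.trans inf_le_left
  -- H is not p-closed
  have ha1 : ¬ Cfsg.IsPClosed p H := by
    intro hcl
    obtain ⟨E, hE⟩ := hne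
    apply (hspi E hE).1
    have T : Sylow p H := default
    haveI hTn : (T : Subgroup H).Normal := hcl T
    have T' : Sylow p ↥E := default
    apply isPClosed_of_normal_sylow T'
    have hT'T : (T' : Subgroup ↥E) ≤ (T : Subgroup H).subgroupOf E := by
      obtain ⟨g, hg⟩ := exists_conj_le_sylow (T'.isPGroup'.map E.subtype) T
      intro x hx
      rw [Subgroup.mem_subgroupOf]
      have h1 : g * (x : H) * g⁻¹ ∈ (T : Subgroup H) := hg ⟨x, ⟨x, hx, rfl⟩, rfl⟩
      have h2 := hTn.conj_mem _ h1 g⁻¹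
      have e : g⁻¹ * (g * (x : H) * g⁻¹) * g⁻¹⁻¹ = x := by group
      rwa [e] at h2
    have hp1 : IsPGroup p ((T : Subgroup H).subgroupOf E) :=
      T.isPGroup'.comap_of_injective E.subtype E.subtype_injective
    have h3 := T'.is_maximal' hp1 hT'T
    rw [← h3]
    infer_instance
  -- the first alternative
  have hcase1 : ∀ E ∈ 𝒦, ∀ K ∈ 𝒦, (Cfsg.pResidual p ↥E).map E.subtype ≤ K ⊔ Cfsg.pCore p H →
      (Cfsg.pResidual p ↥(E ⊔ Cfsg.pCore p H)).map (E ⊔ Cfsg.pCore p H).subtype =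
        (Cfsg.pResidual p ↥(K ⊔ Cfsg.pCore p H)).map (K ⊔ Cfsg.pCore p H).subtype := by
    intro E hE K hK h
    have hle : (Cfsg.pResidual p ↥(E ⊔ Cfsg.pCore p H)).map (E ⊔ Cfsg.pCore p H).subtype ≤
        (Cfsg.pResidual p ↥(K ⊔ Cfsg.pCore p H)).map (K ⊔ Cfsg.pCore p H).subtype := by
      rw [pResidual_map_subtype_eq, pResidual_map_subtype_eq]
      apply Subgroup.closure_mono
      rintro x ⟨hxE, hxc⟩
      refine ⟨?_, hxc⟩
      have T' : Sylow p ↥E := default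
      have hTGp : IsPGroup p ↥((T' : Subgroup ↥E).map E.subtype ⊔ Cfsg.pCore p H) :=
        IsPGroup.to_sup_of_normal_right (T'.isPGroup'.map _) hDp
      have hEdec := tf_sylow_decomp E T'
      have hTGE : (T' : Subgroup ↥E).map E.subtype ≤ E := by rintro _ ⟨y, -, rfl⟩; exact y.2
      have hOE : (Cfsg.pResidual p ↥E).map E.subtype ≤ E := pResidual_map_subtype_le p E
      have hQN : (T' : Subgroup ↥E).map E.subtype ⊔ Cfsg.pCore p H ≤
          Subgroup.normalizer (((E ⊔ Cfsg.pCore p H) ⊓ (K ⊔ Cfsg.pCore p H) : Subgroup H) : Set H) :=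
        (sup_le_sup_right hTGE _).trans
          (qss_le_normalizer_inf Subgroup.le_normalizer (hRD_norm E hE K hK))
      have h3 : E ⊔ Cfsg.pCore p H ≤ ((T' : Subgroup ↥E).map E.subtype ⊔ Cfsg.pCore p H) ⊔
          ((E ⊔ Cfsg.pCore p H) ⊓ (K ⊔ Cfsg.pCore p H)) := by
        apply sup_le
        · conv_lhs => rw [hEdec]
          apply sup_le
          · exact (le_inf (hOE.trans le_sup_left) h).trans le_sup_right
          · exact le_sup_left.trans le_sup_left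
        · exact le_sup_right.trans le_sup_left
      exact (mem_of_mem_sup_of_coprime_of_le_normalizer hQN hTGp (h3 hxE) hxc).2
    obtain ⟨g, rfl⟩ := htr E hE K hK
    apply Subgroup.eq_of_le_of_card_ge hle
    have e1 : E.map (MulAut.conj g).toMonoidHom ⊔ Cfsg.pCore p H =
        (E ⊔ Cfsg.pCore p H).map (MulAut.conj g).toMonoidHom := (tf_sup_map_conj p E g).symm
    rw [e1, tf_pResidual_map_conj, Subgroup.card_map_of_injective (MulAut.conj g).injective]
  -- the dichotomy for two members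
  have h2b : ∀ E ∈ 𝒦, ∀ K ∈ 𝒦,
      (Cfsg.pResidual p ↥(E ⊔ Cfsg.pCore p H)).map (E ⊔ Cfsg.pCore p H).subtype =
        (Cfsg.pResidual p ↥(K ⊔ Cfsg.pCore p H)).map (K ⊔ Cfsg.pCore p H).subtype ∨
      ⁅E, K⁆ ≤ Cfsg.pCore p H := by
    intro E hE K hK
    have hEK : E ≤ Subgroup.normalizer ((K ⊔ Cfsg.pCore p H : Subgroup H) : Set H) :=
      le_sup_left.trans (hRD_norm E hE K hK)
    have hKE : K ≤ Subgroup.normalizer ((E ⊔ Cfsg.pCore p H : Subgroup H) : Set H) :=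
      le_sup_left.trans (hRD_norm K hK E hE)
    rcases hdich E hE (E ⊓ (K ⊔ Cfsg.pCore p H)) inf_le_left
      (qss_le_normalizer_inf Subgroup.le_normalizer hEK) with h1 | h1
    swap
    · left; exact hcase1 E hE K hK (h1.trans inf_le_right)
    rcases hdich K hK (K ⊓ (E ⊔ Cfsg.pCore p H)) inf_le_left
      (qss_le_normalizer_inf Subgroup.le_normalizer hKE) with h2 | h2
    swap
    · left; exact (hcase1 K hK E hE (h2.trans inf_le_right)).symm
    right
    apply tf_spi_commutator_le (hspi E hE)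
    intro x hx m hxm k hk
    have hxV : x ∈ E ⊔ Cfsg.pCore p H := (le_sup_left : E ≤ E ⊔ Cfsg.pCore p H) hx
    have hkV : k ∈ K ⊔ Cfsg.pCore p H := (le_sup_left : K ≤ K ⊔ Cfsg.pCore p H) hk
    have hc1 : ⁅x, k⁆ ∈ E ⊔ Cfsg.pCore p H := by
      have e : ⁅x, k⁆ = x * (k * x⁻¹ * k⁻¹) := by rw [commutatorElement_def]; group
      rw [e]
      exact Subgroup.mul_mem _ hxV
        ((Subgroup.mem_normalizer_iff.mp (hKE hk) _).mp (Subgroup.inv_mem _ hxV))
    have hc2 : ⁅x, k⁆ ∈ K ⊔ Cfsg.pCore p H := by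
      rw [commutatorElement_def]
      exact Subgroup.mul_mem _ ((Subgroup.mem_normalizer_iff.mp (hEK hx) _).mp hkV)
        (Subgroup.inv_mem _ hkV)
    apply tf_pelement_commutator hDp (hmax _ (hEsn E hE)) le_sup_right hxV hxm hc1
    intro v hv
    have hc3 : ⁅x, k⁆ ∈ (E ⊓ (K ⊔ Cfsg.pCore p H)) ⊔ Cfsg.pCore p H := by
      have h3 : (E ⊔ Cfsg.pCore p H) ⊓ (K ⊔ Cfsg.pCore p H) ≤
          ((E ⊔ Cfsg.pCore p H) ⊓ (K ⊔ Cfsg.pCore p H) ⊓ E) ⊔ Cfsg.pCore p H :=
        tf_dedekind (le_inf le_sup_right le_sup_right) inf_le_left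
      have h4 := h3 ⟨hc1, hc2⟩
      have h6 : (E ⊔ Cfsg.pCore p H) ⊓ (K ⊔ Cfsg.pCore p H) ⊓ E ≤ E ⊓ (K ⊔ Cfsg.pCore p H) :=
        le_inf inf_le_right (inf_le_left.trans inf_le_right)
      exact (sup_le_sup_right h6 (Cfsg.pCore p H)) h4
    have h5 : ⁅E ⊔ Cfsg.pCore p H, (E ⊓ (K ⊔ Cfsg.pCore p H)) ⊔ Cfsg.pCore p H⁆ ≤
        Cfsg.pCore p H := tf_comm_sup (by rw [Subgroup.commutator_comm]; exact h1)
    exact h5 (Subgroup.commutator_mem_commutator hv hc3)
  -- p-irreducibility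
  have ha2 : ∀ N : Subgroup H, N.Normal → ¬ Cfsg.IsPClosed p ↥N → Cfsg.pResidual p H ≤ N := by
    intro N hNn hNcl
    haveI := hNn
    have hNDn : (N ⊔ Cfsg.pCore p H).Normal := inferInstance
    by_cases hA : ∃ E ∈ 𝒦, (Cfsg.pResidual p ↥E).map E.subtype ≤ N ⊔ Cfsg.pCore p H
    · obtain ⟨E, hE, hEN⟩ := hA
      have hDker : (Cfsg.pCore p H).map (QuotientGroup.mk' (N ⊔ Cfsg.pCore p H)) = ⊥ := by
        rw [Subgroup.map_eq_bot_iff, QuotientGroup.ker_mk']; exact le_sup_right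
      have hEp : IsPGroup p ↥(E.map (QuotientGroup.mk' (N ⊔ Cfsg.pCore p H))) := by
        have T' : Sylow p ↥E := default
        have hEdec := tf_sylow_decomp E T'
        have h1 : ((Cfsg.pResidual p ↥E).map E.subtype).map
            (QuotientGroup.mk' (N ⊔ Cfsg.pCore p H)) = ⊥ := by
          rw [Subgroup.map_eq_bot_iff, QuotientGroup.ker_mk']; exact hEN
        have h2 : E.map (QuotientGroup.mk' (N ⊔ Cfsg.pCore p H)) =
            ((T' : Subgroup ↥E).map E.subtype).map (QuotientGroup.mk' (N ⊔ Cfsg.pCore p H)) := by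
          conv_lhs => rw [hEdec]
          rw [Subgroup.map_sup, h1, bot_sup_eq]
        rw [h2]
        exact (T'.isPGroup'.map _).map _
      have hKp : ∀ K ∈ 𝒦, IsPGroup p ↥(K.map (QuotientGroup.mk' (N ⊔ Cfsg.pCore p H))) := by
        intro K hK
        obtain ⟨g, rfl⟩ := htr E hE K hK
        rw [Cfsg.Agent.Lib.Helper22.map_conj_map_mk]
        exact hEp.map _
      haveI hXn : ((sSup 𝒦).map (QuotientGroup.mk' (N ⊔ Cfsg.pCore p H))).Normal :=
        hRn.map _ (QuotientGroup.mk'_surjective _)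
      have hKX : ∀ K ∈ 𝒦, K.map (QuotientGroup.mk' (N ⊔ Cfsg.pCore p H)) ≤
          Cfsg.pCoreOf p ((sSup 𝒦).map (QuotientGroup.mk' (N ⊔ Cfsg.pCore p H))) := by
        intro K hK
        apply le_pCoreOf_of_le_normalizer (hKp K hK) (Subgroup.map_mono (hEle K hK))
        have h1 : K.map (QuotientGroup.mk' (N ⊔ Cfsg.pCore p H)) =
            (K ⊔ Cfsg.pCore p H).map (QuotientGroup.mk' (N ⊔ Cfsg.pCore p H)) := by
          rw [Subgroup.map_sup, hDker, sup_bot_eq]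
        rw [h1]
        exact (Subgroup.map_mono (le_sup_left.trans (hnorm K hK))).trans
          (Subgroup.le_normalizer_map _)
      have hXp : IsPGroup p ↥((sSup 𝒦).map (QuotientGroup.mk' (N ⊔ Cfsg.pCore p H))) := by
        apply (pCoreOf_isPGroup p _).to_le
        rw [Subgroup.map_le_iff_le_comap]
        apply sSup_le
        intro K hK
        rw [← Subgroup.map_le_iff_le_comap]
        exact hKX K hK
      have T : Sylow p H := default
      have htop : IsPGroup p (H ⧸ (N ⊔ Cfsg.pCore p H)) := by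
        have hsup : IsPGroup p ↥((T : Subgroup H).map (QuotientGroup.mk' (N ⊔ Cfsg.pCore p H)) ⊔
            (sSup 𝒦).map (QuotientGroup.mk' (N ⊔ Cfsg.pCore p H))) :=
          IsPGroup.to_sup_of_normal_right (T.isPGroup'.map _) hXp
        have heq : (T : Subgroup H).map (QuotientGroup.mk' (N ⊔ Cfsg.pCore p H)) ⊔
            (sSup 𝒦).map (QuotientGroup.mk' (N ⊔ Cfsg.pCore p H)) = ⊤ := by
          rw [← Subgroup.map_sup, ← Subgroup.map_top_of_surjective _
            (QuotientGroup.mk'_surjective (N ⊔ Cfsg.pCore p H))]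
          congr 1
          rw [eq_top_iff, ← Cfsg.Agent.Lib.Helper48.pResidual_sup_sylow T]
          exact sup_le (hres.trans le_sup_right) le_sup_left
        intro g
        have hg : g ∈ (T : Subgroup H).map (QuotientGroup.mk' (N ⊔ Cfsg.pCore p H)) ⊔
            (sSup 𝒦).map (QuotientGroup.mk' (N ⊔ Cfsg.pCore p H)) := by rw [heq]; trivial
        obtain ⟨k, hk⟩ := hsup ⟨g, hg⟩
        exact ⟨k, by simpa using congrArg Subtype.val hk⟩
      have h1 : Cfsg.pResidual p H ≤ N ⊔ Cfsg.pCore p H :=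
        pResidual_le_of_isPGroup_quotient _ htop
      apply pResidual_le_of_le_sup hDp
      rwa [sup_comm] at h1
    · exfalso
      apply hNcl
      push_neg at hA
      have hB0 : ∀ E ∈ 𝒦, ⁅(N ⊔ Cfsg.pCore p H) ⊓ E, E⁆ ≤ Cfsg.pCore p H := by
        intro E hE
        rcases hdich E hE ((N ⊔ Cfsg.pCore p H) ⊓ E) inf_le_right
          (qss_le_normalizer_inf (by rw [Subgroup.normalizer_eq_top]; exact le_top)
            Subgroup.le_normalizer) with h | h
        · exact h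
        · exact absurd (h.trans inf_le_left) (hA E hE)
      have hS1 : ∀ E ∈ 𝒦, ⁅E, (N ⊔ Cfsg.pCore p H) ⊓ (sSup 𝒦 ⊔ Cfsg.pCore p H)⁆ ≤
          Cfsg.pCore p H := by
        intro E hE
        apply tf_spi_commutator_le (hspi E hE)
        intro x hx m hxm k hk
        have hxV : x ∈ E ⊔ Cfsg.pCore p H := (le_sup_left : E ≤ E ⊔ Cfsg.pCore p H) hx
        have hc1 : ⁅x, k⁆ ∈ E ⊔ Cfsg.pCore p H := by
          have e : ⁅x, k⁆ = x * (k * x⁻¹ * k⁻¹) := by rw [commutatorElement_def]; group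
          rw [e]
          exact Subgroup.mul_mem _ hxV
            ((Subgroup.mem_normalizer_iff.mp (hnorm E hE hk.2) _).mp (Subgroup.inv_mem _ hxV))
        have hc2 : ⁅x, k⁆ ∈ N ⊔ Cfsg.pCore p H := by
          rw [commutatorElement_def]
          exact Subgroup.mul_mem _ (hNDn.conj_mem _ hk.1 x) (Subgroup.inv_mem _ hk.1)
        apply tf_pelement_commutator hDp (hmax _ (hEsn E hE)) le_sup_right hxV hxm hc1
        intro v hv
        have hc3 : ⁅x, k⁆ ∈ ((N ⊔ Cfsg.pCore p H) ⊓ E) ⊔ Cfsg.pCore p H := by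
          have h3 : (N ⊔ Cfsg.pCore p H) ⊓ (E ⊔ Cfsg.pCore p H) ≤
              ((N ⊔ Cfsg.pCore p H) ⊓ (E ⊔ Cfsg.pCore p H) ⊓ E) ⊔ Cfsg.pCore p H :=
            tf_dedekind (le_inf le_sup_right le_sup_right) inf_le_right
          have h4 := h3 ⟨hc2, hc1⟩
          have h6 : (N ⊔ Cfsg.pCore p H) ⊓ (E ⊔ Cfsg.pCore p H) ⊓ E ≤
              (N ⊔ Cfsg.pCore p H) ⊓ E :=
            le_inf (inf_le_left.trans inf_le_left) inf_le_right
          exact (sup_le_sup_right h6 (Cfsg.pCore p H)) h4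
        have h5 : ⁅E ⊔ Cfsg.pCore p H, ((N ⊔ Cfsg.pCore p H) ⊓ E) ⊔ Cfsg.pCore p H⁆ ≤
            Cfsg.pCore p H := tf_comm_sup (by rw [Subgroup.commutator_comm]; exact hB0 E hE)
        exact h5 (Subgroup.commutator_mem_commutator hv hc3)
      have hS1' : ⁅sSup 𝒦, (N ⊔ Cfsg.pCore p H) ⊓ (sSup 𝒦 ⊔ Cfsg.pCore p H)⁆ ≤ Cfsg.pCore p H :=
        tf_sSup_commutator_le hS1
      have hS2 : ∀ E ∈ 𝒦, ⁅E, N ⊔ Cfsg.pCore p H⁆ ≤ Cfsg.pCore p H := by
        intro E hE
        apply tf_spi_commutator_le (hspi E hE)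
        intro x hx m hxm k hk
        have hxV : x ∈ sSup 𝒦 ⊔ Cfsg.pCore p H :=
          (le_sup_left : sSup 𝒦 ≤ sSup 𝒦 ⊔ Cfsg.pCore p H) (hEle E hE hx)
        have hc1 : ⁅x, k⁆ ∈ sSup 𝒦 ⊔ Cfsg.pCore p H := by
          have e : ⁅x, k⁆ = x * (k * x⁻¹ * k⁻¹) := by rw [commutatorElement_def]; group
          rw [e]
          exact Subgroup.mul_mem _ hxV (hRDn.conj_mem _ (Subgroup.inv_mem _ hxV) k)
        have hc2 : ⁅x, k⁆ ∈ N ⊔ Cfsg.pCore p H := by
          rw [commutatorElement_def]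
          exact Subgroup.mul_mem _ (hNDn.conj_mem _ hk x) (Subgroup.inv_mem _ hk)
        apply tf_pelement_commutator hDp (hmax _ hRsn) le_sup_right hxV hxm hc1
        intro v hv
        have h5 : ⁅sSup 𝒦 ⊔ Cfsg.pCore p H,
            ((N ⊔ Cfsg.pCore p H) ⊓ (sSup 𝒦 ⊔ Cfsg.pCore p H)) ⊔ Cfsg.pCore p H⁆ ≤
            Cfsg.pCore p H := tf_comm_sup hS1'
        exact h5 (Subgroup.commutator_mem_commutator hv
          ((le_sup_left : (N ⊔ Cfsg.pCore p H) ⊓ (sSup 𝒦 ⊔ Cfsg.pCore p H) ≤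
            ((N ⊔ Cfsg.pCore p H) ⊓ (sSup 𝒦 ⊔ Cfsg.pCore p H)) ⊔ Cfsg.pCore p H) ⟨hc2, hc1⟩))
      have hS2' : ⁅sSup 𝒦, N ⊔ Cfsg.pCore p H⁆ ≤ Cfsg.pCore p H := tf_sSup_commutator_le hS2
      have T : Sylow p H := default
      obtain ⟨Q, hQ⟩ := exists_sylow_inf_normal T N
      apply isPClosed_of_normal_sylow Q
      rw [hQ]
      apply (Subgroup.normal_subgroupOf_iff_le_normalizer inf_le_right).mpr
      have hNdec : N = (Cfsg.pResidual p ↥N).map N.subtype ⊔ ((T : Subgroup H) ⊓ N) := by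
        have h1 := tf_sylow_decomp N Q
        rw [hQ, Subgroup.subgroupOf_map_subtype, inf_assoc, inf_idem] at h1
        exact h1
      have hON : (Cfsg.pResidual p ↥N).map N.subtype ≤ N := pResidual_map_subtype_le p N
      have hOR : (Cfsg.pResidual p ↥N).map N.subtype ≤ sSup 𝒦 := by
        rw [pResidual_map_subtype_eq, Subgroup.closure_le]
        intro x hx
        exact hres (mem_pResidual_of_coprime hx.2)
      have h3 : (Cfsg.pResidual p ↥N).map N.subtype ≤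
          Subgroup.normalizer (((T : Subgroup H) ⊓ N : Subgroup H) : Set H) := by
        apply Cfsg.Agent.Lib.Helper47.le_normalizer_of_conj_mem
        intro y hy t ht
        have hcm : ⁅y, t⁆ ∈ Cfsg.pCore p H := hS2' (Subgroup.commutator_mem_commutator (hOR hy)
          ((le_sup_left : N ≤ N ⊔ Cfsg.pCore p H) ht.2))
        have hcN : ⁅y, t⁆ ∈ N := by
          rw [commutatorElement_def]
          exact N.mul_mem (N.mul_mem (N.mul_mem (hON hy) ht.2) (N.inv_mem (hON hy)))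
            (N.inv_mem ht.2)
        have e : y * t * y⁻¹ = ⁅y, t⁆ * t := by rw [commutatorElement_def]; group
        rw [e]
        exact Subgroup.mul_mem _ ⟨pCore_le_sylow T hcm, hcN⟩ ht
      conv_lhs => rw [hNdec]
      exact sup_le h3 Subgroup.le_normalizer
  exact ⟨⟨ha1, ha2⟩, h2b⟩

end Cfsg.Agent.Lib.Helper48
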