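import Mathlib
import Cfsg.Agent.Lib.Helper47.PIrr
import Cfsg.Agent.Lib.Helper47.QuotIrr
import Cfsg.Agent.Lib.Helper47.Quot
import Cfsg.Agent.Lib.Helper47.Minimal
import Cfsg.Agent.Lib.Helper48.Generation

set_option autoImplicit false

namespace Cfsg.Agent.Lib.Helper48

open Cfsg.Agent.Lib.Helper47
open scoped Pointwise

/-- A `p`-group `U` normalizing `R` normalizes some Sylow `p`-subgroup of `R`. -/
theorem exists_invariant_sylow_self {G : Type*} [Group G] [Finite G] {p : ℕ} [Fact p.Prime]
    (R U : Subgroup G) (hU : IsPGroup p U) (hUR : U ≤ Subgroup.normalizer (R : Set G)) :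
    ∃ P : Sylow p R,
      U ≤ Subgroup.normalizer (((P : Subgroup R).map R.subtype : Subgroup G) : Set G) := by
  let f : U →* MulAut R := (normConj R).comp (Subgroup.inclusion hUR)
  letI : MulAction U (Sylow p R) := MulAction.compHom (Sylow p R) f
  have hcard : ¬ p ∣ Nat.card (Sylow p R) := not_dvd_card_sylow p ↥R
  obtain ⟨Q', hQ'⟩ := hU.nonempty_fixed_point_of_prime_not_dvd_card (Sylow p R) hcard
  refine ⟨Q', ?_⟩
  rw [Subgroup.le_normalizer_iff]
  rintro u hu _ ⟨y, hy, rfl⟩
  have h1 : (f ⟨u, hu⟩) • Q' = Q' := hQ' ⟨u, hu⟩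
  have h2 : (f ⟨u, hu⟩) • y ∈ (f ⟨u, hu⟩) • (Q' : Subgroup R) :=
    Subgroup.smul_mem_pointwise_smul y _ _ hy
  rw [← Sylow.pointwise_smul_def, h1] at h2
  exact ⟨_, h2, rfl⟩

/-- If `D X = G` with `D` normal and `X` contains a Sylow `p`-subgroup of `D`, then the index
of `X` is prime to `p`. -/
theorem not_dvd_index_of_sup_eq_top {G : Type*} [Group G] [Finite G] {p : ℕ} [Fact p.Prime]
    (D X : Subgroup G) [D.Normal] (h : D ⊔ X = ⊤) (P : Sylow p ↥D)
    (hPX : (P : Subgroup D).map D.subtype ≤ X) : ¬ p ∣ X.index := by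
  have e1 : D.relIndex X = D.index := by
    rw [← Subgroup.relIndex_sup_left (K := D) (H := X), h, Subgroup.relIndex_top_right]
  have c1 : Nat.card ↥D * D.index = Nat.card G := Subgroup.card_mul_index D
  have c2 : Nat.card ↥X * X.index = Nat.card G := Subgroup.card_mul_index X
  have c3 : Nat.card ↥(D.subgroupOf X) * D.index = Nat.card ↥X := by
    rw [← e1]; exact Subgroup.card_mul_index (D.subgroupOf X)
  have c4 : Nat.card ↥(D.subgroupOf X) = Nat.card ↥(D ⊓ X) := by
    rw [← Subgroup.inf_subgroupOf_right]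
    exact Nat.card_congr (Subgroup.subgroupOfEquivOfLe inf_le_right).toEquiv
  have hPD : (P : Subgroup D).map D.subtype ≤ D := by rintro _ ⟨x, -, rfl⟩; exact x.2
  have c5 : Nat.card ↥((P : Subgroup D).map D.subtype) ∣ Nat.card ↥(D ⊓ X) :=
    Subgroup.card_dvd_of_le (le_inf hPD hPX)
  have c6 : Nat.card ↥((P : Subgroup D).map D.subtype) = Nat.card ↥(P : Subgroup D) :=
    Subgroup.card_map_of_injective D.subtype_injective
  have c7 : Nat.card ↥(P : Subgroup D) * (P : Subgroup D).index = Nat.card ↥D :=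
    Subgroup.card_mul_index _
  have hidx : ¬ p ∣ (P : Subgroup D).index := P.not_dvd_index
  intro hdvd
  apply hidx
  obtain ⟨k, hk⟩ := c5
  rw [c6] at hk
  have hDpos : 0 < D.index := Nat.pos_of_ne_zero Subgroup.index_ne_zero_of_finite
  have hPpos : 0 < Nat.card ↥(P : Subgroup D) := Nat.card_pos
  have e2 : Nat.card ↥D = Nat.card ↥(D ⊓ X) * X.index := by
    have : Nat.card ↥D * D.index = (Nat.card ↥(D ⊓ X) * X.index) * D.index := by
      rw [c1, ← c2, ← c3, c4]; ring
    exact Nat.eq_of_mul_eq_mul_right hDpos this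
  have e3 : (P : Subgroup D).index = k * X.index := by
    have : Nat.card ↥(P : Subgroup D) * (P : Subgroup D).index =
        Nat.card ↥(P : Subgroup D) * (k * X.index) := by
      rw [c7, e2, hk]; ring
    exact Nat.eq_of_mul_eq_mul_left hPpos this
  rw [e3]
  exact Dvd.dvd.mul_left hdvd k

/-- A `p`-subgroup is conjugate into any subgroup of index prime to `p`. -/
theorem exists_conj_mem_of_not_dvd_index {G : Type*} [Group G] [Finite G] {p : ℕ} [Fact p.Prime]
    (Y X : Subgroup G) (hY : IsPGroup p Y) (hX : ¬ p ∣ X.index) :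
    ∃ g : G, ∀ y ∈ Y, g⁻¹ * y * g ∈ X := by
  have hcard : ¬ p ∣ Nat.card (G ⧸ X) := hX
  obtain ⟨a, ha⟩ := hY.nonempty_fixed_point_of_prime_not_dvd_card (G ⧸ X) hcard
  obtain ⟨g, rfl⟩ := QuotientGroup.mk_surjective a
  refine ⟨g, fun y hy => ?_⟩
  have h1 : (⟨y, hy⟩ : ↥Y) • (g : G ⧸ X) = (g : G ⧸ X) := ha ⟨y, hy⟩
  have h2 : ((y * g : G) : G ⧸ X) = (g : G ⧸ X) := h1
  rw [QuotientGroup.eq] at h2
  have h3 := X.inv_mem h2
  simpa [mul_assoc] using h3

/-- Structure of a normal subgroup `N` without proper supplements containing the `p`-group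
`Y`: `N` has a Sylow `p`-subgroup normal in `L`, and `N / O_p(N)` is nilpotent of order
prime to `p`. -/
theorem normal_structure_of_supp {L : Type*} [Group L] [Finite L] {p : ℕ} [Fact p.Prime]
    (Y N : Subgroup L) [hN : N.Normal] (hYp : IsPGroup p Y)
    (hA : ∀ X : Subgroup L, Y ≤ X → X ⊔ N = ⊤ → X = ⊤) :
    ∃ P : Sylow p ↥N, ((P : Subgroup N).map N.subtype).Normal ∧ Cfsg.IsPClosed p ↥N ∧
      Group.IsNilpotent (↥N ⧸ Cfsg.pCore p ↥N) ∧ (Nat.card (↥N ⧸ Cfsg.pCore p ↥N)).Coprime p := by
  have hp : p.Prime := Fact.out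
  have hYN : Y ≤ Subgroup.normalizer (N : Set L) := by
    rw [Subgroup.normalizer_eq_top_iff.mpr hN]; exact le_top
  obtain ⟨P, hP⟩ := exists_invariant_sylow_self N Y hYp hYN
  have hfr := Sylow.normalizer_sup_eq_top P
  have hPn : ((P : Subgroup N).map N.subtype).Normal :=
    Subgroup.normalizer_eq_top_iff.mp (hA _ hP hfr)
  have hPnN : (P : Subgroup N).Normal := by
    have := hPn.comap N.subtype
    rwa [Subgroup.comap_map_eq_self_of_injective N.subtype_injective] at this
  have hcl : Cfsg.IsPClosed p ↥N := isPClosed_of_normal_sylow P hPnN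
  have hcore : Cfsg.pCore p ↥N = (P : Subgroup N) :=
    le_antisymm (pCore_le_sylow P) (le_pCore hPnN P.isPGroup')
  have hidx : ¬ p ∣ (P : Subgroup N).index := P.not_dvd_index
  refine ⟨P, hPn, hcl, ?_, ?_⟩
  · haveI := hPn
    have hON : (P : Subgroup N).map N.subtype ≤ N := by rintro _ ⟨x, -, rfl⟩; exact x.2
    haveI hNbn : (N.map (QuotientGroup.mk' ((P : Subgroup N).map N.subtype))).Normal :=
      hN.map _ (QuotientGroup.mk'_surjective _)
    let ψ : ↥N →* ↥(N.map (QuotientGroup.mk' ((P : Subgroup N).map N.subtype))) :=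
      (QuotientGroup.mk' ((P : Subgroup N).map N.subtype)).subgroupMap N
    have hψs : Function.Surjective ψ :=
      (QuotientGroup.mk' ((P : Subgroup N).map N.subtype)).subgroupMap_surjective N
    have hker : ψ.ker = Cfsg.pCore p ↥N := by
      rw [hcore]
      ext x
      rw [MonoidHom.mem_ker]
      constructor
      · intro h
        have h1 : (QuotientGroup.mk' ((P : Subgroup N).map N.subtype)) (x : L) = 1 :=
          congrArg Subtype.val h
        rw [QuotientGroup.mk'_apply, QuotientGroup.eq_one_iff] at h1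
        obtain ⟨y, hy, hyx⟩ := h1
        have : y = x := Subtype.ext hyx
        rw [← this]; exact hy
      · intro h
        apply Subtype.ext
        show (QuotientGroup.mk' ((P : Subgroup N).map N.subtype)) (x : L) = 1
        rw [QuotientGroup.mk'_apply, QuotientGroup.eq_one_iff]
        exact ⟨x, h, rfl⟩
    have hNbcard : ¬ p ∣ Nat.card ↥(N.map (QuotientGroup.mk' ((P : Subgroup N).map N.subtype))) := by
      have h1 : ψ.ker.index =
          Nat.card ↥(N.map (QuotientGroup.mk' ((P : Subgroup N).map N.subtype))) := by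
        rw [Subgroup.index_ker, MonoidHom.range_eq_top.mpr hψs, Subgroup.card_top]
      rw [← h1, hker, hcore]
      exact hidx
    have hYb : IsPGroup p (Y.map (QuotientGroup.mk' ((P : Subgroup N).map N.subtype))) :=
      hYp.map _
    have hYbN : Y.map (QuotientGroup.mk' ((P : Subgroup N).map N.subtype)) ≤
        Subgroup.normalizer ((N.map (QuotientGroup.mk' ((P : Subgroup N).map N.subtype)) :
          Subgroup (L ⧸ (P : Subgroup N).map N.subtype)) : Set (L ⧸ (P : Subgroup N).map N.subtype)) := by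
      rw [Subgroup.normalizer_eq_top_iff.mpr hNbn]; exact le_top
    have hsyl : ∀ (q : ℕ) (_hq : Fact q.Prime)
        (Q : Sylow q ↥(N.map (QuotientGroup.mk' ((P : Subgroup N).map N.subtype)))),
        (Q : Subgroup ↥(N.map (QuotientGroup.mk' ((P : Subgroup N).map N.subtype)))).Normal := by
      intro q _hq
      obtain ⟨Q', hQ'⟩ := exists_invariant_sylow
        (N.map (QuotientGroup.mk' ((P : Subgroup N).map N.subtype)))
        (Y.map (QuotientGroup.mk' ((P : Subgroup N).map N.subtype))) hYb hNbcard hYbN q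
      have hfr' := Sylow.normalizer_sup_eq_top Q'
      have hYX := Subgroup.map_le_iff_le_comap.mp hQ'
      have hgen : ∀ A : Subgroup (L ⧸ (P : Subgroup N).map N.subtype),
          A ⊔ N.map (QuotientGroup.mk' ((P : Subgroup N).map N.subtype)) = ⊤ →
          A.comap (QuotientGroup.mk' ((P : Subgroup N).map N.subtype)) ⊔ N = ⊤ := by
        intro A hA'
        have h1 : (N.map (QuotientGroup.mk' ((P : Subgroup N).map N.subtype))).comap
            (QuotientGroup.mk' ((P : Subgroup N).map N.subtype)) = N := comap_map_mk' _ hON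
        have h2 := Subgroup.comap_sup_eq (QuotientGroup.mk' ((P : Subgroup N).map N.subtype)) A
          (N.map (QuotientGroup.mk' ((P : Subgroup N).map N.subtype))) (QuotientGroup.mk'_surjective _)
        rw [h1, hA', Subgroup.comap_top] at h2
        exact h2
      have hXtop := hA _ hYX (hgen _ hfr')
      have hAtop := congrArg (Subgroup.map (QuotientGroup.mk' ((P : Subgroup N).map N.subtype))) hXtop
      rw [map_comap_mk', Subgroup.map_top_of_surjective _ (QuotientGroup.mk'_surjective _)] at hAtop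
      have hQn := Subgroup.normalizer_eq_top_iff.mp hAtop
      have hQnN : (Q' : Subgroup ↥(N.map (QuotientGroup.mk' ((P : Subgroup N).map N.subtype)))).Normal := by
        have := hQn.comap (N.map (QuotientGroup.mk' ((P : Subgroup N).map N.subtype))).subtype
        rwa [Subgroup.comap_map_eq_self_of_injective (Subgroup.subtype_injective _)] at this
      exact isPClosed_of_normal_sylow Q' hQnN
    have hnil : Group.IsNilpotent ↥(N.map (QuotientGroup.mk' ((P : Subgroup N).map N.subtype))) :=
      (Group.isNilpotent_of_finite_tfae.out 0 3 rfl rfl).mpr hsyl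
    let f : (↥N ⧸ Cfsg.pCore p ↥N) →* ↥(N.map (QuotientGroup.mk' ((P : Subgroup N).map N.subtype))) :=
      (QuotientGroup.kerLift ψ).comp (QuotientGroup.quotientMulEquivOfEq hker.symm).toMonoidHom
    have hf : Function.Injective f :=
      (QuotientGroup.kerLift_injective ψ).comp (QuotientGroup.quotientMulEquivOfEq hker.symm).injective
    haveI := hnil
    exact Subgroup.isNilpotent_of_ker_le_center f
      (by rw [(MonoidHom.ker_eq_bot_iff f).mpr hf]; exact bot_le)
  · have h1 : Nat.card (↥N ⧸ Cfsg.pCore p ↥N) = (P : Subgroup N).index := by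
      rw [hcore]; rfl
    rw [h1]
    exact ((Nat.Prime.coprime_iff_not_dvd hp).mpr hidx).symm

end Cfsg.Agent.Lib.Helper48
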